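import Mathlib
import Cfsg.Agent.H212.BR.Gen_m3
import Cfsg.Agent.H50.RG.Fin_m3
import Cfsg.Agent.H107.SpConj
import Cfsg.Prelude.Def_Classical
import Cfsg.Agent.LieClassical.OrthFinite
import Cfsg.Agent.H16.BR.Idx
import Cfsg.Agent.ClassicalGeometry.SympBasic
import Cfsg.Agent.H666.TraceZero
import Cfsg.Agent.H440.Bs.Rec_m3
import Cfsg.Agent.H91.PointOrb
import Cfsg.Agent.H450.Bs.Herm
import Cfsg.Agent.H450.UF.Sub
import Cfsg.Agent.H424.Spr.Two
import Cfsg.Agent.S0205
import Cfsg.Agent.FastGrp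
import Cfsg.Agent.Prune
set_option linter.all false

section
prune_inst 0x7ffca8f929b829dedfff7e7fa690cffdfd983fffa6dffdcbbfe029ef0b9f4b00c9c12b850beb80fc1e42601410f87b43f97eeeffe263d87ffffd1df41ffbfe0ffdf6b508519488340fbc0ff603f0778e7f3fffffffffffffffffffffffffff8affbfffffffff

-- part: H94/BR/SpCases_mg
section
prune_inst 0x145001002000000000000010600000221000040200000000002003040200a00000000000020000080000000000000000000000800000000000000000000000000000000400000000020000000000000000000000000000000000000000010000000000000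
set_option linter.all false
open scoped Cfsg.Agent.FastGrp

-- part: H94/BR/SpDefs
section
/-!
# HUB BR, family `Sp_{2m}(2^f)`, `m ≥ 2`: definitions (leader helper94)

`V` of dimension `2m` over the algebraically closed field `K` of characteristic `2` with the alternating form `B`,
`ρ : G → Sp(V)`, `G = Sp_{2m}(F)`.

* `sq B v` : `x ↦ B(v,x) v`;  `wd B v w` : `x ↦ B(w,x) v + B(v,x) w`;
* `Sf B` : selfadjoint endomorphisms;  `Lam B` : alternating ones (`B(Xx,x) = 0`);  `Lam0 B` : the span of the `wd B v w`,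
  `B(v,w) = 0`;
* `SpD m q F B ρ b` : `b` is a symplectic basis, `G` is generated by the `g` with `ρ g = 1 + sq B v`, `v` with
  coordinates in `F`;
* `WD B ρ σ π` : `σ` is the representation of `G` on `W = Lam0 / (Lam0 ∩ scalars)`, `π : Lam0 → W`.
-/

set_option autoImplicit false

namespace Cfsg.Agent.H94.BR

open Cfsg.Agent.H883.BR

section

variable {K V : Type} [Field K] [AddCommGroup V] [Module K V] (B : LinearMap.BilinForm K V)

/-- `x ↦ B(v,x) v` -/
def sq (v : V) : Module.End K V := (B v).smulRight v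

/-- `x ↦ B(w,x) v + B(v,x) w` -/
def wd (v w : V) : Module.End K V := (B w).smulRight v + (B v).smulRight w

theorem sq_apply (v x : V) : sq B v x = B v x • v := rfl

theorem wd_apply (v w x : V) : wd B v w x = B w x • v + B v x • w := rfl

/-- selfadjoint endomorphisms -/
def Sf : Submodule K (Module.End K V) where
  carrier := {X | ∀ x y, B (X x) y = B x (X y)}
  zero_mem' := fun x y => by simp
  add_mem' := fun {X Y} hX hY x y => by
    rw [LinearMap.add_apply, LinearMap.add_apply, map_add, map_add, LinearMap.add_apply, hX, hY]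
  smul_mem' := fun c X hX x y => by
    rw [LinearMap.smul_apply, LinearMap.smul_apply, map_smul, map_smul, LinearMap.smul_apply, hX]

/-- alternating selfadjoint endomorphisms -/
def Lam : Submodule K (Module.End K V) where
  carrier := {X | (∀ x y, B (X x) y = B x (X y)) ∧ ∀ x, B (X x) x = 0}
  zero_mem' := ⟨fun x y => by simp, fun x => by simp⟩
  add_mem' := fun {X Y} hX hY => ⟨(Sf B).add_mem hX.1 hY.1, fun x => by
    rw [LinearMap.add_apply, map_add, LinearMap.add_apply, hX.2, hY.2, add_zero]⟩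
  smul_mem' := fun c X hX => ⟨(Sf B).smul_mem c hX.1, fun x => by
    rw [LinearMap.smul_apply, map_smul, LinearMap.smul_apply, hX.2, smul_zero]⟩

theorem mem_Lam {X : Module.End K V} :
    X ∈ Lam B ↔ (∀ x y, B (X x) y = B x (X y)) ∧ ∀ x, B (X x) x = 0 := Iff.rfl

/-- the span of the `v ∧ w` with `v ⟂ w` -/
def Lam0 : Submodule K (Module.End K V) := Submodule.span K {X | ∃ v w, B v w = 0 ∧ X = wd B v w}

end

/-- **the data of `Sp_{2m}(F)`, `F` of characteristic `2` with `q` elements** -/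
structure SpD (m q : ℕ) {K : Type} [Field K] (F : Subfield K) {V : Type} [AddCommGroup V] [Module K V]
    (B : LinearMap.BilinForm K V) {G : Type} [Group G] (ρ : G →* Module.End K V)
    (b : Module.Basis (Fin m ⊕ Fin m) K V) : Prop where
  two_le : 2 ≤ m
  four_le : 4 ≤ q
  char : CharP K 2
  closed : IsAlgClosed K
  /-- every finite subset of `K` lies in a finite subfield -/
  locfin : ∀ S : Set K, S.Finite → ∃ E : Subfield K, Finite E ∧ S ⊆ E
  finF : Finite F
  cardF : Nat.card F = q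
  finG : Finite G
  qs : QS G
  alt : ∀ x, B x x = 0
  ll : ∀ i j, B (b (Sum.inl i)) (b (Sum.inl j)) = 0
  rr : ∀ i j, B (b (Sum.inr i)) (b (Sum.inr j)) = 0
  lr : ∀ i j, B (b (Sum.inl i)) (b (Sum.inr j)) = if i = j then 1 else 0
  inj : Function.Injective ρ
  iso : ∀ g x y, B (ρ g x) (ρ g y) = B x y
  /-- `ρ` is defined over `F` -/
  rat : ∀ g i j, b.repr (ρ g (b j)) i ∈ F
  /-- transvections -/
  tv : ∀ v : V, (∀ i, b.repr v i ∈ F) → ∃ g : G, ρ g = 1 + sq B v
  gen : Subgroup.closure {g : G | ∃ v : V, (∀ i, b.repr v i ∈ F) ∧ ρ g = 1 + sq B v} = ⊤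

/-- **the module `W = Lam0 / (Lam0 ∩ scalars)`** -/
structure WD {K : Type} [Field K] {V : Type} [AddCommGroup V] [Module K V] (B : LinearMap.BilinForm K V)
    {G : Type} [Group G] (ρ : G →* Module.End K V) {W : Type} [AddCommGroup W] [Module K W]
    (σ : G →* Module.End K W) (π : Lam0 B →ₗ[K] W) : Prop where
  surj : Function.Surjective π
  ker : ∀ X, π X = 0 ↔ ∃ c : K, (X : Module.End K V) = c • 1
  eqv : ∀ g (X Y : Lam0 B), (Y : Module.End K V) = ad ρ g X → π Y = σ g (π X)

/-- `φ` is an isomorphism of `M`-modules of the `2^j`-th Frobenius twist of `V` onto `W` -/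
structure Twi {K : Type} [Field K] {V W : Type} [AddCommGroup V] [Module K V] [AddCommGroup W] [Module K W]
    {G : Type} [Group G] (ρ : G →* Module.End K V) (σ : G →* Module.End K W) (M : Subgroup G) (j : ℕ)
    (φ : V → W) : Prop where
  bij : Function.Bijective φ
  add : ∀ x y, φ (x + y) = φ x + φ y
  smul : ∀ (c : K) x, φ (c • x) = c ^ 2 ^ j • φ x
  eqv : ∀ g ∈ M, ∀ x, φ (ρ g x) = σ g (φ x)

end Cfsg.Agent.H94.BR
end

-- part: H94/BR/SpBasic
section
/-!
# HUB BR, `Sp_{2m}(2^f)`: basic identities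
-/

set_option autoImplicit false

namespace Cfsg.Agent.H94.BR

open Cfsg.Agent.H883.BR

section

variable {m q : ℕ} {K : Type} [Field K] {F : Subfield K} {V : Type} [AddCommGroup V] [Module K V]
  {B : LinearMap.BilinForm K V} {G : Type} [Group G] {ρ : G →* Module.End K V}
  {b : Module.Basis (Fin m ⊕ Fin m) K V}

theorem two_zero (D : SpD m q F B ρ b) : (2 : K) = 0 := by
  have := D.char
  exact CharTwo.two_eq_zero

theorem add_self_K (D : SpD m q F B ρ b) (c : K) : c + c = 0 := by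
  have := D.char
  exact CharTwo.add_self_eq_zero c

theorem add_self_mod (D : SpD m q F B ρ b) {W : Type} [AddCommGroup W] [Module K W] (v : W) : v + v = 0 := by
  rw [← two_smul K v, two_zero D, zero_smul]

theorem symmB (D : SpD m q F B ρ b) (x y : V) : B x y = B y x := by
  have h := D.alt (x + y)
  simp only [map_add, LinearMap.add_apply, D.alt, zero_add, add_zero] at h
  have h2 := add_self_K D (B y x)
  linear_combination h - h2

theorem B_inr (D : SpD m q F B ρ b) (v : V) (i : Fin m) : B v (b (Sum.inr i)) = b.repr v (Sum.inl i) := by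
  classical
  conv_lhs => rw [← b.sum_repr v]
  rw [map_sum, LinearMap.sum_apply, Fintype.sum_sum_type]
  simp only [map_smul, LinearMap.smul_apply, D.lr, D.rr, smul_eq_mul, mul_zero, Finset.sum_const_zero, add_zero,
    mul_ite, mul_one, Finset.sum_ite_eq', Finset.mem_univ, if_true]

theorem B_inl (D : SpD m q F B ρ b) (v : V) (i : Fin m) : B v (b (Sum.inl i)) = b.repr v (Sum.inr i) := by
  classical
  conv_lhs => rw [← b.sum_repr v]
  rw [map_sum, LinearMap.sum_apply, Fintype.sum_sum_type]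
  have h : ∀ j, B (b (Sum.inr j)) (b (Sum.inl i)) = if i = j then 1 else 0 := fun j => by rw [symmB D, D.lr]
  simp only [map_smul, LinearMap.smul_apply, h, D.ll, smul_eq_mul, mul_zero, Finset.sum_const_zero, zero_add,
    mul_ite, mul_one, Finset.sum_ite_eq, Finset.mem_univ, if_true]

theorem nondeg (D : SpD m q F B ρ b) {v : V} (h : ∀ y, B v y = 0) : v = 0 := by
  refine b.repr.map_eq_zero_iff.1 (Finsupp.ext fun i => ?_)
  rcases i with i | i
  · rw [← B_inr D, h]; rfl
  · rw [← B_inl D, h]; rfl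

/-- rational vectors -/
def Rat (F : Subfield K) (b : Module.Basis (Fin m ⊕ Fin m) K V) (v : V) : Prop := ∀ i, b.repr v i ∈ F

theorem Rat.add {v w : V} (hv : Rat F b v) (hw : Rat F b w) : Rat F b (v + w) := fun i => by
  rw [map_add]; exact F.add_mem (hv i) (hw i)

theorem Rat.smul {v : V} {c : K} (hc : c ∈ F) (hv : Rat F b v) : Rat F b (c • v) := fun i => by
  rw [map_smul]; exact F.mul_mem hc (hv i)

theorem rat_basis (i : Fin m ⊕ Fin m) : Rat F b (b i) := fun j => by
  classical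
  rw [b.repr_self, Finsupp.single_apply]
  split_ifs
  · exact F.one_mem
  · exact F.zero_mem

theorem Rat.app (D : SpD m q F B ρ b) {v : V} (hv : Rat F b v) (g : G) : Rat F b (ρ g v) := fun i => by
  rw [← b.sum_repr v, map_sum, map_sum, Finsupp.coe_finsetSum, Finset.sum_apply]
  refine F.sum_mem fun j _ => ?_
  rw [map_smul, map_smul]
  exact F.mul_mem (hv j) (D.rat g i j)

theorem Rat.form (D : SpD m q F B ρ b) {v w : V} (hv : Rat F b v) (hw : Rat F b w) : B v w ∈ F := by
  rw [← b.sum_repr w, map_sum]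
  refine F.sum_mem fun j _ => ?_
  rw [map_smul]
  refine F.mul_mem (hw j) ?_
  rcases j with j | j
  · rw [B_inl D]; exact hv _
  · rw [B_inr D]; exact hv _

theorem Rat.coef {v : V} (hv : Rat F b v) (h0 : v ≠ 0) {c : K} (hc : Rat F b (c • v)) : c ∈ F := by
  obtain ⟨i, hi⟩ : ∃ i, b.repr v i ≠ 0 := by
    by_contra hcon
    push Not at hcon
    exact h0 (b.repr.map_eq_zero_iff.1 (Finsupp.ext hcon))
  have h1 := hc i
  rw [map_smul, Finsupp.smul_apply, smul_eq_mul] at h1
  have h2 := F.mul_mem h1 (F.inv_mem (hv i))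
  rwa [mul_assoc, mul_inv_cancel₀ hi, mul_one] at h2

/-! ### `sq` and `wd` -/

theorem sq_smul (c : K) (v : V) : sq B (c • v) = c ^ 2 • sq B v := LinearMap.ext fun x => by
  rw [LinearMap.smul_apply, sq_apply, sq_apply, map_smul, LinearMap.smul_apply, smul_eq_mul, smul_smul, smul_smul]
  congr 1; ring

theorem wd_comm (v w : V) : wd B v w = wd B w v := LinearMap.ext fun x => by
  rw [wd_apply, wd_apply, add_comm]

theorem wd_self (D : SpD m q F B ρ b) (v : V) : wd B v v = 0 := LinearMap.ext fun x => by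
  rw [wd_apply, add_self_mod D, LinearMap.zero_apply]

theorem wd_smul (c : K) (v w : V) : wd B v (c • w) = c • wd B v w := LinearMap.ext fun x => by
  rw [LinearMap.smul_apply, wd_apply, wd_apply, map_smul, LinearMap.smul_apply, smul_eq_mul, smul_add, smul_smul,
    smul_smul, smul_smul, mul_comm c (B v x)]

theorem smul_wd (c : K) (v w : V) : wd B (c • v) w = c • wd B v w := by
  rw [wd_comm, wd_smul, wd_comm]

theorem wd_add (v w w' : V) : wd B v (w + w') = wd B v w + wd B v w' := LinearMap.ext fun x => by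
  rw [LinearMap.add_apply, wd_apply, wd_apply, wd_apply, map_add, LinearMap.add_apply, add_smul, smul_add]
  abel

theorem add_wd (v v' w : V) : wd B (v + v') w = wd B v w + wd B v' w := by
  rw [wd_comm, wd_add, wd_comm w v, wd_comm w v']

theorem sq_add (v w : V) : sq B (v + w) = sq B v + sq B w + wd B v w := LinearMap.ext fun x => by
  rw [LinearMap.add_apply, LinearMap.add_apply, sq_apply, sq_apply, sq_apply, wd_apply, map_add,
    LinearMap.add_apply, add_smul, smul_add, smul_add]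
  abel

theorem iso_inv (D : SpD m q F B ρ b) (g : G) (x y : V) : B x (ρ g⁻¹ y) = B (ρ g x) y := by
  rw [← D.iso g x, ← Module.End.mul_apply, ← map_mul, mul_inv_cancel, map_one, Module.End.one_apply]

theorem ad_sq (D : SpD m q F B ρ b) (g : G) (v : V) : ad ρ g (sq B v) = sq B (ρ g v) := LinearMap.ext fun x => by
  rw [ad_apply, Module.End.mul_apply, Module.End.mul_apply, sq_apply, sq_apply, map_smul, iso_inv D]

theorem ad_wd (D : SpD m q F B ρ b) (g : G) (v w : V) : ad ρ g (wd B v w) = wd B (ρ g v) (ρ g w) :=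
  LinearMap.ext fun x => by
    rw [ad_apply, Module.End.mul_apply, Module.End.mul_apply, wd_apply, wd_apply, map_add, map_smul, map_smul,
      iso_inv D, iso_inv D]

theorem ad_one (g : G) : ad ρ g 1 = 1 := by
  rw [ad_apply, mul_one, ← map_mul, mul_inv_cancel, map_one]

theorem conj_eq (g z : G) : ρ (g * z * g⁻¹) = ad ρ g (ρ z) := by
  rw [ad_apply, map_mul, map_mul]

theorem ad_inv_cancel (g : G) (X : Module.End K V) : ad ρ g⁻¹ (ad ρ g X) = X := by
  rw [← Module.End.mul_apply, ← map_mul, inv_mul_cancel, map_one, Module.End.one_apply]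

theorem wd_sq_zero (D : SpD m q F B ρ b) {v w : V} (h : B v w = 0) : wd B v w * wd B v w = 0 :=
  LinearMap.ext fun x => by
    have h' : B w v = 0 := by rw [symmB D, h]
    rw [Module.End.mul_apply, wd_apply, wd_apply, map_add, map_add, map_smul, map_smul, map_smul, map_smul, D.alt,
      D.alt, h, h', smul_zero, smul_zero, add_zero, zero_smul, zero_smul, add_zero, LinearMap.zero_apply]

theorem wd_mem {v w : V} (h : B v w = 0) : wd B v w ∈ Lam0 B := Submodule.subset_span ⟨v, w, h, rfl⟩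

theorem one_ne_zeroE (D : SpD m q F B ρ b) : (1 : Module.End K V) ≠ 0 := by
  intro h
  have := congrArg (fun T : Module.End K V => T (b (Sum.inl ⟨0, by have := D.two_le; omega⟩))) h
  exact b.ne_zero _ this

/-- the vectors `y` with prescribed `B v y`, `B w y` -/
theorem exists_dual (D : SpD m q F B ρ b) {v w : V} (hv : v ≠ 0) (hw : ¬ ∃ c : K, w = c • v) :
    ∃ y, B v y = 0 ∧ B w y = 1 := by
  have hfd : FiniteDimensional K V := b.finiteDimensional_of_finite
  by_contra hcon
  push Not at hcon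
  have hk : LinearMap.ker (B v) ≤ LinearMap.ker (B w) := by
    intro y hy
    rw [LinearMap.mem_ker] at hy ⊢
    by_contra h
    refine hcon ((B w y)⁻¹ • y) ?_ ?_
    · rw [map_smul, hy, smul_zero]
    · rw [map_smul, smul_eq_mul, inv_mul_cancel₀ h]
  obtain ⟨c, hc⟩ : ∃ c : K, B w = c • B v := by
    obtain ⟨y0, hy0⟩ : ∃ y0, B v y0 ≠ 0 := by
      by_contra h
      push Not at h
      exact hv (nondeg D h)
    refine ⟨B w y0 * (B v y0)⁻¹, LinearMap.ext fun y => ?_⟩
    have h1 : y - (B v y * (B v y0)⁻¹) • y0 ∈ LinearMap.ker (B w) := hk (by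
      rw [LinearMap.mem_ker, map_sub, map_smul, smul_eq_mul, mul_assoc, inv_mul_cancel₀ hy0, mul_one, sub_self])
    rw [LinearMap.mem_ker, map_sub, map_smul, sub_eq_zero, smul_eq_mul] at h1
    rw [h1, LinearMap.smul_apply, smul_eq_mul]
    ring
  apply hw
  refine ⟨c, ?_⟩
  have : w - c • v = 0 := nondeg D fun y => by
    rw [map_sub, LinearMap.sub_apply, hc, map_smul, sub_self]
  rwa [sub_eq_zero] at this

end

end Cfsg.Agent.H94.BR
end

-- part: H94/BR/SpGoursat
section
/-!
# HUB BR, `Sp_{2m}(2^f)`: Goursat's lemma for subrings of `F × F`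
-/

set_option autoImplicit false

namespace Cfsg.Agent.H94.BR

/-- a ring endomorphism of a finite field of characteristic two is a power of Frobenius -/
theorem ringHom_pow {F : Type} [Field F] [Finite F] [CharP F 2] (τ : F →+* F) : ∃ i : ℕ, ∀ x, τ x = x ^ 2 ^ i := by
  classical
  let _ := ZMod.algebra F 2
  have : Fact (Nat.Prime 2) := ⟨Nat.prime_two⟩
  let τ' : F →ₐ[ZMod 2] F := { τ with
    commutes' := fun r => by
      have h := RingHom.ext_zmod (τ.comp (algebraMap (ZMod 2) F)) (algebraMap (ZMod 2) F)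
      exact congrArg (fun g : ZMod 2 →+* F => g r) h }
  obtain ⟨n, hn⟩ := (FiniteField.bijective_frobeniusAlgHom_pow (ZMod 2) F).2 τ'
  refine ⟨n.1, fun x => ?_⟩
  have h1 : τ x = τ' x := rfl
  rw [h1, ← hn]
  have : ∀ k : ℕ, ∀ x : F, (FiniteField.frobeniusAlgHom (ZMod 2) F ^ k) x = x ^ 2 ^ k := by
    intro k
    induction k with
    | zero => intro x; simp
    | succ k ih =>
      intro x
      rw [pow_succ, AlgHom.mul_apply, ih, FiniteField.frobeniusAlgHom_apply, ZMod.card, ← pow_mul, pow_succ, mul_comm]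
  exact this _ _

/-- Goursat -/
theorem goursat {K : Type} [Field K] [CharP K 2] {F : Subfield K} [Finite F] (S : Set (K × K))
    (hS : ∀ s ∈ S, s.1 ∈ F ∧ s.2 ∈ F) (h1 : F ≤ Subfield.closure (Prod.fst '' S))
    (h2 : F ≤ Subfield.closure (Prod.snd '' S)) :
    (∀ x ∈ F, ∀ y ∈ F, ((x, y) : K × K) ∈ Subring.closure S) ∨
    ∃ i : ℕ, (∀ x ∈ F, ((x, x ^ 2 ^ i) : K × K) ∈ Subring.closure S) ∧ ∀ s ∈ S, s.2 = s.1 ^ 2 ^ i := by
  classical
  have hR : ∀ r ∈ Subring.closure S, r.1 ∈ F ∧ r.2 ∈ F := by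
    have : Subring.closure S ≤ Subring.prod F.toSubring F.toSubring :=
      Subring.closure_le.2 fun s hs => Subring.mem_prod.2 (hS s hs)
    intro r hr
    exact Subring.mem_prod.1 (this hr)
  have hfin1 : Finite (Subfield.closure (Prod.fst '' S)) := by
    have hle : Subfield.closure (Prod.fst '' S) ≤ F := Subfield.closure_le.2 (by
      rintro _ ⟨s, hs, rfl⟩; exact (hS s hs).1)
    exact Finite.of_injective (Subfield.inclusion hle) (RingHom.injective _)
  have hfin2 : Finite (Subfield.closure (Prod.snd '' S)) := by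
    have hle : Subfield.closure (Prod.snd '' S) ≤ F := Subfield.closure_le.2 (by
      rintro _ ⟨s, hs, rfl⟩; exact (hS s hs).2)
    exact Finite.of_injective (Subfield.inclusion hle) (RingHom.injective _)
  have p1 : ∀ x ∈ F, ∃ y, ((x, y) : K × K) ∈ Subring.closure S := by
    intro x hx
    have hx' := Cfsg.Agent.H601.BR.closure_le_subring (h1 hx)
    have : Subring.closure (Prod.fst '' S) = (Subring.closure S).map (RingHom.fst K K) := by
      rw [RingHom.map_closure]; rfl
    rw [this] at hx'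
    obtain ⟨r, hr, hrx⟩ := Subring.mem_map.1 hx'
    refine ⟨r.2, ?_⟩
    have : ((x, r.2) : K × K) = r := Prod.ext hrx.symm rfl
    rw [this]; exact hr
  have p2 : ∀ y ∈ F, ∃ x, ((x, y) : K × K) ∈ Subring.closure S := by
    intro x hx
    have hx' := Cfsg.Agent.H601.BR.closure_le_subring (h2 hx)
    have : Subring.closure (Prod.snd '' S) = (Subring.closure S).map (RingHom.snd K K) := by
      rw [RingHom.map_closure]; rfl
    rw [this] at hx'
    obtain ⟨r, hr, hrx⟩ := Subring.mem_map.1 hx'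
    refine ⟨r.1, ?_⟩
    have : ((r.1, x) : K × K) = r := Prod.ext rfl hrx.symm
    rw [this]; exact hr
  by_cases hA : ∃ y, y ≠ 0 ∧ ((0, y) : K × K) ∈ Subring.closure S
  · left
    obtain ⟨y0, hy0, hy0S⟩ := hA
    have hy0F := (hR _ hy0S).2
    have key : ∀ y ∈ F, ((0, y) : K × K) ∈ Subring.closure S := by
      intro y hy
      obtain ⟨x, hx⟩ := p2 (y * y0⁻¹) (F.mul_mem hy (F.inv_mem hy0F))
      have := mul_mem hx hy0S
      rw [Prod.mk_mul_mk, mul_zero, mul_assoc, inv_mul_cancel₀ hy0, mul_one] at this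
      exact this
    intro x hx y hy
    obtain ⟨y1, hy1⟩ := p1 x hx
    have h3 := add_mem hy1 (key (y - y1) (F.sub_mem hy (hR _ hy1).2))
    rw [Prod.mk_add_mk, add_zero, add_sub_cancel] at h3
    exact h3
  · right
    push Not at hA
    have huniq : ∀ x y y', ((x, y) : K × K) ∈ Subring.closure S → ((x, y') : K × K) ∈ Subring.closure S → y = y' := by
      intro x y y' h h'
      have h3 := sub_mem h h'
      rw [Prod.mk_sub_mk, sub_self] at h3
      by_contra hne
      exact hA (y - y') (sub_ne_zero.2 hne) h3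
    choose! t ht using p1
    have hchar : CharP F 2 := (F.subtype).charP F.subtype.injective 2
    let τ : F →+* F :=
      { toFun := fun x => ⟨t x, (hR _ (ht x x.2)).2⟩
        map_one' := Subtype.ext (huniq 1 _ _ (ht 1 F.one_mem) (one_mem _))
        map_zero' := Subtype.ext (huniq 0 _ _ (ht 0 F.zero_mem) (zero_mem _))
        map_mul' := fun x y => Subtype.ext (huniq _ _ _ (ht _ (x * y).2) (mul_mem (ht x x.2) (ht y y.2)))
        map_add' := fun x y => Subtype.ext (huniq _ _ _ (ht _ (x + y).2) (add_mem (ht x x.2) (ht y y.2))) }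
    obtain ⟨i, hi⟩ := ringHom_pow τ
    have hti : ∀ x ∈ F, t x = x ^ 2 ^ i := by
      intro x hx
      exact congrArg Subtype.val (hi ⟨x, hx⟩)
    refine ⟨i, fun x hx => ?_, fun s hs => ?_⟩
    · rw [← hti x hx]; exact ht x hx
    · rw [← hti _ (hS s hs).1]
      exact huniq s.1 _ _ (Subring.subset_closure hs) (ht _ (hS s hs).1)

end Cfsg.Agent.H94.BR
end

-- part: H94/BR/SpCases
section
/-!
# HUB BR, `Sp_{2m}(2^f)`: the case analysis

`z = 1 + α v₀² + β v₀ ∧ v₁ ∈ M`; `E = {(x, y) : 1 + x v₀² + y v₀ ∧ v₁ ∈ M}` is stable under `(χ₀(b)², ψ(b))`,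
`b ∈ N_M(U)`.
-/

set_option autoImplicit false

namespace Cfsg.Agent.H94.BR

open Cfsg.Agent.H883.BR

/-- a linear curve which is not alternating -/
def CaseI {K V G : Type} [Field K] [AddCommGroup V] [Module K V] [Group G] (B : LinearMap.BilinForm K V)
    (ρ : G →* Module.End K V) (F : Subfield K) (M : Subgroup G) : Prop :=
  ∃ (v0 v1 : V) (a b : K), a ≠ 0 ∧ v0 ≠ 0 ∧ B v0 v1 = 0 ∧
    ∀ t ∈ F, ∃ g ∈ M, ρ g = 1 + t • (a • sq B v0 + b • wd B v0 v1)

/-- a curve of degree two with alternating derivative -/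
def CaseII {K V G : Type} [Field K] [AddCommGroup V] [Module K V] [Group G] (B : LinearMap.BilinForm K V)
    (ρ : G →* Module.End K V) (F : Subfield K) (M : Subgroup G) : Prop :=
  ∃ (v0 v2 : V) (e : K), v0 ≠ 0 ∧ (¬ ∃ c : K, v2 = c • v0) ∧ B v0 v2 = 0 ∧
    ∀ t ∈ F, ∃ g ∈ M, ρ g = 1 + t • wd B v0 v2 + (t ^ 2 * e) • sq B v0

section

variable {m q : ℕ} {K : Type} [Field K] {F : Subfield K} {V : Type} [AddCommGroup V] [Module K V]
  {B : LinearMap.BilinForm K V} {G : Type} [Group G] {ρ : G →* Module.End K V}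
  {b : Module.Basis (Fin m ⊕ Fin m) K V}

/-- products in the isotropic case -/
theorem mul_curve (D : SpD m q F B ρ b) {v0 v1 v1' : V} (h : B v0 v1 = 0) (h' : B v0 v1' = 0) (s s' t t' : K) :
    (1 + s • sq B v0 + t • wd B v0 v1) * (1 + s' • sq B v0 + t' • wd B v0 v1') =
      1 + (s + s' + t * t' * B v1 v1') • sq B v0 + (t • wd B v0 v1 + t' • wd B v0 v1') := by
  have h1 : B v1 v0 = 0 := by rw [symmB D, h]
  refine LinearMap.ext fun x => ?_
  simp only [Module.End.mul_apply, LinearMap.add_apply, LinearMap.smul_apply, Module.End.one_apply, sq_apply, wd_apply,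
    map_add, map_smul, D.alt, h', h1, smul_zero, add_zero, zero_smul, smul_add, smul_smul, add_smul]
  have e : ∀ c d : K, c = d → c • v0 = d • v0 := fun c d hcd => by rw [hcd]
  rw [e (t' * B v0 x * (t * B v1 v1')) (t * t' * B v1 v1' * B v0 x) (by ring)]
  abel

/-- the pairs `(x, y)` with `1 + x v₀² + y v₀ ∧ v₁ ∈ M` -/
def EE (D : SpD m q F B ρ b) (M : Subgroup G) {v0 v1 : V} (h : B v0 v1 = 0) : AddSubgroup (K × K) where
  carrier := {r | ∃ g ∈ M, ρ g = 1 + r.1 • sq B v0 + r.2 • wd B v0 v1}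
  zero_mem' := ⟨1, M.one_mem, by rw [map_one, Prod.fst_zero, Prod.snd_zero, zero_smul, zero_smul, add_zero, add_zero]⟩
  add_mem' := by
    rintro r r' ⟨g, hg, hr⟩ ⟨g', hg', hr'⟩
    refine ⟨g * g', M.mul_mem hg hg', ?_⟩
    rw [map_mul, hr, hr', mul_curve D h h, D.alt, mul_zero, add_zero, Prod.fst_add, Prod.snd_add, ← add_smul]
  neg_mem' := by
    rintro r ⟨g, hg, hr⟩
    refine ⟨g, hg, ?_⟩
    have e1 : (-r).1 = r.1 := by
      rw [Prod.fst_neg]; exact (eq_neg_of_add_eq_zero_left (add_self_K D r.1)).symm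
    have e2 : (-r).2 = r.2 := by
      rw [Prod.snd_neg]; exact (eq_neg_of_add_eq_zero_left (add_self_K D r.2)).symm
    rw [hr, e1, e2]

/-- conjugation -/
theorem ad_curve (D : SpD m q F B ρ b) (g : G) (v0 v1 : V) (s t : K) :
    ad ρ g (1 + s • sq B v0 + t • wd B v0 v1) = 1 + s • sq B (ρ g v0) + t • wd B (ρ g v0) (ρ g v1) := by
  rw [map_add, map_add, ad_one, map_smul, map_smul, ad_sq D, ad_wd D]

theorem EE_mul (D : SpD m q F B ρ b) {M : Subgroup G} {v0 v1 : V} {h : B v0 v1 = 0} {g : G} (hg : g ∈ M) {c d : K}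
    (hc : ρ g v0 = c • v0) (hd : ad ρ g (wd B v0 v1) = d • wd B v0 v1) {r : K × K} (hr : r ∈ EE D M h) :
    (c ^ 2, d) * r ∈ EE D M h := by
  obtain ⟨z, hz, hzr⟩ := hr
  refine ⟨g * z * g⁻¹, M.mul_mem (M.mul_mem hg hz) (M.inv_mem hg), ?_⟩
  rw [conj_eq, hzr, map_add, map_add, ad_one, map_smul, map_smul, ad_sq D, hc, sq_smul, hd, smul_smul, smul_smul,
    Prod.fst_mul, Prod.snd_mul, mul_comm (c ^ 2), mul_comm d]

theorem closure_mul (D : SpD m q F B ρ b) {M : Subgroup G} {v0 v1 : V} {h : B v0 v1 = 0} {S : Set (K × K)}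
    (hS : ∀ s ∈ S, ∀ r ∈ EE D M h, s * r ∈ EE D M h) {s : K × K} (hs : s ∈ Subring.closure S) :
    ∀ r ∈ EE D M h, s * r ∈ EE D M h := by
  induction hs using Subring.closure_induction with
  | mem x hx => exact hS x hx
  | zero => intro r _; rw [zero_mul]; exact zero_mem _
  | one => intro r hr; rw [one_mul]; exact hr
  | add x y _ _ hx hy => intro r hr; rw [add_mul]; exact add_mem (hx r hr) (hy r hr)
  | neg x _ hx => intro r hr; rw [neg_mul]; exact neg_mem (hx r hr)
  | mul x y _ _ hx hy => intro r hr; rw [mul_assoc]; exact hx _ (hy r hr)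

/-- squares in a finite field of characteristic two -/
theorem exists_pow (D : SpD m q F B ρ b) (i : ℕ) {x : K} (hx : x ∈ F) : ∃ y ∈ F, y ^ 2 ^ i = x := by
  have := D.finF
  have := D.char
  have hchar : CharP F 2 := (F.subtype).charP F.subtype.injective 2
  have hinj : Function.Injective fun y : F => y ^ 2 ^ i := by
    intro y z hyz
    have h1 : iterateFrobenius F 2 i y = iterateFrobenius F 2 i z := by
      rw [iterateFrobenius_def, iterateFrobenius_def]; exact hyz
    exact (iterateFrobenius F 2 i).injective h1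
  obtain ⟨y, hy⟩ := Finite.surjective_of_injective hinj ⟨x, hx⟩
  exact ⟨y, y.2, congrArg Subtype.val hy⟩

variable {W : Type} [AddCommGroup W] [Module K W] {σ : G →* Module.End K W} {π : Lam0 B →ₗ[K] W}

/-- the line of `v₀ ∧ v₁` in `W` and in `End V` -/
theorem W_line (D : SpD m q F B ρ b) (hW : WD B ρ σ π) {v0 v1 : V} (h : B v0 v1 = 0) {Y0 : Lam0 B}
    (hY0 : (Y0 : Module.End K V) = wd B v0 v1) (g : G) (c : K) :
    σ g (π Y0) = c • π Y0 ↔ ad ρ g (wd B v0 v1) = c • wd B v0 v1 := by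
  have hm : wd B (ρ g v0) (ρ g v1) ∈ Lam0 B := wd_mem (by rw [D.iso, h])
  let Y1 : Lam0 B := ⟨_, hm⟩
  have hY1 : (Y1 : Module.End K V) = ad ρ g Y0 := by rw [hY0, ad_wd D]
  have h1 := hW.eqv g Y0 Y1 hY1
  rw [← h1]
  constructor
  · intro h2
    have h3 : π (Y1 - c • Y0) = 0 := by rw [map_sub, map_smul, h2, sub_self]
    obtain ⟨s, hs⟩ := (hW.ker _).1 h3
    have hs' : ad ρ g (wd B v0 v1) = c • wd B v0 v1 + s • 1 := by
      rw [← hs, Submodule.coe_sub, Submodule.coe_smul, hY1, hY0]; abel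
    have hN1 : ad ρ g (wd B v0 v1) * ad ρ g (wd B v0 v1) = 0 := by
      rw [ad_wd D]; exact wd_sq_zero D (by rw [D.iso, h])
    rw [hs', add_mul, mul_add, mul_add, smul_mul_smul_comm, wd_sq_zero D h, smul_zero, zero_add, smul_mul_smul_comm,
      smul_mul_smul_comm, smul_mul_smul_comm, mul_one, one_mul, mul_one, mul_comm s c, ← add_assoc,
      add_self_mod D, zero_add] at hN1
    have hs0 : s = 0 := by
      by_contra hs0
      exact one_ne_zeroE D ((smul_eq_zero.1 hN1).resolve_left (mul_ne_zero hs0 hs0))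
    rw [hs', hs0, zero_smul, add_zero]
  · intro h2
    have h3 : Y1 = c • Y0 := Subtype.ext (by rw [hY1, Submodule.coe_smul, hY0, h2])
    rw [h3, map_smul]

/-- **the case analysis** -/
theorem cases_core (D : SpD m q F B ρ b) (hW : WD B ρ σ π) {M : Subgroup G} {U : Subgroup M}
    {v0 v1 : V} (r0 : Rat F b v0) (r1 : Rat F b v1) (hv0 : v0 ≠ 0) (h01 : B v0 v1 = 0) (hv1 : ¬ ∃ c : K, v1 = c • v0)
    (hv : ∀ x : V, (∀ u ∈ U, ρ (u : G) x = x) ↔ ∃ c : K, x = c • v0) {Y0 : Lam0 B}
    (hY0 : (Y0 : Module.End K V) = wd B v0 v1)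
    (hwU : ∀ x : W, (∀ u ∈ U, σ (u : G) x = x) ↔ ∃ c : K, x = c • π Y0)
    {α β : K} (hαβ : α ≠ 0 ∨ β ≠ 0)
    (hz : ∃ z ∈ M, ρ z = 1 + α • sq B v0 + β • wd B v0 v1)
    (hF0 : F ≤ Subfield.closure {c | ∃ g : M, (∀ u ∈ U, g * u * g⁻¹ ∈ U) ∧ ρ (g : G) v0 = c • v0})
    (hF1 : F ≤ Subfield.closure {c | ∃ g : M, (∀ u ∈ U, g * u * g⁻¹ ∈ U) ∧ σ (g : G) (π Y0) = c • π Y0}) :
    CaseI B ρ F M ∨ CaseII B ρ F M ∨
      ((∀ g : M, (∃ c : K, ρ (g : G) v0 = c • v0) ↔ ∃ c : K, σ (g : G) (π Y0) = c • π Y0) ∧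
        ∃ j : ℕ, ∀ (g : M) (c : K), (∀ u ∈ U, g * u * g⁻¹ ∈ U) → ρ (g : G) v0 = c • v0 →
          σ (g : G) (π Y0) = c ^ 2 ^ j • π Y0) := by
  classical
  have := D.finF
  have hch := D.char
  have hcl := D.closed
  -- the line of `v₀ ∧ v₁`
  have hN0 : wd B v0 v1 ≠ 0 := by
    intro h0
    obtain ⟨y, hy0, hy1⟩ := exists_dual D hv0 hv1
    have := congrArg (fun T : Module.End K V => T y) h0
    simp only [wd_apply, hy0, hy1, one_smul, zero_smul, add_zero, LinearMap.zero_apply] at this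
    exact hv0 this
  have hπ0 : π Y0 ≠ 0 := by
    intro h0
    obtain ⟨s, hs⟩ := (hW.ker _).1 h0
    rw [hY0] at hs
    have h1 := wd_sq_zero D h01
    rw [hs, smul_mul_smul_comm, mul_one] at h1
    have hs0 : s = 0 := by
      by_contra hs0
      exact one_ne_zeroE D ((smul_eq_zero.1 h1).resolve_left (mul_ne_zero hs0 hs0))
    rw [hs0, zero_smul] at hs
    exact hN0 hs
  -- rational eigenvalues
  have cF : ∀ (g : G) (c : K), ρ g v0 = c • v0 → c ∈ F := fun g c h => r0.coef hv0 (by rw [← h]; exact r0.app D g)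
  have dF : ∀ (g : G) (c : K), ad ρ g (wd B v0 v1) = c • wd B v0 v1 → c ∈ F := by
    intro g c h
    obtain ⟨i, hi⟩ : ∃ i, wd B v0 v1 (b i) ≠ 0 := by
      by_contra hcon
      push Not at hcon
      exact hN0 (b.ext fun i => by rw [hcon, LinearMap.zero_apply])
    have r2 : Rat F b (wd B v0 v1 (b i)) := by
      rw [wd_apply]
      exact (r0.smul (r1.form D (rat_basis i))).add (r1.smul (r0.form D (rat_basis i)))
    refine r2.coef hi ?_
    have h2 := congrArg (fun T : Module.End K V => T (b i)) h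
    simp only [LinearMap.smul_apply] at h2
    rw [← h2, ad_wd D, wd_apply]
    exact ((r0.app D g).smul ((r1.app D g).form D (rat_basis i))).add
      ((r1.app D g).smul ((r0.app D g).form D (rat_basis i)))
  -- eigenvalues of `N(U)`
  have ev0 : ∀ g : M, (∀ u ∈ U, g * u * g⁻¹ ∈ U) → ∃ c : K, c ≠ 0 ∧ ρ (g : G) v0 = c • v0 := by
    intro g hg
    have h1 : ∀ u ∈ U, ρ (u : G) (ρ (g : G)⁻¹ v0) = ρ (g : G)⁻¹ v0 := by
      intro u hu
      have h2 := (hv v0).2 ⟨1, by rw [one_smul]⟩ _ (hg u hu)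
      have h3 : ρ ((g : G)⁻¹) (ρ ((g * u * g⁻¹ : M) : G) v0) = ρ (u : G) (ρ (g : G)⁻¹ v0) := by
        rw [← Module.End.mul_apply, ← Module.End.mul_apply, ← map_mul, ← map_mul]
        congr 2
        simp only [Subgroup.coe_mul, Subgroup.coe_inv]
        group
      rw [← h3, h2]
    obtain ⟨c, hc⟩ := (hv _).1 h1
    have h4 : v0 = c • ρ (g : G) v0 := by
      have h5 := congrArg (ρ (g : G)) hc
      rwa [← Module.End.mul_apply, ← map_mul, mul_inv_cancel, map_one, Module.End.one_apply, map_smul] at h5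
    have hc0 : c ≠ 0 := by
      rintro rfl
      rw [zero_smul] at h4
      exact hv0 h4
    refine ⟨c⁻¹, inv_ne_zero hc0, ?_⟩
    conv_rhs => rw [h4]
    rw [smul_smul, inv_mul_cancel₀ hc0, one_smul]
  have ev1 : ∀ g : M, (∀ u ∈ U, g * u * g⁻¹ ∈ U) → ∃ c : K, c ≠ 0 ∧ σ (g : G) (π Y0) = c • π Y0 := by
    intro g hg
    have h1 : ∀ u ∈ U, σ (u : G) (σ (g : G)⁻¹ (π Y0)) = σ (g : G)⁻¹ (π Y0) := by
      intro u hu
      have h2 := (hwU (π Y0)).2 ⟨1, by rw [one_smul]⟩ _ (hg u hu)
      have h3 : σ ((g : G)⁻¹) (σ ((g * u * g⁻¹ : M) : G) (π Y0)) = σ (u : G) (σ (g : G)⁻¹ (π Y0)) := by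
        rw [← Module.End.mul_apply, ← Module.End.mul_apply, ← map_mul, ← map_mul]
        congr 2
        simp only [Subgroup.coe_mul, Subgroup.coe_inv]
        group
      rw [← h3, h2]
    obtain ⟨c, hc⟩ := (hwU _).1 h1
    have h4 : π Y0 = c • σ (g : G) (π Y0) := by
      have h5 := congrArg (σ (g : G)) hc
      rwa [← Module.End.mul_apply, ← map_mul, mul_inv_cancel, map_one, Module.End.one_apply, map_smul] at h5
    have hc0 : c ≠ 0 := by
      rintro rfl
      rw [zero_smul] at h4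
      exact hπ0 h4
    refine ⟨c⁻¹, inv_ne_zero hc0, ?_⟩
    conv_rhs => rw [h4]
    rw [smul_smul, inv_mul_cancel₀ hc0, one_smul]
  have uniq0 : ∀ {c c' : K}, c • v0 = c' • v0 → c = c' := fun h => smul_left_injective K hv0 h
  have uniq1 : ∀ {c c' : K}, c • π Y0 = c' • π Y0 → c = c' := fun h => smul_left_injective K hπ0 h
  -- the set of pairs
  let S : Set (K × K) := {s | ∃ g : M, (∀ u ∈ U, g * u * g⁻¹ ∈ U) ∧
    ∃ c, ρ (g : G) v0 = c • v0 ∧ s.1 = c ^ 2 ∧ σ (g : G) (π Y0) = s.2 • π Y0}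
  have hSF : ∀ s ∈ S, s.1 ∈ F ∧ s.2 ∈ F := by
    rintro s ⟨g, -, c, hc, h1, h2⟩
    exact ⟨by rw [h1]; exact F.pow_mem (cF _ _ hc) 2, dF _ _ ((W_line D hW h01 hY0 _ _).1 h2)⟩
  have hSE : ∀ s ∈ S, ∀ r ∈ EE D M h01, s * r ∈ EE D M h01 := by
    rintro s ⟨g, -, c, hc, h1, h2⟩ r hr
    have : s = (c ^ 2, s.2) := Prod.ext h1 rfl
    rw [this]
    exact EE_mul D g.2 hc ((W_line D hW h01 hY0 _ _).1 h2) hr
  have hS1 : F ≤ Subfield.closure (Prod.fst '' S) := by
    intro x hx
    obtain ⟨y, hy, rfl⟩ := exists_pow D 1 hx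
    have h1 : (frobenius K 2) y ∈ (Subfield.closure {c | ∃ g : M, (∀ u ∈ U, g * u * g⁻¹ ∈ U) ∧
        ρ (g : G) v0 = c • v0}).map (frobenius K 2) := ⟨y, hF0 hy, rfl⟩
    rw [RingHom.map_field_closure] at h1
    rw [pow_one]
    refine Subfield.closure_mono ?_ h1
    rintro _ ⟨c, ⟨g, hg, hc⟩, rfl⟩
    obtain ⟨d, -, hd⟩ := ev1 g hg
    exact ⟨(c ^ 2, d), ⟨g, hg, c, hc, rfl, hd⟩, rfl⟩
  have hS2 : F ≤ Subfield.closure (Prod.snd '' S) := by
    refine hF1.trans (Subfield.closure_mono ?_)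
    rintro d ⟨g, hg, hd⟩
    obtain ⟨c, -, hc⟩ := ev0 g hg
    exact ⟨(c ^ 2, d), ⟨g, hg, c, hc, rfl, hd⟩, rfl⟩
  have hzE : ((α, β) : K × K) ∈ EE D M h01 := hz
  rcases goursat S hSF hS1 hS2 with hG | ⟨i, hi, hS⟩
  · -- the product
    by_cases hα0 : α = 0
    · right; left
      have hβ0 : β ≠ 0 := hαβ.resolve_left (not_not.2 hα0)
      refine ⟨v0, β • v1, 0, hv0, ?_, by rw [map_smul, h01, smul_zero], fun t ht => ?_⟩
      · rintro ⟨c, hc⟩
        exact hv1 ⟨β⁻¹ * c, by rw [← smul_smul, ← hc, smul_smul, inv_mul_cancel₀ hβ0, one_smul]⟩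
      · obtain ⟨g, hg, h2⟩ := closure_mul D hSE (hG 0 F.zero_mem t ht) _ hzE
        refine ⟨g, hg, ?_⟩
        rw [h2, Prod.fst_mul, Prod.snd_mul, zero_mul, zero_smul, add_zero, mul_zero, zero_smul, add_zero, wd_smul,
          smul_smul]
    · left
      refine ⟨v0, v1, α, 0, hα0, hv0, h01, fun t ht => ?_⟩
      obtain ⟨g, hg, h2⟩ := closure_mul D hSE (hG t ht 0 F.zero_mem) _ hzE
      refine ⟨g, hg, ?_⟩
      rw [h2, Prod.fst_mul, Prod.snd_mul, zero_mul, zero_smul, add_zero, add_zero, smul_smul]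
  · -- the graph
    have hx : ∀ x ∈ F, ∃ g ∈ M, ρ g = 1 + (x * α) • sq B v0 + (x ^ 2 ^ i * β) • wd B v0 v1 := by
      intro x hxF
      exact closure_mul D hSE (hi x hxF) _ hzE
    by_cases hα0 : α = 0
    · right; left
      have hβ0 : β ≠ 0 := hαβ.resolve_left (not_not.2 hα0)
      refine ⟨v0, β • v1, 0, hv0, ?_, by rw [map_smul, h01, smul_zero], fun t ht => ?_⟩
      · rintro ⟨c, hc⟩
        exact hv1 ⟨β⁻¹ * c, by rw [← smul_smul, ← hc, smul_smul, inv_mul_cancel₀ hβ0, one_smul]⟩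
      · obtain ⟨x, hxF, rfl⟩ := exists_pow D i ht
        obtain ⟨g, hg, h2⟩ := hx x hxF
        refine ⟨g, hg, ?_⟩
        rw [h2, hα0, mul_zero, zero_smul, add_zero, mul_zero, zero_smul, add_zero, wd_smul, smul_smul]
    by_cases hβ0 : β = 0
    · left
      refine ⟨v0, v1, α, 0, hα0, hv0, h01, fun t ht => ?_⟩
      obtain ⟨g, hg, h2⟩ := hx t ht
      refine ⟨g, hg, ?_⟩
      rw [h2, hβ0, mul_zero, zero_smul, add_zero, add_zero, smul_smul]
    by_cases hPQ : ∀ g : M, (∃ c : K, ρ (g : G) v0 = c • v0) → ∃ c : K, σ (g : G) (π Y0) = c • π Y0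
    swap
    · -- degree two
      right; left
      push Not at hPQ
      obtain ⟨g, ⟨l, hl⟩, hg⟩ := hPQ
      have hlF := cF _ _ hl
      have hl0 : l ≠ 0 := by
        rintro rfl
        rw [zero_smul] at hl
        have h5 := congrArg (ρ ((g : G)⁻¹)) hl
        rw [← Module.End.mul_apply, ← map_mul, inv_mul_cancel, map_one, Module.End.one_apply, map_zero] at h5
        exact hv0 h5
      have h0g : B v0 (ρ (g : G) v1) = 0 := by
        have h5 := D.iso (g : G) v0 v1
        rw [hl, h01, map_smul, LinearMap.smul_apply, smul_eq_mul] at h5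
        exact (mul_eq_zero.1 h5).resolve_left hl0
      have hgv : ∀ a d : K, ρ (g : G) v1 ≠ a • v0 + d • v1 := by
        intro a d h5
        refine hg (l * d) ((W_line D hW h01 hY0 _ _).2 ?_)
        rw [ad_wd D, hl, h5, wd_add, wd_smul, wd_smul, smul_wd, smul_wd, wd_self D, smul_zero, smul_zero, zero_add,
          smul_smul, mul_comm d l]
      let β' : K := (l⁻¹ ^ 2) ^ 2 ^ i * β * l
      have hβ' : β' ≠ 0 := mul_ne_zero (mul_ne_zero (pow_ne_zero _ (pow_ne_zero _ (inv_ne_zero hl0))) hβ0) hl0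
      refine ⟨v0, β • v1 + β' • ρ (g : G) v1, β * β' * B v1 (ρ (g : G) v1), hv0, ?_, ?_, fun t ht => ?_⟩
      · rintro ⟨c, hc⟩
        refine hgv (β'⁻¹ * c) (-(β'⁻¹ * β)) ?_
        rw [← smul_smul, ← hc, smul_add, smul_smul, smul_smul, inv_mul_cancel₀ hβ', one_smul, neg_smul]
        abel
      · rw [map_add, map_smul, map_smul, h01, h0g, smul_zero, smul_zero, add_zero]
      · obtain ⟨x, hxF, rfl⟩ := exists_pow D i ht
        obtain ⟨z, hzM, hzx⟩ := hx x hxF
        obtain ⟨z', hz'M, hzx'⟩ := hx (x * l⁻¹ ^ 2) (F.mul_mem hxF (F.pow_mem (F.inv_mem hlF) 2))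
        refine ⟨z * (g * z' * (g : G)⁻¹), M.mul_mem hzM (M.mul_mem (M.mul_mem g.2 hz'M) (M.inv_mem g.2)), ?_⟩
        have e1 : (x * l⁻¹ ^ 2 * α) • sq B (l • v0) = (x * α) • sq B v0 := by
          rw [sq_smul, smul_smul]
          congr 1
          field_simp
        have e2 : ((x * l⁻¹ ^ 2) ^ 2 ^ i * β) • wd B (l • v0) (ρ (g : G) v1) =
            (x ^ 2 ^ i * β') • wd B v0 (ρ (g : G) v1) := by
          rw [smul_wd, smul_smul]
          congr 1
          rw [mul_pow]
          ring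
        rw [map_mul, conj_eq, hzx, hzx', ad_curve D, hl, e1, e2, mul_curve D h01 h0g, add_self_K D, zero_add, wd_add,
          wd_smul, wd_smul, smul_add, smul_smul, smul_smul]
        have e3 : x ^ 2 ^ i * β * (x ^ 2 ^ i * β') * B v1 (ρ (g : G) v1) =
            (x ^ 2 ^ i) ^ 2 * (β * β' * B v1 (ρ (g : G) v1)) := by ring
        rw [e3, add_assoc, add_assoc, add_comm (((x ^ 2 ^ i) ^ 2 * (β * β' * B v1 (ρ (g : G) v1))) • sq B v0)]
    by_cases hQP : ∀ g : M, (∃ c : K, σ (g : G) (π Y0) = c • π Y0) → ∃ c : K, ρ (g : G) v0 = c • v0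
    swap
    · -- two commuting conjugates
      left
      push Not at hQP
      obtain ⟨g, ⟨c, hc⟩, hg⟩ := hQP
      have hc' := (W_line D hW h01 hY0 _ _).1 hc
      have hcF := dF _ _ hc'
      have hc0 : c ≠ 0 := by
        rintro rfl
        rw [zero_smul] at hc'
        have h5 := ad_inv_cancel (ρ := ρ) (g : G) (wd B v0 v1)
        rw [hc', map_zero] at h5
        exact hN0 h5.symm
      -- `g v₀` lies in the plane
      obtain ⟨c1, c2, hu⟩ : ∃ c1 c2 : K, ρ (g : G) v0 = c1 • v0 + c2 • v1 := by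
        have hgv0 : ρ (g : G) v0 ≠ 0 := by
          intro h5
          exact hg 0 (by rw [h5, zero_smul])
        have hgv1 : ¬ ∃ d : K, ρ (g : G) v1 = d • ρ (g : G) v0 := by
          rintro ⟨d, hd⟩
          refine hv1 ⟨d, ?_⟩
          have h5 := congrArg (ρ ((g : G)⁻¹)) hd
          rwa [map_smul, ← Module.End.mul_apply, ← Module.End.mul_apply, ← map_mul, inv_mul_cancel, map_one,
            Module.End.one_apply, Module.End.one_apply] at h5
        obtain ⟨y, hy0, hy1⟩ := exists_dual D hgv0 hgv1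
        have h6 := congrArg (fun T : Module.End K V => T y) hc'
        simp only [LinearMap.smul_apply] at h6
        rw [ad_wd D, wd_apply, wd_apply, hy0, hy1, one_smul, zero_smul, add_zero, smul_add, smul_smul, smul_smul] at h6
        exact ⟨_, _, h6⟩
      have h0u : B v0 (ρ (g : G) v0) = 0 := by
        rw [hu, map_add, map_smul, map_smul, D.alt, h01, smul_zero, smul_zero, add_zero]
      obtain ⟨k, hkF, hk⟩ := exists_pow D i (F.inv_mem hcF)
      have hk0 : k ≠ 0 := by
        rintro rfl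
        rw [zero_pow (pow_ne_zero _ two_ne_zero)] at hk
        exact inv_ne_zero hc0 hk.symm
      obtain ⟨a, ha⟩ := IsAlgClosed.exists_pow_nat_eq α (n := 2) (by norm_num)
      obtain ⟨d, hd⟩ := IsAlgClosed.exists_pow_nat_eq (k * α) (n := 2) (by norm_num)
      have hd0 : d ≠ 0 := by
        rintro rfl
        rw [zero_pow two_ne_zero] at hd
        exact mul_ne_zero hk0 hα0 hd.symm
      have ha0 : a ≠ 0 := by
        rintro rfl
        rw [zero_pow two_ne_zero] at ha
        exact hα0 ha.symm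
      refine ⟨a • v0 + d • ρ (g : G) v0, v0, 1, a, one_ne_zero, ?_, ?_, fun t ht => ?_⟩
      · intro h5
        refine hg (-(d⁻¹ * a)) ?_
        have h6 : d • ρ (g : G) v0 = - (a • v0) := eq_neg_of_add_eq_zero_right h5
        rw [neg_smul, ← smul_smul, ← smul_neg, ← h6, smul_smul, inv_mul_cancel₀ hd0, one_smul]
      · rw [map_add, LinearMap.add_apply, map_smul, map_smul, LinearMap.smul_apply, LinearMap.smul_apply, D.alt,
          symmB D, h0u, smul_zero, smul_zero, add_zero]
      · obtain ⟨z, hzM, hzx⟩ := hx t ht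
        obtain ⟨z', hz'M, hzx'⟩ := hx (t * k) (F.mul_mem ht hkF)
        refine ⟨z * (g * z' * (g : G)⁻¹), M.mul_mem hzM (M.mul_mem (M.mul_mem g.2 hz'M) (M.inv_mem g.2)), ?_⟩
        have e1 : ad ρ (g : G) (1 + (t * k * α) • sq B v0 + ((t * k) ^ 2 ^ i * β) • wd B v0 v1) =
            1 + (t * k * α) • sq B (ρ (g : G) v0) + (t ^ 2 ^ i * β) • wd B v0 v1 := by
          rw [map_add, map_add, ad_one, map_smul, map_smul, ad_sq D, hc', smul_smul, mul_pow, hk]
          congr 2
          field_simp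
        have e2 : a • wd B (a • v0 + d • ρ (g : G) v0) v0 = (a * d) • wd B v0 (ρ (g : G) v0) := by
          rw [add_wd, smul_wd, smul_wd, wd_self D, smul_zero, zero_add, smul_smul, wd_comm]
        have e3 : sq B (a • v0 + d • ρ (g : G) v0) =
            α • sq B v0 + (k * α) • sq B (ρ (g : G) v0) + (a * d) • wd B v0 (ρ (g : G) v0) := by
          rw [sq_add, sq_smul, sq_smul, ha, hd, smul_wd, wd_smul, smul_smul]
        have e4 : (1 : K) • sq B (a • v0 + d • ρ (g : G) v0) + a • wd B (a • v0 + d • ρ (g : G) v0) v0 =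
            α • sq B v0 + (k * α) • sq B (ρ (g : G) v0) := by
          rw [one_smul, e2, e3, add_assoc, add_self_mod D, add_zero]
        rw [e4, map_mul, conj_eq, hzx, hzx', e1]
        -- the product
        have e5 : ∀ s s' r : K, (1 + s • sq B v0 + r • wd B v0 v1) *
            (1 + s' • sq B (ρ (g : G) v0) + r • wd B v0 v1) = 1 + s • sq B v0 + s' • sq B (ρ (g : G) v0) := by
          intro s s' r
          have h10 : B v1 v0 = 0 := by rw [symmB D, h01]
          have hu0 : B (ρ (g : G) v0) v0 = 0 := by rw [symmB D, h0u]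
          have h1u : B v1 (ρ (g : G) v0) = 0 := by
            rw [hu, map_add, map_smul, map_smul, D.alt, h10, smul_zero, smul_zero, add_zero]
          have hu1 : B (ρ (g : G) v0) v1 = 0 := by rw [symmB D, h1u]
          refine LinearMap.ext fun x => ?_
          simp only [Module.End.mul_apply, LinearMap.add_apply, LinearMap.smul_apply, Module.End.one_apply, sq_apply,
            wd_apply, map_add, map_smul, D.alt, h0u, h1u, h01, h10, smul_zero, add_zero, zero_smul, smul_add, smul_smul]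
          have h7 : ∀ v : V, v + v = 0 := fun v => add_self_mod D v
          have h8 := h7 ((r * B v1 x) • v0)
          have h9 := h7 ((r * B v0 x) • v1)
          calc _ = x + (s * B v0 x) • v0 + (s' * B (ρ (g : G) v0) x) • ρ (g : G) v0 +
              (((r * B v1 x) • v0 + (r * B v1 x) • v0) + ((r * B v0 x) • v1 + (r * B v0 x) • v1)) := by abel
            _ = _ := by rw [h8, h9, add_zero, add_zero]
        rw [e5, smul_add, smul_smul, smul_smul, ← mul_assoc, add_assoc]
    · -- equal stabilisers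
      right; right
      refine ⟨fun g => ⟨hPQ g, hQP g⟩, i + 1, fun g c hg hc => ?_⟩
      obtain ⟨d, -, hd⟩ := ev1 g hg
      have h1 := hS (c ^ 2, d) ⟨g, hg, c, hc, rfl, hd⟩
      have h2 : c ^ 2 ^ (i + 1) = d := by
        have h3 : d = (c ^ 2) ^ 2 ^ i := h1
        rw [h3, ← pow_mul, pow_succ, mul_comm]
      rw [h2, hd]

end

end Cfsg.Agent.H94.BR
end

-- part: H601/BR/SpW
section
/-!
# HUB BR, family `Sp_{2m}(2^f)`: T4, the module `W`

Hypotheses on the module structure of `End V` (T1) are explicit arguments.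
-/

set_option autoImplicit false

namespace Cfsg.Agent.H601.BR

open Cfsg.Agent.H883.BR Cfsg.Agent.H94.BR

variable {m q : ℕ} {K : Type} [Field K] {F : Subfield K} {V : Type} [AddCommGroup V] [Module K V]
  {B : LinearMap.BilinForm K V} {G : Type} [Group G] {ρ : G →* Module.End K V}
  {b : Module.Basis (Fin m ⊕ Fin m) K V}

/-! ### elementary facts -/

theorem sp_two (D : SpD m q F B ρ b) : (2 : K) = 0 := by
  have := D.char
  exact CharTwo.two_eq_zero

theorem sp_dbl (D : SpD m q F B ρ b) {M : Type*} [AddCommGroup M] [Module K M] (x : M) : x + x = 0 := by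
  rw [← two_smul K x, sp_two D, zero_smul]

theorem sp_swap (D : SpD m q F B ρ b) (x y : V) : B x y = B y x := by
  have h2 := sp_two D
  have h1 := D.alt (x + y)
  simp only [map_add, LinearMap.add_apply, D.alt, zero_add, add_zero] at h1
  linear_combination h1 - (B y x) * h2

theorem sp_repr_inl (D : SpD m q F B ρ b) (v : V) (j : Fin m) : b.repr v (Sum.inl j) = B v (b (Sum.inr j)) := by
  conv_rhs => rw [← b.sum_repr v]
  rw [Fintype.sum_sum_type, map_add, map_sum, map_sum, LinearMap.add_apply, LinearMap.sum_apply, LinearMap.sum_apply]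
  simp [D.lr, D.rr]

theorem sp_repr_inr (D : SpD m q F B ρ b) (v : V) (j : Fin m) : b.repr v (Sum.inr j) = B v (b (Sum.inl j)) := by
  have h : ∀ i, B (b (Sum.inr i)) (b (Sum.inl j)) = if j = i then 1 else 0 := fun i => by
    rw [sp_swap D, D.lr]
  conv_rhs => rw [← b.sum_repr v]
  rw [Fintype.sum_sum_type, map_add, map_sum, map_sum, LinearMap.add_apply, LinearMap.sum_apply, LinearMap.sum_apply]
  simp [h, D.ll]

/-- the form is nondegenerate -/
theorem sp_nd (D : SpD m q F B ρ b) {v : V} (h : ∀ x, B v x = 0) : v = 0 := by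
  refine b.ext_elem fun i => ?_
  rw [map_zero, Finsupp.zero_apply]
  rcases i with i | i
  · rw [sp_repr_inl D, h]
  · rw [sp_repr_inr D, h]

/-- the form in coordinates -/
theorem sp_form (D : SpD m q F B ρ b) (x y : V) : B x y =
    ∑ i, (b.repr x (Sum.inl i) * b.repr y (Sum.inr i) + b.repr x (Sum.inr i) * b.repr y (Sum.inl i)) := by
  conv_lhs => rw [← b.sum_repr x]
  rw [Fintype.sum_sum_type, map_add, map_sum, map_sum, LinearMap.add_apply, LinearMap.sum_apply, LinearMap.sum_apply,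
    Finset.sum_add_distrib]
  congr 1
  · refine Finset.sum_congr rfl fun i _ => ?_
    rw [map_smul, LinearMap.smul_apply, sp_swap D, ← sp_repr_inr D, smul_eq_mul]
  · refine Finset.sum_congr rfl fun i _ => ?_
    rw [map_smul, LinearMap.smul_apply, sp_swap D, ← sp_repr_inl D, smul_eq_mul]

theorem sp_rho_inv (g : G) (x : V) : ρ g (ρ g⁻¹ x) = x := by
  rw [← Module.End.mul_apply, ← map_mul, mul_inv_cancel, map_one, Module.End.one_apply]

theorem sp_adj (D : SpD m q F B ρ b) (g : G) (x y : V) : B x (ρ g⁻¹ y) = B (ρ g x) y := by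
  rw [← D.iso g, sp_rho_inv]

theorem ad_apply_apply (g : G) (X : Module.End K V) (x : V) : ad ρ g X x = ρ g (X (ρ g⁻¹ x)) := rfl

theorem ad_sq (D : SpD m q F B ρ b) (g : G) (v : V) : ad ρ g (sq B v) = sq B (ρ g v) := by
  refine LinearMap.ext fun x => ?_
  rw [ad_apply_apply, sq_apply, sq_apply, map_smul, sp_adj D]

theorem ad_wd (D : SpD m q F B ρ b) (g : G) (v w : V) : ad ρ g (wd B v w) = wd B (ρ g v) (ρ g w) := by
  refine LinearMap.ext fun x => ?_
  rw [ad_apply_apply, wd_apply, wd_apply, map_add, map_smul, map_smul, sp_adj D, sp_adj D]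

theorem wd_mem_Lam (D : SpD m q F B ρ b) (v w : V) : wd B v w ∈ Lam B := by
  refine ⟨fun x y => ?_, fun x => ?_⟩
  · rw [wd_apply, wd_apply, map_add, LinearMap.add_apply, map_smul, map_smul, LinearMap.smul_apply,
      LinearMap.smul_apply, map_add, map_smul, map_smul, sp_swap D x v, sp_swap D x w]
    simp only [smul_eq_mul]
    ring
  · rw [wd_apply, map_add, LinearMap.add_apply, map_smul, map_smul, LinearMap.smul_apply,
      LinearMap.smul_apply]
    simp only [smul_eq_mul]
    linear_combination (B w x * B v x) * sp_two D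

theorem lam0_le (D : SpD m q F B ρ b) : Lam0 B ≤ Lam B := by
  refine Submodule.span_le.2 ?_
  rintro X ⟨v, w, -, rfl⟩
  exact wd_mem_Lam D v w

theorem wd_mem_lam0 {v w : V} (h : B v w = 0) : wd B v w ∈ Lam0 B := Submodule.subset_span ⟨v, w, h, rfl⟩

theorem ad_mem_lam0 (D : SpD m q F B ρ b) (g : G) {X : Module.End K V} (hX : X ∈ Lam0 B) : ad ρ g X ∈ Lam0 B := by
  have h : Lam0 B ≤ (Lam0 B).comap (ad ρ g) := by
    refine Submodule.span_le.2 ?_
    rintro X ⟨v, w, h, rfl⟩
    change ad ρ g (wd B v w) ∈ Lam0 B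
    rw [ad_wd D]
    exact wd_mem_lam0 (by rw [D.iso, h])
  exact h hX

/-! ### the module -/

theorem exists_W (D : SpD m q F B ρ b) : ∃ (W : Type) (_ : AddCommGroup W) (_ : Module K W)
    (σ : G →* Module.End K W) (π : Lam0 B →ₗ[K] W), WD B ρ σ π := by
  let N : Submodule K (Lam0 B) := (Submodule.span K {(1 : Module.End K V)}).comap (Lam0 B).subtype
  have hN : ∀ X : Lam0 B, X ∈ N ↔ ∃ c : K, (X : Module.End K V) = c • 1 := fun X => by
    change (X : Module.End K V) ∈ Submodule.span K {(1 : Module.End K V)} ↔ _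
    rw [Submodule.mem_span_singleton]
    exact ⟨fun ⟨c, h⟩ => ⟨c, h.symm⟩, fun ⟨c, h⟩ => ⟨c, h.symm⟩⟩
  let A : G → Lam0 B →ₗ[K] Lam0 B := fun g => (ad ρ g).restrict fun X hX => ad_mem_lam0 D g hX
  have hA : ∀ g (X : Lam0 B), ((A g X : Lam0 B) : Module.End K V) = ad ρ g X := fun g X => rfl
  have hAN : ∀ g, N ≤ N.comap (A g) := by
    intro g X hX
    obtain ⟨c, hc⟩ := (hN X).1 hX
    refine (hN _).2 ⟨c, ?_⟩
    rw [hA, hc, ad_apply, mul_smul_comm, smul_mul_assoc, mul_one, ← map_mul, mul_inv_cancel, map_one]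
  let σ : G →* Module.End K (Lam0 B ⧸ N) :=
    { toFun := fun g => N.mapQ N (A g) (hAN g)
      map_one' := by
        refine LinearMap.ext fun w => ?_
        obtain ⟨X, rfl⟩ := N.mkQ_surjective w
        change N.mkQ (A 1 X) = N.mkQ X
        congr 1
        refine Subtype.ext ?_
        rw [hA, map_one, Module.End.one_apply]
      map_mul' := fun g h => by
        refine LinearMap.ext fun w => ?_
        obtain ⟨X, rfl⟩ := N.mkQ_surjective w
        change N.mkQ (A (g * h) X) = N.mkQ (A g (A h X))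
        congr 1
        refine Subtype.ext ?_
        rw [hA, hA, hA, map_mul, Module.End.mul_apply] }
  refine ⟨Lam0 B ⧸ N, inferInstance, inferInstance, σ, N.mkQ, N.mkQ_surjective, fun X => ?_, fun g X Y h => ?_⟩
  · rw [Submodule.mkQ_apply, Submodule.Quotient.mk_eq_zero, hN]
  · change N.mkQ Y = N.mkQ (A g X)
    congr 1
    exact Subtype.ext (h.trans (hA g X).symm)

section

variable {W : Type} [AddCommGroup W] [Module K W] {σ : G →* Module.End K W} {π : Lam0 B →ₗ[K] W}

theorem V_fd (b : Module.Basis (Fin m ⊕ Fin m) K V) : FiniteDimensional K V := Module.Finite.of_basis b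

theorem V_dim (b : Module.Basis (Fin m ⊕ Fin m) K V) : Module.finrank K V = 2 * m := by
  rw [Module.finrank_eq_card_basis b, Fintype.card_sum, Fintype.card_fin]
  ring

theorem W_fd (_ : SpD m q F B ρ b) (hW : WD B ρ σ π) : FiniteDimensional K W := by
  have := V_fd b
  exact Module.Finite.of_surjective π hW.surj

theorem W_le (_ : SpD m q F B ρ b) (hW : WD B ρ σ π) : Module.finrank K W ≤ (2 * m) ^ 2 := by
  have := V_fd b
  refine (LinearMap.finrank_le_finrank_of_surjective hW.surj).trans ((Submodule.finrank_le _).trans ?_)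
  rw [Module.finrank_linearMap, V_dim b, pow_two]

theorem le_W (_ : SpD m q F B ρ b) (hW : WD B ρ σ π) (hd : 2 * m ^ 2 - m - 1 ≤ Module.finrank K (Lam0 B)) :
    2 * m ^ 2 - m - 2 ≤ Module.finrank K W := by
  have := V_fd b
  have h1 := LinearMap.finrank_range_add_finrank_ker π
  rw [LinearMap.range_eq_top.2 hW.surj, finrank_top] at h1
  have h2 : Module.finrank K (LinearMap.ker π) ≤ 1 := by
    have h3 : (LinearMap.ker π).map (Lam0 B).subtype ≤ Submodule.span K {(1 : Module.End K V)} := by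
      rintro _ ⟨X, hX, rfl⟩
      obtain ⟨c, hc⟩ := (hW.ker X).1 hX
      exact Submodule.mem_span_singleton.2 ⟨c, hc.symm⟩
    have h4 := Submodule.finrank_mono h3
    rw [← (Submodule.equivMapOfInjective (Lam0 B).subtype (Submodule.subtype_injective _)
      (LinearMap.ker π)).finrank_eq] at h4
    exact h4.trans ((finrank_span_le_card _).trans (by simp))
  omega

theorem W_nt (D : SpD m q F B ρ b) (hW : WD B ρ σ π) (hd : 2 * m ^ 2 - m - 1 ≤ Module.finrank K (Lam0 B)) :
    Nontrivial W := by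
  have := W_fd D hW
  have h1 := le_W D hW hd
  have h2 := D.two_le
  have h3 : m * 2 ≤ m * m := Nat.mul_le_mul_left m h2
  refine (Module.finrank_pos_iff (R := K)).1 ?_
  rw [pow_two] at h1
  omega

/-- T4: `W` is irreducible for every `M` with `Dns (ad ρ) M` -/
theorem W_irr (D : SpD m q F B ρ b) (hW : WD B ρ σ π) (hd : 2 * m ^ 2 - m - 1 ≤ Module.finrank K (Lam0 B))
    (hlam : ∀ S : Submodule K (Module.End K V), Inv (ad ρ) ⊤ S → ∀ X ∈ S, X ∈ Lam B → (¬ ∃ c : K, X = c • 1) →
      Lam0 B ≤ S) {M : Subgroup G} (hM : Dns (ad ρ) M) : Irr σ M := by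
  refine ⟨W_nt D hW hd, fun U hU => ?_⟩
  let S : Submodule K (Module.End K V) := (U.comap π).map (Lam0 B).subtype
  have hSI : Inv (ad ρ) M S := by
    rintro g hg _ ⟨X, hX, rfl⟩
    refine ⟨⟨ad ρ g X, ad_mem_lam0 D g X.2⟩, ?_, rfl⟩
    change π ⟨ad ρ g X, ad_mem_lam0 D g X.2⟩ ∈ U
    rw [hW.eqv g X _ rfl]
    exact hU g hg _ hX
  have hS := hM S hSI
  by_cases h : ∃ X : Lam0 B, π X ∈ U ∧ ¬ ∃ c : K, (X : Module.End K V) = c • 1
  · obtain ⟨X, hX, hn⟩ := h
    right
    have h1 := hlam S hS X ⟨X, hX, rfl⟩ (lam0_le D X.2) hn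
    rw [eq_top_iff]
    intro w _
    obtain ⟨Y, rfl⟩ := hW.surj w
    obtain ⟨Z, hZ, hZY⟩ := h1 Y.2
    have h2 : Z = Y := Subtype.ext hZY
    exact h2 ▸ hZ
  · left
    push Not at h
    rw [eq_bot_iff]
    intro w hw
    obtain ⟨Y, rfl⟩ := hW.surj w
    rw [Submodule.mem_bot]
    exact (hW.ker Y).2 (h Y hw)

theorem W_deg (D : SpD m q F B ρ b) (hW : WD B ρ σ π) {ι : Type} {x : ι → F → G} (hx : OneP F x) {e : ℕ}
    (h : PolyDeg ρ F x e) : PolyDeg σ F x (2 * e) := by
  intro i
  obtain ⟨c, hc⟩ := Cfsg.Agent.H886.BR.polyDeg_ad hx h i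
  obtain ⟨s, hs⟩ := π.exists_rightInverse_of_surjective (LinearMap.range_eq_top.2 hW.surj)
  obtain ⟨π', hπ'⟩ := LinearMap.exists_extend π
  refine ⟨fun j => π' ∘ₗ c j ∘ₗ (Lam0 B).subtype ∘ₗ s, fun t => ?_⟩
  refine LinearMap.ext fun w => ?_
  have h1 : π (s w) = w := LinearMap.congr_fun hs w
  have h2 : ∀ Y : Lam0 B, π' (Y : Module.End K V) = π Y := fun Y => LinearMap.congr_fun hπ' Y
  have h3 : σ (x i t) w = π' (ad ρ (x i t) (s w)) := by
    conv_lhs => rw [← h1]
    rw [← hW.eqv (x i t) (s w) ⟨_, ad_mem_lam0 D (x i t) (s w).2⟩ rfl, ← h2]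
  rw [h3, hc, LinearMap.sum_apply, map_sum, LinearMap.sum_apply]
  refine Finset.sum_congr rfl fun j _ => ?_
  rw [LinearMap.smul_apply, map_smul, LinearMap.smul_apply]
  rfl

/-! ### the field automorphism -/

section frob

variable {ι : Type} [Fintype ι]

/-- coordinatewise field automorphism -/
noncomputable def fr (b : Module.Basis ι K V) (τ : K ≃+* K) : V ≃+ V :=
  (b.equivFun.toAddEquiv.trans (AddEquiv.piCongrRight fun _ => τ.toAddEquiv)).trans b.equivFun.symm.toAddEquiv

theorem fr_repr (b : Module.Basis ι K V) (τ : K ≃+* K) (v : V) (i : ι) : b.repr (fr b τ v) i = τ (b.repr v i) := by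
  change b.repr (b.equivFun.symm fun i => τ (b.equivFun v i)) i = _
  rw [← Module.Basis.equivFun_apply, LinearEquiv.apply_symm_apply, Module.Basis.equivFun_apply]

theorem fr_smul (b : Module.Basis ι K V) (τ : K ≃+* K) (c : K) (v : V) : fr b τ (c • v) = τ c • fr b τ v := by
  refine b.ext_elem fun i => ?_
  rw [fr_repr, map_smul, map_smul, Finsupp.smul_apply, Finsupp.smul_apply, fr_repr, smul_eq_mul, map_mul, smul_eq_mul]

theorem fr_fix (b : Module.Basis ι K V) {τ : K ≃+* K} (hτ : ∀ c ∈ F, τ c = c) {v : V} (hv : ∀ i, b.repr v i ∈ F) :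
    fr b τ v = v := by
  refine b.ext_elem fun i => ?_
  rw [fr_repr, hτ _ (hv i)]

theorem fr_rho (b : Module.Basis ι K V) {τ : K ≃+* K} (hτ : ∀ c ∈ F, τ c = c) {f : Module.End K V}
    (hf : ∀ i j, b.repr (f (b j)) i ∈ F) (v : V) : fr b τ (f v) = f (fr b τ v) := by
  classical
  conv_lhs => rw [← b.sum_repr v]
  conv_rhs => rw [← b.sum_repr v]
  rw [map_sum, map_sum, map_sum, map_sum]
  refine Finset.sum_congr rfl fun j _ => ?_
  rw [map_smul, fr_smul, fr_smul, map_smul, fr_fix b hτ fun i => hf i j, fr_fix b hτ (v := b j)]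
  intro i
  rw [b.repr_self, Finsupp.single_apply]
  split_ifs
  · exact F.one_mem
  · exact F.zero_mem

/-- `X ↦ φ X φ⁻¹` -/
noncomputable def Fr (b : Module.Basis ι K V) (τ : K ≃+* K) : Module.End K V →+ Module.End K V where
  toFun X :=
    { toFun := fun x => fr b τ (X ((fr b τ).symm x))
      map_add' := fun x y => by rw [map_add, map_add, map_add]
      map_smul' := fun c x => by
        have h : (fr b τ).symm (c • x) = τ.symm c • (fr b τ).symm x := by
          rw [AddEquiv.symm_apply_eq, fr_smul, RingEquiv.apply_symm_apply, AddEquiv.apply_symm_apply]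
        rw [h, map_smul, fr_smul, RingEquiv.apply_symm_apply, RingHom.id_apply] }
  map_zero' := LinearMap.ext fun x => by
    change fr b τ ((0 : Module.End K V) _) = 0
    rw [LinearMap.zero_apply, map_zero]
  map_add' X Y := LinearMap.ext fun x => by
    change fr b τ ((X + Y) _) = fr b τ (X _) + fr b τ (Y _)
    rw [LinearMap.add_apply, map_add]

theorem Fr_apply (b : Module.Basis ι K V) (τ : K ≃+* K) (X : Module.End K V) (x : V) :
    Fr b τ X (fr b τ x) = fr b τ (X x) := by
  change fr b τ (X ((fr b τ).symm (fr b τ x))) = _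
  rw [AddEquiv.symm_apply_apply]

theorem Fr_ext (b : Module.Basis ι K V) (τ : K ≃+* K) {X Y : Module.End K V}
    (h : ∀ x, fr b τ (X x) = Y (fr b τ x)) : Fr b τ X = Y := by
  refine LinearMap.ext fun x => ?_
  obtain ⟨y, rfl⟩ := (fr b τ).surjective x
  rw [Fr_apply, h]

theorem Fr_smul (b : Module.Basis ι K V) (τ : K ≃+* K) (c : K) (X : Module.End K V) :
    Fr b τ (c • X) = τ c • Fr b τ X :=
  Fr_ext b τ fun x => by rw [LinearMap.smul_apply, fr_smul, LinearMap.smul_apply, Fr_apply]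

theorem Fr_scalar (b : Module.Basis ι K V) (τ : K ≃+* K) (X : Module.End K V) :
    (∃ c : K, Fr b τ X = c • 1) ↔ ∃ c : K, X = c • 1 := by
  constructor
  · rintro ⟨c, hc⟩
    refine ⟨τ.symm c, LinearMap.ext fun x => (fr b τ).injective ?_⟩
    rw [← Fr_apply, hc, LinearMap.smul_apply, LinearMap.smul_apply, fr_smul, RingEquiv.apply_symm_apply]
    rfl
  · rintro ⟨c, rfl⟩
    refine ⟨τ c, Fr_ext b τ fun x => ?_⟩
    rw [LinearMap.smul_apply, LinearMap.smul_apply, fr_smul]
    rfl

end frob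

theorem sp_fr (D : SpD m q F B ρ b) (τ : K ≃+* K) (x y : V) : B (fr b τ x) (fr b τ y) = τ (B x y) := by
  rw [sp_form D, sp_form D, map_sum]
  refine Finset.sum_congr rfl fun i _ => ?_
  rw [fr_repr, fr_repr, fr_repr, fr_repr, map_add, map_mul, map_mul]

theorem Fr_wd (D : SpD m q F B ρ b) (τ : K ≃+* K) (v w : V) :
    Fr b τ (wd B v w) = wd B (fr b τ v) (fr b τ w) :=
  Fr_ext b τ fun x => by rw [wd_apply, wd_apply, map_add, fr_smul, fr_smul, sp_fr D, sp_fr D]

theorem Fr_sq (D : SpD m q F B ρ b) (τ : K ≃+* K) (v : V) : Fr b τ (sq B v) = sq B (fr b τ v) :=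
  Fr_ext b τ fun x => by rw [sq_apply, sq_apply, fr_smul, sp_fr D]

theorem Fr_mem (D : SpD m q F B ρ b) (τ : K ≃+* K) {X : Module.End K V} (hX : X ∈ Lam0 B) :
    Fr b τ X ∈ Lam0 B := by
  refine Submodule.span_induction (p := fun X _ => Fr b τ X ∈ Lam0 B) ?_ ?_ ?_ ?_ hX
  · rintro X ⟨v, w, h, rfl⟩
    rw [Fr_wd D]
    exact wd_mem_lam0 (by rw [sp_fr D, h, map_zero])
  · rw [map_zero]
    exact (Lam0 B).zero_mem
  · intro X Y _ _ h1 h2
    rw [map_add]
    exact (Lam0 B).add_mem h1 h2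
  · intro c X _ h
    rw [Fr_smul]
    exact (Lam0 B).smul_mem _ h

theorem Fr_ad (D : SpD m q F B ρ b) {τ : K ≃+* K} (hτ : ∀ c ∈ F, τ c = c) (g : G) (X : Module.End K V) :
    Fr b τ (ad ρ g X) = ad ρ g (Fr b τ X) :=
  Fr_ext b τ fun x => by
    rw [ad_apply_apply, ad_apply_apply, fr_rho b hτ (D.rat g), ← fr_rho b hτ (D.rat g⁻¹), Fr_apply]

/-- the `q`-Frobenius -/
theorem sp_tau (D : SpD m q F B ρ b) : ∃ τ : K ≃+* K, (∀ c, τ c = c ^ Nat.card F) ∧ ∀ c ∈ F, τ c = c := by
  have := D.char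
  have := D.closed
  have := D.finF
  have := Fintype.ofFinite F
  have : CharP F 2 := (F.subtype.charP_iff F.subtype.injective 2).2 inferInstance
  obtain ⟨n, -, hn⟩ := FiniteField.card F 2
  have h : ∀ c, iterateFrobeniusEquiv K 2 n c = c ^ Nat.card F := fun c => by
    rw [iterateFrobeniusEquiv_apply, iterateFrobenius_def, Nat.card_eq_fintype_card, hn]
  exact ⟨iterateFrobeniusEquiv K 2 n, h, fun c hc => by rw [h, Cfsg.Agent.H178.BR.frob_of_mem hc]⟩

theorem W_trF (D : SpD m q F B ρ b) (hW : WD B ρ σ π) (g : G) : LinearMap.trace K W (σ g) ∈ F := by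
  have := D.finF
  have := W_fd D hW
  obtain ⟨τ, h1, h2⟩ := sp_tau D
  refine Cfsg.Agent.H178.BR.trace_mem_sub τ h1 (Lam0 B) (Fr b τ) (Fr_smul b τ) (fun X hX => Fr_mem D τ hX) π hW.surj
    (fun X => ?_) (A := ad ρ g) (fun X hX => ad_mem_lam0 D g hX) (fun X _ => Fr_ad D h2 g X) (fun X => ?_)
  · rw [hW.ker, hW.ker]
    exact Fr_scalar b τ X
  · exact (hW.eqv g X _ rfl).symm

theorem V_trF (D : SpD m q F B ρ b) (g : G) : LinearMap.trace K V (ρ g) ∈ F := by
  rw [LinearMap.trace_eq_matrix_trace K b, Matrix.trace]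
  refine F.sum_mem fun i _ => ?_
  rw [Matrix.diag_apply, LinearMap.toMatrix_apply]
  exact D.rat g i i

end

end Cfsg.Agent.H601.BR
end

-- part: H215/BR/SpDefs
section
/-!
# HUB BR, the family `Sp_{2m}(2^f)`: the modules `V` (dimension `2m`) and `V̂` (dimension `2m + 1`)

`G = Sp_{2m}(F)`, `K` a perfect field of characteristic 2 over `F`.

* `rho` : `G → GL(V)`, `V = K^{2m}`;  `rhoh` : `G → GL(V̂)`, `V̂ = V × K` the orthogonal module;
* `sq u = u ⊗ B(u,·)`, `wedge u w = u ⊗ B(w,·) + w ⊗ B(u,·)` in `End V`; `wedgeh` in `End V̂`;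
* `xr` : the root groups `1 + t² u²`, `1 + t u ∧ w`.
-/

set_option autoImplicit false

namespace Cfsg.Agent.H215.BR

open Cfsg Matrix
open Cfsg.Agent.H883.BR
open Cfsg.Agent.ClassicalGeometry.SympBasic
open Cfsg.Agent.H107.SpTr Cfsg.Agent.H107.SpConj

section basic

variable {m : ℕ} {F : Type*} [Field F] (K : Type*) [Field K] [Algebra F K]

/-- the natural module `K^{2m}` -/
abbrev Vn (m : ℕ) (K : Type*) := Fin m ⊕ Fin m → K

/-- vectors over `F` -/
def emb (u : Fin m ⊕ Fin m → F) : Vn m K := fun j => algebraMap F K (u j)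

@[simp] theorem emb_apply (u : Fin m ⊕ Fin m → F) (j : Fin m ⊕ Fin m) : emb K u j = algebraMap F K (u j) := rfl

theorem emb_add (u v : Fin m ⊕ Fin m → F) : emb K (u + v) = emb K u + emb K v := by
  funext j; simp

theorem emb_smul (c : F) (u : Fin m ⊕ Fin m → F) : emb K (c • u) = algebraMap F K c • emb K u := by
  funext j; simp

theorem emb_zero : emb K (0 : Fin m ⊕ Fin m → F) = 0 := by
  funext j; simp

theorem emb_injective : Function.Injective (emb (m := m) (F := F) K) := by
  intro u v h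
  funext j
  exact (algebraMap F K).injective (congrFun h j)

theorem emb_single (j : Fin m ⊕ Fin m) : emb K (Pi.single j (1 : F)) = Pi.single j 1 := by
  funext i
  by_cases h : i = j
  · subst h; simp
  · simp [h]

/-- linear maps which agree on the vectors over `F` are equal -/
theorem ext_emb {W : Type*} [AddCommGroup W] [Module K W] {X Y : Vn m K →ₗ[K] W}
    (h : ∀ u : Fin m ⊕ Fin m → F, X (emb K u) = Y (emb K u)) : X = Y := by
  refine LinearMap.pi_ext' fun j => ?_
  refine LinearMap.ext_ring ?_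
  have := h (Pi.single j 1)
  rw [emb_single] at this
  simpa using this

theorem sympForm_emb (u v : Fin m ⊕ Fin m → F) :
    sympForm m K (emb K u) (emb K v) = algebraMap F K (sympForm m F u v) := by
  rw [sympForm_eq_sum, sympForm_eq_sum, map_sum]
  refine Finset.sum_congr rfl fun i _ => ?_
  simp

/-- the natural representation over `K` -/
def rho : Matrix.symplecticGroup (Fin m) F →* Module.End K (Vn m K) where
  toFun g := Matrix.mulVecLin ((g : Matrix (Fin m ⊕ Fin m) (Fin m ⊕ Fin m) F).map (algebraMap F K))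
  map_one' := by
    rw [OneMemClass.coe_one, Matrix.map_one _ (map_zero _) (map_one _), Matrix.mulVecLin_one]
    rfl
  map_mul' g h := by
    rw [Submonoid.coe_mul, Matrix.map_mul, Matrix.mulVecLin_mul]
    rfl

theorem rho_apply (g : Matrix.symplecticGroup (Fin m) F) (v : Vn m K) :
    rho K g v = ((g : Matrix (Fin m ⊕ Fin m) (Fin m ⊕ Fin m) F).map (algebraMap F K)) *ᵥ v := rfl

theorem rho_emb (g : Matrix.symplecticGroup (Fin m) F) (u : Fin m ⊕ Fin m → F) :
    rho K g (emb K u) = emb K (act g u) := by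
  funext j
  rw [rho_apply, emb_apply, act_def, Matrix.mulVec, Matrix.mulVec, dotProduct, dotProduct, map_sum]
  refine Finset.sum_congr rfl fun i _ => ?_
  rw [map_mul]
  rfl

theorem rho_injective : Function.Injective (rho (m := m) (F := F) K) := by
  intro g h hgh
  refine ext_act fun x => emb_injective K ?_
  rw [← rho_emb, ← rho_emb, hgh]

theorem rho_form (g : Matrix.symplecticGroup (Fin m) F) (v w : Vn m K) :
    sympForm m K (rho K g v) (rho K g w) = sympForm m K v w := by
  have h : ((g : Matrix (Fin m ⊕ Fin m) (Fin m ⊕ Fin m) F).map (algebraMap F K)) ∈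
      Matrix.symplecticGroup (Fin m) K := by
    have h1 := g.2
    rw [SymplecticGroup.mem_iff] at h1 ⊢
    have h2 := congrArg (fun A : Matrix (Fin m ⊕ Fin m) (Fin m ⊕ Fin m) F => A.map (algebraMap F K)) h1
    simp only [Matrix.map_mul] at h2
    have h3 : (Matrix.J (Fin m) F).map (algebraMap F K) = Matrix.J (Fin m) K := by
      ext i j
      rcases i with i | i <;> rcases j with j | j <;>
        simp [Matrix.J, Matrix.one_apply, apply_ite (algebraMap F K)]
    rw [h3] at h2
    rwa [Matrix.transpose_map] at h2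
  exact sympForm_mulVec h v w

theorem rho_rho_inv (g : Matrix.symplecticGroup (Fin m) F) (v : Vn m K) : rho K g (rho K g⁻¹ v) = v := by
  rw [← Module.End.mul_apply, ← map_mul, mul_inv_cancel, map_one, Module.End.one_apply]

theorem rho_form_inv (g : Matrix.symplecticGroup (Fin m) F) (v w : Vn m K) :
    sympForm m K v (rho K g⁻¹ w) = sympForm m K (rho K g v) w := by
  rw [← rho_form K g, rho_rho_inv]

variable {K}

/-- `u ⊗ B(w,·) + w ⊗ B(u,·)` -/
def wedge (u w : Vn m K) : Module.End K (Vn m K) :=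
  (sympBilin m K w).smulRight u + (sympBilin m K u).smulRight w

/-- `u ⊗ B(u,·)` -/
def sq (u : Vn m K) : Module.End K (Vn m K) := (sympBilin m K u).smulRight u

theorem wedge_apply (u w x : Vn m K) : wedge u w x = sympForm m K w x • u + sympForm m K u x • w := rfl

theorem sq_apply (u x : Vn m K) : sq u x = sympForm m K u x • u := rfl

theorem wedge_comm (u w : Vn m K) : wedge u w = wedge w u := add_comm _ _

variable (K) in
theorem ad_sq (g : Matrix.symplecticGroup (Fin m) F) (u : Vn m K) : ad (rho K) g (sq u) = sq (rho K g u) := by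
  refine LinearMap.ext fun x => ?_
  rw [ad_apply, Module.End.mul_apply, Module.End.mul_apply, sq_apply, sq_apply, map_smul, rho_form_inv]

end basic

section two

variable {m : ℕ} {F : Type*} [Field F] {K : Type*} [Field K] [Algebra F K] [CharP K 2]

theorem form_comm (u v : Vn m K) : sympForm m K u v = sympForm m K v u := by
  rw [sympForm_swap, CharTwo.neg_eq]

/-- the quadratic form `Σ v_i v_{i'}` -/
def Q0 (v : Vn m K) : K := ∑ i, v (Sum.inl i) * v (Sum.inr i)

theorem Q0_add (v w : Vn m K) : Q0 (v + w) = Q0 v + Q0 w + sympForm m K v w := by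
  rw [sympForm_eq_sum, Q0, Q0, Q0, ← Finset.sum_add_distrib, ← Finset.sum_add_distrib]
  refine Finset.sum_congr rfl fun i _ => ?_
  have h2 : (2 : K) = 0 := CharTwo.two_eq_zero
  simp only [Pi.add_apply]
  linear_combination (v (Sum.inl i) * w (Sum.inr i)) * h2

omit [CharP K 2] in
theorem Q0_smul (c : K) (v : Vn m K) : Q0 (c • v) = c ^ 2 * Q0 v := by
  rw [Q0, Q0, Finset.mul_sum]
  refine Finset.sum_congr rfl fun i _ => ?_
  simp only [Pi.smul_apply, smul_eq_mul]
  ring

variable [PerfectRing K 2]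

variable (K) in
/-- the square root -/
noncomputable def rt : K →+* K := (frobeniusEquiv K 2).symm.toRingHom

theorem rt_sq (x : K) : rt K x ^ 2 = x := by
  have h := (frobeniusEquiv K 2).apply_symm_apply x
  rwa [frobeniusEquiv_apply, frobenius_def] at h

theorem rt_pow (x : K) : rt K (x ^ 2) = x := by
  have h := (frobeniusEquiv K 2).symm_apply_apply x
  rwa [frobeniusEquiv_apply, frobenius_def] at h

omit [PerfectRing K 2] in
theorem sq_inj {x y : K} (h : x ^ 2 = y ^ 2) : x = y := by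
  have h1 : (x - y) ^ 2 = 0 := by
    rw [CharTwo.sub_eq_add, CharTwo.add_sq, h, CharTwo.add_self_eq_zero]
  exact sub_eq_zero.1 ((pow_eq_zero_iff two_ne_zero).1 h1)

variable (K) in
/-- the functional `v ↦ √(Q₀ v + Q₀ (g v))` -/
noncomputable def fl (g : Matrix.symplecticGroup (Fin m) F) : Vn m K →ₗ[K] K where
  toFun v := rt K (Q0 v + Q0 (rho K g v))
  map_add' v w := by
    have h1 : Q0 (v + w) + Q0 (rho K g (v + w)) = (Q0 v + Q0 (rho K g v)) + (Q0 w + Q0 (rho K g w)) := by
      rw [map_add (rho K g), Q0_add, Q0_add, rho_form]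
      linear_combination (sympForm m K v w) * (CharTwo.two_eq_zero : (2 : K) = 0)
    rw [h1, map_add]
  map_smul' c v := by
    rw [map_smul, Q0_smul, Q0_smul, ← mul_add, map_mul, rt_pow]
    rfl

theorem fl_sq (g : Matrix.symplecticGroup (Fin m) F) (v : Vn m K) :
    fl K g v ^ 2 = Q0 v + Q0 (rho K g v) := rt_sq _

theorem fl_mul (g h : Matrix.symplecticGroup (Fin m) F) (v : Vn m K) :
    fl K (g * h) v = fl K h v + fl K g (rho K h v) := by
  apply sq_inj
  rw [CharTwo.add_sq, fl_sq, fl_sq, fl_sq, map_mul, Module.End.mul_apply]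
  linear_combination (-Q0 (rho K h v)) * (CharTwo.two_eq_zero : (2 : K) = 0)

theorem fl_one (v : Vn m K) : fl K (1 : Matrix.symplecticGroup (Fin m) F) v = 0 := by
  apply sq_inj
  rw [fl_sq, map_one, Module.End.one_apply, CharTwo.add_self_eq_zero]
  ring

variable (K) in
/-- the orthogonal module `V̂ = V × K`, with the quadratic form `Q₀ v + l²` -/
noncomputable def rhoh : Matrix.symplecticGroup (Fin m) F →* Module.End K (Vn m K × K) where
  toFun g := ((rho K g).comp (LinearMap.fst K _ _)).prod ((LinearMap.snd K _ _) + (fl K g).comp (LinearMap.fst K _ _))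
  map_one' := by
    refine LinearMap.ext fun x => ?_
    refine Prod.ext ?_ ?_
    · simp
    · simp [fl_one]
  map_mul' g h := by
    refine LinearMap.ext fun x => ?_
    refine Prod.ext ?_ ?_
    · simp
    · simp [fl_mul, add_assoc]

theorem rhoh_apply (g : Matrix.symplecticGroup (Fin m) F) (x : Vn m K × K) :
    rhoh K g x = (rho K g x.1, x.2 + fl K g x.1) := rfl

omit [PerfectRing K 2] [CharP K 2] in
/-- `u ⊗ B(w,·) + w ⊗ B(u,·)` on `V̂` -/
def wedgeh (u w : Vn m K × K) : Module.End K (Vn m K × K) :=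
  ((sympBilin m K w.1).comp (LinearMap.fst K _ _)).smulRight u +
    ((sympBilin m K u.1).comp (LinearMap.fst K _ _)).smulRight w

/-- `u ⊗ B(u,·)` on `V̂` -/
def sqh (u : Vn m K × K) : Module.End K (Vn m K × K) :=
  ((sympBilin m K u.1).comp (LinearMap.fst K _ _)).smulRight u

omit [PerfectRing K 2] [CharP K 2] in
theorem wedgeh_apply (u w x : Vn m K × K) :
    wedgeh u w x = sympForm m K w.1 x.1 • u + sympForm m K u.1 x.1 • w := rfl

omit [PerfectRing K 2] [CharP K 2] in
theorem sqh_apply (u x : Vn m K × K) : sqh u x = sympForm m K u.1 x.1 • u := rfl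

theorem ad_wedgeh (g : Matrix.symplecticGroup (Fin m) F) (u w : Vn m K × K) :
    ad (rhoh K) g (wedgeh u w) = wedgeh (rhoh K g u) (rhoh K g w) := by
  refine LinearMap.ext fun x => ?_
  rw [ad_apply, Module.End.mul_apply, Module.End.mul_apply, wedgeh_apply, wedgeh_apply, map_add, map_smul, map_smul,
    rhoh_apply g⁻¹, rho_form_inv, rho_form_inv, rhoh_apply g u, rhoh_apply g w]

/-- **A short root element on `V̂`.** -/
theorem rhoh_of_rho {g : Matrix.symplecticGroup (Fin m) F} {u w : Vn m K} {t e : K} (huw : sympForm m K u w = 0)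
    (h : rho K g = 1 + t • wedge u w + (t ^ 2 * e) • sq u) :
    rhoh K g = 1 + t • wedgeh (u, rt K (Q0 u)) (w, rt K e + rt K (Q0 w)) + (t ^ 2 * e) • sqh (u, rt K (Q0 u)) := by
  refine LinearMap.ext fun x => ?_
  have hg : rho K g x.1 = x.1 + (t * sympForm m K w x.1 + t ^ 2 * e * sympForm m K u x.1) • u +
      (t * sympForm m K u x.1) • w := by
    rw [h, LinearMap.add_apply, LinearMap.add_apply, LinearMap.smul_apply, LinearMap.smul_apply, wedge_apply, sq_apply,
      Module.End.one_apply]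
    module
  have hf : fl K g x.1 = t * ((rt K e + rt K (Q0 w)) * sympForm m K u x.1 + rt K (Q0 u) * sympForm m K w x.1) +
      t ^ 2 * e * (rt K (Q0 u) * sympForm m K u x.1) := by
    apply sq_inj
    rw [fl_sq, hg, Q0_add, Q0_add, Q0_smul, Q0_smul]
    simp only [sympForm_add_left, sympForm_smul_left, sympForm_smul_right, huw, form_comm (K := K) x.1 u,
      form_comm (K := K) x.1 w]
    have h2 : (2 : K) = 0 := CharTwo.two_eq_zero
    have e1 := rt_sq (K := K) e
    have e2 := rt_sq (K := K) (Q0 u)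
    have e3 := rt_sq (K := K) (Q0 w)
    generalize sympForm m K u x.1 = a
    generalize sympForm m K w x.1 = b
    generalize rt K e = re at e1 ⊢
    generalize rt K (Q0 u) = ru at e2 ⊢
    generalize rt K (Q0 w) = rw at e3 ⊢
    linear_combination (-(t ^ 2 * a ^ 2)) * e1 - (t ^ 2 * b ^ 2 + t ^ 4 * e ^ 2 * a ^ 2 + 2 * t ^ 3 * e * a * b) * e2 -
      (t ^ 2 * a ^ 2) * e3 + (Q0 x.1 + t * a * b - t ^ 2 * re * rw * a ^ 2 - t ^ 2 * (re + rw) * a * ru * b -
        t ^ 3 * e * ru * a ^ 2 * (re + rw)) * h2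
  refine Prod.ext ?_ ?_
  · rw [rhoh_apply, hg]
    simp only [LinearMap.add_apply, LinearMap.smul_apply, wedgeh_apply, sqh_apply, Module.End.one_apply, Prod.fst_add,
      Prod.smul_fst]
    module
  · rw [rhoh_apply, hf]
    simp only [LinearMap.add_apply, LinearMap.smul_apply, wedgeh_apply, sqh_apply, Module.End.one_apply, Prod.snd_add,
      Prod.smul_snd, smul_eq_mul]
    ring

end two

/-! ### root groups -/

section root

variable {m : ℕ} {F : Type*} [Field F] {K : Type*} [Field K] [Algebra F K] [CharP K 2]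

theorem rho_transv (u : Fin m ⊕ Fin m → F) (c : F) :
    rho K (transv u c) = 1 + algebraMap F K c • sq (emb K u) := by
  refine ext_emb (F := F) K fun x => ?_
  rw [rho_emb, act_transv, emb_add, emb_smul, LinearMap.add_apply, LinearMap.smul_apply, sq_apply,
    form_comm (K := K) (emb K u), sympForm_emb, map_mul, Module.End.one_apply, smul_smul]

theorem rho_Z {u w : Fin m ⊕ Fin m → F} (h : sympForm m F u w = 0) (c : F) :
    rho K (Z u w c) = 1 + algebraMap F K c • wedge (emb K u) (emb K w) := by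
  refine ext_emb (F := F) K fun x => ?_
  rw [rho_emb, act_Z h, emb_add, emb_add, emb_smul, emb_smul, LinearMap.add_apply, LinearMap.smul_apply, wedge_apply,
    form_comm (K := K) (emb K u), form_comm (K := K) (emb K w), sympForm_emb, sympForm_emb, map_mul, map_mul,
    Module.End.one_apply]
  module

variable [PerfectRing K 2]

variable (K) in
/-- the singular lift of a vector -/
noncomputable def lift (v : Vn m K) : Vn m K × K := (v, rt K (Q0 v))

theorem rhoh_lift (g : Matrix.symplecticGroup (Fin m) F) (v : Vn m K) : rhoh K g (lift K v) = lift K (rho K g v) := by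
  rw [lift, lift, rhoh_apply]
  refine Prod.ext rfl ?_
  apply sq_inj
  simp only
  rw [CharTwo.add_sq, rt_sq, rt_sq, fl_sq]
  linear_combination (Q0 v) * (CharTwo.two_eq_zero : (2 : K) = 0)

theorem rhoh_Z {u w : Fin m ⊕ Fin m → F} (h : sympForm m F u w = 0) (c : F) :
    rhoh K (Z u w c) = 1 + algebraMap F K c • wedgeh (lift K (emb K u)) (lift K (emb K w)) := by
  have h1 : sympForm m K (emb K u) (emb K w) = 0 := by rw [sympForm_emb, h, map_zero]
  have h2 : rho K (Z u w c) = 1 + algebraMap F K c • wedge (emb K u) (emb K w) +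
      ((algebraMap F K c) ^ 2 * 0) • sq (emb K u) := by
    rw [rho_Z h, mul_zero, zero_smul, add_zero]
  rw [rhoh_of_rho h1 h2, mul_zero, zero_smul, add_zero, map_zero, zero_add]
  rfl

/-- the transvection with parameter `c²` on `V̂` -/
theorem rhoh_transv (u : Fin m ⊕ Fin m → F) (c : F) :
    rhoh K (transv u (c ^ 2)) = 1 + algebraMap F K c • wedgeh (lift K (emb K u)) (0, 1) +
      (algebraMap F K c ^ 2) • sqh (lift K (emb K u)) := by
  have h1 : sympForm m K (emb K u) 0 = 0 := by simp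
  have h0 : Q0 (0 : Vn m K) = 0 := by simp [Q0]
  have h2 : rho K (transv u (c ^ 2)) = 1 + algebraMap F K c • wedge (emb K u) 0 +
      ((algebraMap F K c) ^ 2 * 1) • sq (emb K u) := by
    rw [rho_transv, map_pow, mul_one]
    have h3 : wedge (emb K u) (0 : Vn m K) = 0 := by
      refine LinearMap.ext fun x => ?_
      rw [wedge_apply]
      simp
    rw [h3, smul_zero, add_zero]
  rw [rhoh_of_rho h1 h2, mul_one, map_one, h0, map_zero, add_zero]
  rfl

variable (F K) in
/-- the field `F` inside `K` -/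
abbrev fr : Subfield K := (algebraMap F K).fieldRange

omit [CharP K 2] [PerfectRing K 2] in
variable (K) in
/-- the root groups `1 + t² u²` with parameters in the subfield of `K` -/
noncomputable def xs (u : Fin m ⊕ Fin m → F) (t : fr F K) : Matrix.symplecticGroup (Fin m) F :=
  transv u (((algebraMap F K).rangeRestrictFieldEquiv.symm t) ^ 2)

omit [CharP K 2] [PerfectRing K 2] in
theorem map_xs (t : fr F K) : algebraMap F K ((algebraMap F K).rangeRestrictFieldEquiv.symm t) = t := by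
  have h := (algebraMap F K).rangeRestrictFieldEquiv.apply_symm_apply t
  exact congrArg Subtype.val h

omit [PerfectRing K 2] [CharP K 2] in
theorem oneP [PerfectRing F 2] [CharP F 2] : OneP (fr F K) (xs (m := m) (F := F) K) where
  add u s t := by
    rw [xs, xs, xs, map_add, CharTwo.add_sq, transv_mul]
  gen := by
    refine eq_top_of_transv fun v c _ => Subgroup.subset_closure ?_
    refine ⟨v, (algebraMap F K).rangeRestrictFieldEquiv (rt F c), ?_⟩
    rw [xs, RingEquiv.symm_apply_apply, rt_sq]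

omit [PerfectRing K 2] in
theorem polyDeg_rho : PolyDeg (rho K) (fr F K) (xs (m := m) (F := F) K) 2 := by
  intro u
  refine ⟨fun j => if j = 0 then 1 else if j = 2 then sq (emb K u) else 0, fun t => ?_⟩
  rw [xs, rho_transv, map_pow, map_xs, Finset.sum_range_succ, Finset.sum_range_succ, Finset.sum_range_one]
  simp

theorem polyDeg_rhoh : PolyDeg (rhoh K) (fr F K) (xs (m := m) (F := F) K) 2 := by
  intro u
  refine ⟨fun j => if j = 0 then 1 else if j = 1 then wedgeh (lift K (emb K u)) (0, 1) else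
    if j = 2 then sqh (lift K (emb K u)) else 0, fun t => ?_⟩
  rw [xs, rhoh_transv, map_xs, Finset.sum_range_succ, Finset.sum_range_succ, Finset.sum_range_one]
  simp

end root

end Cfsg.Agent.H215.BR
end

-- part: H545/BR/Str
section
/-!
# HUB BR (S5715, S5716), tasks C1, C2, C3, C5, C6 (helper545)
-/

set_option autoImplicit false
set_option linter.unusedVariables false

namespace Cfsg.Agent.H545.BR

open Cfsg.Agent.H883.BR
open scoped commutatorElement

universe u v w

/-! ### C1 -/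

theorem dns_of_ad {K : Type u} [Field K] {G : Type w} [Group G] {V : Type v} [AddCommGroup V] [Module K V]
    {ρ : G →* Module.End K V} {H : Subgroup G} (h : Dns (ad ρ) H) : Dns ρ H := by
  intro U hU g _ u hu
  by_cases hu0 : u = 0
  · rw [hu0, map_zero]; exact U.zero_mem
  obtain ⟨φ, hφ⟩ : ∃ φ : V →ₗ[K] K, φ u = 1 := by
    obtain ⟨f, hf⟩ : ∃ f : Module.Dual K V, f u ≠ 0 := by
      by_contra hcon
      push Not at hcon
      exact hu0 ((Module.forall_dual_apply_eq_zero_iff K u).1 hcon)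
    exact ⟨(f u)⁻¹ • f, by rw [LinearMap.smul_apply, smul_eq_mul, inv_mul_cancel₀ hf]⟩
  -- the endomorphisms with image in `U`
  let S : Submodule K (Module.End K V) :=
    { carrier := {X | ∀ v, X v ∈ U}
      zero_mem' := fun v => U.zero_mem
      add_mem' := fun {X Y} hX hY v => U.add_mem (hX v) (hY v)
      smul_mem' := fun c X hX v => U.smul_mem c (hX v) }
  have hS : Inv (ad ρ) H S := by
    intro k hk X hX v
    exact hU k hk _ (hX _)
  have h1 := h S hS g (Subgroup.mem_top g) (φ.smulRight u) (fun v => U.smul_mem _ hu) (ρ g u)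
  rw [ad_apply] at h1
  have h2 : ρ g⁻¹ (ρ g u) = u := by
    rw [← Module.End.mul_apply, ← map_mul, inv_mul_cancel, map_one, Module.End.one_apply]
  rw [Module.End.mul_apply, Module.End.mul_apply, h2, LinearMap.smulRight_apply, hφ, one_smul] at h1
  exact h1

/-! ### C2 -/

theorem dns_normal {K : Type u} [Field K] {G : Type w} [Group G] [Finite G] (hG : QS G) {V : Type v}
    [AddCommGroup V] [Module K V] [FiniteDimensional K V] {τ : G →* Module.End K V} {H M : Subgroup G}
    (h : Dns (ad τ) H) (hM : M ≤ H) (hn : ∀ h ∈ H, ∀ m ∈ M, h * m * h⁻¹ ∈ M) (hc : ¬ M ≤ Subgroup.center G) :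
    Dns τ M := by
  set B : Submodule K (Module.End K V) := Submodule.span K {X | ∃ m ∈ M, τ m = X} with hB
  have hMB : ∀ m ∈ M, τ m ∈ B := fun m hm => Submodule.subset_span ⟨m, hm, rfl⟩
  have hBH : Inv (ad τ) H B := by
    intro k hk X hX
    induction hX using Submodule.span_induction with
    | mem X hX =>
      obtain ⟨m, hm, rfl⟩ := hX
      rw [ad_apply, ← map_mul, ← map_mul]
      exact hMB _ (hn k hk m hm)
    | zero => rw [map_zero]; exact B.zero_mem
    | add X Y _ _ hX hY => rw [map_add]; exact B.add_mem hX hY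
    | smul c X _ hX => rw [map_smul]; exact B.smul_mem c hX
  have hBG := h B hBH
  have hmul : ∀ X ∈ B, ∀ Y ∈ B, X * Y ∈ B := by
    intro X hX Y hY
    induction hX using Submodule.span_induction with
    | mem X hX =>
      obtain ⟨m, hm, rfl⟩ := hX
      induction hY using Submodule.span_induction with
      | mem Y hY =>
        obtain ⟨m', hm', rfl⟩ := hY
        rw [← map_mul]
        exact hMB _ (M.mul_mem hm hm')
      | zero => rw [mul_zero]; exact B.zero_mem
      | add X Y _ _ hX hY => rw [mul_add]; exact B.add_mem hX hY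
      | smul c X _ hX => rw [mul_smul_comm]; exact B.smul_mem c hX
    | zero => rw [zero_mul]; exact B.zero_mem
    | add X Z _ _ hX hZ => rw [add_mul]; exact B.add_mem hX hZ
    | smul c X _ hX => rw [smul_mul_assoc]; exact B.smul_mem c hX
  have hone : τ 1 ∈ B := hMB 1 M.one_mem
  have hpow : ∀ (g : G) (k : ℕ), τ g ∈ B → τ (g ^ k) ∈ B := by
    intro g k hg
    induction k with
    | zero => rw [pow_zero]; exact hone
    | succ k ih => rw [pow_succ, map_mul]; exact hmul _ ih _ hg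
  let N : Subgroup G :=
    { carrier := {g | τ g ∈ B}
      one_mem' := hone
      mul_mem' := fun {a b} ha hb => by
        change τ (a * b) ∈ B
        rw [map_mul]; exact hmul _ ha _ hb
      inv_mem' := fun {a} ha => by
        change τ a⁻¹ ∈ B
        have h1 : a⁻¹ = a ^ (orderOf a - 1) := by
          have h2 : a * a ^ (orderOf a - 1) = 1 := by
            rw [← pow_succ', Nat.sub_add_cancel (orderOf_pos a), pow_orderOf_eq_one]
          exact inv_eq_of_mul_eq_one_right h2
        rw [h1]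
        exact hpow a _ ha }
  have hN : N.Normal := by
    refine ⟨fun a ha x => ?_⟩
    change τ (x * a * x⁻¹) ∈ B
    rw [map_mul, map_mul]
    exact hBG x (Subgroup.mem_top x) _ ha
  have hMN : M ≤ N := fun m hm => hMB m hm
  have hNt : N = ⊤ := (hG.max N hN).resolve_left fun h1 => hc (hMN.trans h1)
  intro U hU g _ u hu
  have hg : τ g ∈ B := by
    have : g ∈ N := hNt ▸ Subgroup.mem_top g
    exact this
  have key : ∀ X ∈ B, ∀ u ∈ U, X u ∈ U := by
    intro X hX
    induction hX using Submodule.span_induction with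
    | mem X hX =>
      obtain ⟨m, hm, rfl⟩ := hX
      exact hU m hm
    | zero => intro u _; exact U.zero_mem
    | add X Y _ _ hX hY => intro u hu; exact U.add_mem (hX u hu) (hY u hu)
    | smul c X _ hX => intro u hu; exact U.smul_mem c (hX u hu)
  exact key _ hg u hu

/-! ### C3 -/

theorem cent_scalar {K : Type u} [Field K] [IsAlgClosed K] {G : Type w} [Group G] {V : Type v} [AddCommGroup V]
    [Module K V] [FiniteDimensional K V] {ρ : G →* Module.End K V} {M : Subgroup G} (h : Irr ρ M)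
    {X : Module.End K V} (hX : X ∈ cent ρ M) : ∃ c : K, X = c • 1 := by
  obtain ⟨hnt, h⟩ := h
  obtain ⟨c, hc⟩ := Module.End.exists_eigenvalue X
  refine ⟨c, ?_⟩
  have h1 : Inv ρ M (Module.End.eigenspace X c) := by
    intro m hm v hv
    rw [Module.End.mem_eigenspace_iff] at hv ⊢
    rw [← Module.End.mul_apply, hX m hm, Module.End.mul_apply, hv, map_smul]
  rcases h _ h1 with h2 | h2
  · exact absurd h2 hc
  · refine LinearMap.ext fun v => ?_
    have h3 : v ∈ Module.End.eigenspace X c := h2 ▸ Submodule.mem_top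
    rw [Module.End.mem_eigenspace_iff] at h3
    rw [h3, LinearMap.smul_apply, Module.End.one_apply]

theorem Inv.sup {K : Type u} [Field K] {G : Type w} [Group G] {V : Type v} [AddCommGroup V] [Module K V]
    {ρ : G →* Module.End K V} {N : Subgroup G} {A B : Submodule K V} (hA : Inv ρ N A) (hB : Inv ρ N B) :
    Inv ρ N (A ⊔ B) := by
  intro n hn v hv
  obtain ⟨a, ha, b, hb, rfl⟩ := Submodule.mem_sup.1 hv
  rw [map_add]
  exact Submodule.add_mem_sup (hA n hn a ha) (hB n hn b hb)

theorem Inv.inf {K : Type u} [Field K] {G : Type w} [Group G] {V : Type v} [AddCommGroup V] [Module K V]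
    {ρ : G →* Module.End K V} {N : Subgroup G} {A B : Submodule K V} (hA : Inv ρ N A) (hB : Inv ρ N B) :
    Inv ρ N (A ⊓ B) := fun n hn v hv => ⟨hA n hn v hv.1, hB n hn v hv.2⟩

theorem ssm_of_normal {K : Type u} [Field K] {G : Type w} [Group G] {V : Type v} [AddCommGroup V]
    [Module K V] [FiniteDimensional K V] {ρ : G →* Module.End K V} {M N : Subgroup G} (h : Irr ρ M) (hN : N ≤ M)
    (hn : ∀ m ∈ M, ∀ x ∈ N, m * x * m⁻¹ ∈ N) : Ssm ρ N := by
  classical
  obtain ⟨hnt, h⟩ := h
  intro U hU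
  -- a minimal invariant subspace
  obtain ⟨S, ⟨hSN, hS0⟩, hSmin⟩ : ∃ S : Submodule K V, (Inv ρ N S ∧ S ≠ ⊥) ∧
      ∀ S' : Submodule K V, Inv ρ N S' ∧ S' ≠ ⊥ → S' ≤ S → S' = S := by
    have hwf : WellFounded ((· < ·) : Submodule K V → Submodule K V → Prop) := wellFounded_lt
    have hne : {S : Submodule K V | Inv ρ N S ∧ S ≠ ⊥}.Nonempty := by
      refine ⟨⊤, fun _ _ _ _ => Submodule.mem_top, ?_⟩
      exact top_ne_bot
    refine ⟨hwf.min _ hne, hwf.min_mem _ hne, fun S' hS' hle => ?_⟩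
    by_contra hcon
    exact hwf.not_lt_min _ hS' (lt_of_le_of_ne hle hcon)
  -- its translates
  have hinv1 : ∀ (m : G) (v : V), ρ m⁻¹ (ρ m v) = v := fun m v => by
    rw [← Module.End.mul_apply, ← map_mul, inv_mul_cancel, map_one, Module.End.one_apply]
  have hinv2 : ∀ (m : G) (v : V), ρ m (ρ m⁻¹ v) = v := fun m v => by
    rw [← Module.End.mul_apply, ← map_mul, mul_inv_cancel, map_one, Module.End.one_apply]
  have htr : ∀ m ∈ M, Inv ρ N (S.map (ρ m)) := by
    intro m hm x hx v hv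
    obtain ⟨s, hs, rfl⟩ := hv
    refine ⟨ρ (m⁻¹ * x * m) s, ?_, ?_⟩
    · apply hSN _ _ s hs
      have := hn m⁻¹ (M.inv_mem hm) x hx
      rwa [inv_inv] at this
    · rw [← Module.End.mul_apply, ← Module.End.mul_apply, ← map_mul, ← map_mul]
      congr 2
      group
  have htmin : ∀ m ∈ M, ∀ A : Submodule K V, Inv ρ N A → ¬ S.map (ρ m) ≤ A → S.map (ρ m) ⊓ A = ⊥ := by
    intro m hm A hA hnle
    by_contra hcon
    apply hnle
    have h1 : Inv ρ N ((S.map (ρ m) ⊓ A).map (ρ m⁻¹)) := by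
      intro x hx v hv
      obtain ⟨s, hs, rfl⟩ := hv
      refine ⟨ρ (m * x * m⁻¹) s, ?_, ?_⟩
      · exact Inv.inf (htr m hm) hA _ (hn m hm x hx) s hs
      · rw [← Module.End.mul_apply, ← Module.End.mul_apply, ← map_mul, ← map_mul]
        congr 2
        group
    have h2 : (S.map (ρ m) ⊓ A).map (ρ m⁻¹) ≤ S := by
      rintro _ ⟨v, ⟨⟨s, hs, rfl⟩, -⟩, rfl⟩
      rw [hinv1]
      exact hs
    have h3 : (S.map (ρ m) ⊓ A).map (ρ m⁻¹) ≠ ⊥ := by
      intro h4
      apply hcon
      rw [eq_bot_iff]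
      intro v hv
      have h5 : ρ m⁻¹ v ∈ (S.map (ρ m) ⊓ A).map (ρ m⁻¹) := ⟨v, hv, rfl⟩
      rw [h4, Submodule.mem_bot] at h5
      rw [Submodule.mem_bot, ← hinv2 m v, h5, map_zero]
    have h4 := hSmin _ ⟨h1, h3⟩ h2
    rintro _ ⟨s, hs, rfl⟩
    rw [← h4] at hs
    obtain ⟨v, hv, rfl⟩ := hs
    rw [hinv2]
    exact hv.2
  -- the maximal complement
  obtain ⟨W, ⟨hWN, hWU⟩, hWmax⟩ : ∃ W : Submodule K V, (Inv ρ N W ∧ U ⊓ W = ⊥) ∧
      ∀ W' : Submodule K V, Inv ρ N W' ∧ U ⊓ W' = ⊥ → W ≤ W' → W' = W := by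
    have hwf : WellFounded ((· > ·) : Submodule K V → Submodule K V → Prop) := wellFounded_gt
    have hne : {W : Submodule K V | Inv ρ N W ∧ U ⊓ W = ⊥}.Nonempty := by
      refine ⟨⊥, fun n _ v hv => ?_, inf_bot_eq _⟩
      rw [Submodule.mem_bot] at hv ⊢
      rw [hv, map_zero]
    refine ⟨hwf.min _ hne, hwf.min_mem _ hne, fun W' hW' hle => ?_⟩
    by_contra hcon
    exact hwf.not_lt_min _ hW' (lt_of_le_of_ne hle (Ne.symm hcon))
  refine ⟨W, hWN, disjoint_iff.2 hWU, codisjoint_iff.2 ?_⟩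
  by_contra hcon
  have hUW : Inv ρ N (U ⊔ W) := Inv.sup hU hWN
  obtain ⟨m, hm, hle⟩ : ∃ m ∈ M, ¬ S.map (ρ m) ≤ U ⊔ W := by
    by_contra hall
    push Not at hall
    apply hcon
    -- the sum of the translates
    set Z : Submodule K V := ⨆ m : M, S.map (ρ (m : G)) with hZ
    have hZinv : Inv ρ M Z := by
      intro k hk v hv
      have h1 : Z.map (ρ k) ≤ Z := by
        rw [hZ, Submodule.map_iSup]
        refine iSup_le fun m => ?_
        refine le_trans ?_ (le_iSup (fun m : M => S.map (ρ (m : G))) ⟨k * m, M.mul_mem hk m.2⟩)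
        rintro _ ⟨_, ⟨s, hs, rfl⟩, rfl⟩
        refine ⟨s, hs, ?_⟩
        change ρ (k * m) s = _
        rw [map_mul, Module.End.mul_apply]
      exact h1 ⟨v, hv, rfl⟩
    have hSZ : S ≤ Z := by
      refine le_trans ?_ (le_iSup (fun m : M => S.map (ρ (m : G))) 1)
      intro s hs
      refine ⟨s, hs, ?_⟩
      change ρ (1 : G) s = s
      rw [map_one, Module.End.one_apply]
    rcases h Z hZinv with h1 | h1
    · rw [h1, le_bot_iff] at hSZ
      exact absurd hSZ hS0
    · rw [eq_top_iff, ← h1]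
      exact iSup_le fun m => hall m m.2
  have h1 := htmin m hm _ hUW hle
  have h2 : U ⊓ (W ⊔ S.map (ρ m)) = ⊥ := by
    rw [eq_bot_iff]
    rintro v ⟨hv1, hv2⟩
    obtain ⟨a, ha, b, hb, rfl⟩ := Submodule.mem_sup.1 hv2
    have h3 : b ∈ U ⊔ W := by
      have h4 : b = (a + b) + (-a) := by abel
      rw [h4]
      exact Submodule.add_mem_sup hv1 (W.neg_mem ha)
    have h4 : b = 0 := by
      have h5 : b ∈ S.map (ρ m) ⊓ (U ⊔ W) := ⟨hb, h3⟩
      rwa [h1, Submodule.mem_bot] at h5
    rw [h4, add_zero] at hv1 ⊢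
    have h5 : a ∈ U ⊓ W := ⟨hv1, ha⟩
    rwa [hWU] at h5
  have h3 := hWmax _ ⟨Inv.sup hWN (htr m hm), h2⟩ le_sup_left
  apply hle
  rw [← h3]
  exact le_sup_right.trans le_sup_right

/-! ### C5 -/

/-- scalars are central -/
theorem comm_of_scalar {K : Type u} [Field K] {G : Type w} [Group G] {V : Type v}
    [AddCommGroup V] [Module K V] {ρ : G →* Module.End K V} (hinj : Function.Injective ρ) {x : G} {c : K}
    (hx : ρ x = c • 1) (g : G) : x * g = g * x := by
  apply hinj
  rw [map_mul, map_mul, hx, smul_mul_assoc, one_mul, mul_smul_comm, mul_one]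

/-- commutators with a fixed element, modulo the centre -/
theorem comm_mul {M : Type*} [Group M] {x a b : M} (ha : a * x * a⁻¹ * x⁻¹ ∈ Subgroup.center M)
    (hb : b * x * b⁻¹ * x⁻¹ ∈ Subgroup.center M) :
    (a * b) * x * (a * b)⁻¹ * x⁻¹ = (a * x * a⁻¹ * x⁻¹) * (b * x * b⁻¹ * x⁻¹) := by
  have h2 := Subgroup.mem_center_iff.1 hb a
  have h3 := Subgroup.mem_center_iff.1 ha (b * x * b⁻¹ * x⁻¹)
  calc (a * b) * x * (a * b)⁻¹ * x⁻¹ = (a * (b * x * b⁻¹ * x⁻¹)) * x * a⁻¹ * x⁻¹ := by group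
    _ = ((b * x * b⁻¹ * x⁻¹) * a) * x * a⁻¹ * x⁻¹ := by rw [h2]
    _ = (b * x * b⁻¹ * x⁻¹) * (a * x * a⁻¹ * x⁻¹) := by group
    _ = _ := h3

/-- the derived group of `P` commutes with `x` if `[P, x]` is central -/
theorem comm_of_center {M : Type*} [Group M] {P : Subgroup M} {x : M}
    (h : ∀ a ∈ P, a * x * a⁻¹ * x⁻¹ ∈ Subgroup.center M) : ∀ a ∈ ⁅P, P⁆, a * x = x * a := by
  have h1 : ⁅P, P⁆ ≤ Subgroup.centralizer {x} := by
    rw [Subgroup.commutator_le]
    intro a ha b hb
    rw [Subgroup.mem_centralizer_singleton_iff]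
    have ha' := h _ (P.inv_mem ha)
    have hb' := h _ (P.inv_mem hb)
    have h2 := comm_mul ha' hb'
    have h3 := comm_mul hb' ha'
    have h4 := Subgroup.mem_center_iff.1 ha' (b⁻¹ * x * b⁻¹⁻¹ * x⁻¹)
    rw [← h2, ← h3] at h4
    have h5 : (b⁻¹ * a⁻¹) * x * (b⁻¹ * a⁻¹)⁻¹ = (a⁻¹ * b⁻¹) * x * (a⁻¹ * b⁻¹)⁻¹ := mul_right_cancel h4
    have h6 : ⁅a, b⁆ = (b⁻¹ * a⁻¹)⁻¹ * (a⁻¹ * b⁻¹) := by rw [commutatorElement_def]; group
    rw [h6]
    calc (b⁻¹ * a⁻¹)⁻¹ * (a⁻¹ * b⁻¹) * x
        = (b⁻¹ * a⁻¹)⁻¹ * ((a⁻¹ * b⁻¹) * x * (a⁻¹ * b⁻¹)⁻¹) * (a⁻¹ * b⁻¹) := by group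
      _ = (b⁻¹ * a⁻¹)⁻¹ * ((b⁻¹ * a⁻¹) * x * (b⁻¹ * a⁻¹)⁻¹) * (a⁻¹ * b⁻¹) := by rw [h5]
      _ = x * ((b⁻¹ * a⁻¹)⁻¹ * (a⁻¹ * b⁻¹)) := by group
  intro a ha
  exact Subgroup.mem_centralizer_singleton_iff.1 (h1 ha)

theorem comm_central {M : Type*} [Group M] {z w a b : M} (hz : z ∈ Subgroup.center M)
    (hw : w ∈ Subgroup.center M) : ⁅z * a, w * b⁆ = ⁅a, b⁆ := by
  have h1 := Subgroup.mem_center_iff.1 hz (a * (w * b) * a⁻¹)
  have h2 := Subgroup.mem_center_iff.1 hw a
  have h3 := Subgroup.mem_center_iff.1 hw (a * b * a⁻¹ * b⁻¹)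
  rw [commutatorElement_def, commutatorElement_def]
  calc z * a * (w * b) * (z * a)⁻¹ * (w * b)⁻¹ = (z * (a * (w * b) * a⁻¹)) * z⁻¹ * (b⁻¹ * w⁻¹) := by group
    _ = ((a * (w * b) * a⁻¹) * z) * z⁻¹ * (b⁻¹ * w⁻¹) := by rw [h1]
    _ = (a * w) * b * a⁻¹ * b⁻¹ * w⁻¹ := by group
    _ = (w * a) * b * a⁻¹ * b⁻¹ * w⁻¹ := by rw [h2]
    _ = (w * (a * b * a⁻¹ * b⁻¹)) * w⁻¹ := by group
    _ = ((a * b * a⁻¹ * b⁻¹) * w) * w⁻¹ := by rw [h3]
    _ = a * b * a⁻¹ * b⁻¹ := by group

/-- an automorphism trivial modulo the centre of a perfect group is trivial -/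
theorem aut_trivial {M : Type*} [Group M] (hp : commutator M = ⊤) (α : MulAut M)
    (h : ∀ m, α m * m⁻¹ ∈ Subgroup.center M) (m : M) : α m = m := by
  have h1 : commutator M ≤ (α.toMonoidHom).eqLocus (MonoidHom.id M) := by
    rw [commutator_def, Subgroup.commutator_le]
    intro a _ b _
    change α ⁅a, b⁆ = ⁅a, b⁆
    have ha : α a = (α a * a⁻¹) * a := by group
    have hb : α b = (α b * b⁻¹) * b := by group
    rw [map_commutatorElement, ha, hb]
    exact comm_central (h a) (h b)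
  rw [hp] at h1
  exact h1 (Subgroup.mem_top m)

theorem one_component {K : Type u} [Field K] [IsAlgClosed K] {G : Type w} [Group G] [Finite G] {V : Type v}
    [AddCommGroup V] [Module K V] [FiniteDimensional K V] {ρ : G →* Module.End K V} (hinj : Function.Injective ρ)
    (hT : TPrim ρ) {M : Subgroup G} (hM : Irr ρ M) (hD : Dns (ad ρ) M) (hp : commutator M = ⊤)
    {T : Type w} [Group T] [Finite T] [IsSimpleGroup T] (hna : ¬ IsMulCommutative T) {s : ℕ} (hs : 0 < s)
    (e : M ⧸ Subgroup.center M ≃* (Fin s → T)) : s = 1 := by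
  classical
  by_contra hs1
  have hs2 : 2 ≤ s := by omega
  obtain ⟨i₀, i₁, hi⟩ : ∃ i₀ i₁ : Fin s, i₀ ≠ i₁ :=
    ⟨⟨0, by omega⟩, ⟨1, by omega⟩, fun h => by simpa using congrArg Fin.val h⟩
  let π : M →* (Fin s → T) := e.toMonoidHom.comp (QuotientGroup.mk' _)
  have hπs : Function.Surjective π := e.surjective.comp (QuotientGroup.mk'_surjective _)
  have hπk : ∀ m : M, π m = 1 ↔ m ∈ Subgroup.center M := by
    intro m
    change e (QuotientGroup.mk' _ m) = 1 ↔ _
    rw [map_eq_one_iff e e.injective]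
    exact QuotientGroup.eq_one_iff m
  -- the preimages of the factors
  let P : Fin s → Subgroup M := fun i =>
    { carrier := {m | ∀ j, j ≠ i → π m j = 1}
      one_mem' := fun j _ => by rw [map_one]; rfl
      mul_mem' := fun {a b} ha hb j hj => by
        rw [map_mul, Pi.mul_apply, ha j hj, hb j hj, one_mul]
      inv_mem' := fun {a} ha j hj => by
        rw [map_inv, Pi.inv_apply, ha j hj, inv_one] }
  have hPn : ∀ i, (P i).Normal := fun i => by
    refine ⟨fun a ha x j hj => ?_⟩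
    rw [map_mul, map_mul, Pi.mul_apply, Pi.mul_apply, ha j hj, mul_one, ← Pi.mul_apply, ← map_mul, mul_inv_cancel,
      map_one]
    rfl
  -- elements with a given component
  have hex : ∀ (i : Fin s) (t : T), ∃ m ∈ P i, π m i = t := by
    intro i t
    obtain ⟨m, hm⟩ := hπs (Function.update 1 i t)
    refine ⟨m, fun j hj => ?_, ?_⟩
    · rw [hm, Function.update_of_ne hj]; rfl
    · rw [hm, Function.update_self]
  let L : Subgroup M := ⁅P i₀, P i₀⁆
  have hLn : L.Normal := by
    have := hPn i₀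
    exact Subgroup.commutator_normal _ _
  let N : Subgroup G := L.map M.subtype
  have hNM : N ≤ M := by
    rintro _ ⟨x, -, rfl⟩
    exact x.2
  have hNn : ∀ m ∈ M, ∀ x ∈ N, m * x * m⁻¹ ∈ N := by
    rintro m hm _ ⟨x, hx, rfl⟩
    exact ⟨(⟨m, hm⟩ * x * ⟨m, hm⟩⁻¹ :), hLn.conj_mem x hx _, rfl⟩
  have hssm := ssm_of_normal hM hNM hNn
  have hcM : Inv (ad ρ) M (cent ρ N) := by
    intro m hm X hX n hn
    have h1 := hX _ (hNn m⁻¹ (M.inv_mem hm) n hn)
    rw [inv_inv] at h1
    rw [ad_apply]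
    have h2 : ρ m⁻¹ * ρ n = ρ (m⁻¹ * n * m) * ρ m⁻¹ := by
      rw [← map_mul, ← map_mul]; congr 1; group
    have h3 : ρ m * ρ (m⁻¹ * n * m) = ρ n * ρ m := by
      rw [← map_mul, ← map_mul]; congr 1; group
    calc ρ m * X * ρ m⁻¹ * ρ n = ρ m * X * (ρ m⁻¹ * ρ n) := by rw [mul_assoc]
      _ = ρ m * (X * ρ (m⁻¹ * n * m)) * ρ m⁻¹ := by rw [h2]; simp only [mul_assoc]
      _ = ρ m * (ρ (m⁻¹ * n * m) * X) * ρ m⁻¹ := by rw [h1]
      _ = (ρ m * ρ (m⁻¹ * n * m)) * X * ρ m⁻¹ := by simp only [mul_assoc]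
      _ = ρ n * (ρ m * X * ρ m⁻¹) := by rw [h3]; simp only [mul_assoc]
  have hcG := hD _ hcM
  rcases hT N hssm hcG with h1 | h1
  · -- `N` is scalar
    apply hna
    refine ⟨⟨fun a b => ?_⟩⟩
    obtain ⟨x, hx, rfl⟩ := hex i₀ a
    obtain ⟨y, hy, rfl⟩ := hex i₀ b
    have h2 : x * y * x⁻¹ * y⁻¹ ∈ L := Subgroup.commutator_mem_commutator hx hy
    obtain ⟨c, hc⟩ := h1 _ ⟨_, h2, rfl⟩
    have h3 : x * y * x⁻¹ * y⁻¹ ∈ Subgroup.center M := by
      rw [Subgroup.mem_center_iff]
      intro g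
      apply Subtype.ext
      exact (comm_of_scalar hinj hc (g : G)).symm
    have h4 := (hπk _).2 h3
    have h5 : π x * π y = π y * π x := by
      have h6 : π x * π y * (π x)⁻¹ * (π y)⁻¹ = 1 := by
        rw [← map_inv, ← map_inv, ← map_mul, ← map_mul, ← map_mul]; exact h4
      rw [mul_inv_eq_one, mul_inv_eq_iff_eq_mul] at h6
      exact h6
    exact congrFun h5 i₀
  · -- the other factors centralise `N`
    have hne : Nontrivial T := inferInstance
    obtain ⟨t, ht⟩ := exists_ne (1 : T)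
    obtain ⟨x, hx, hxt⟩ := hex i₁ t
    have hcz : ∀ a ∈ P i₀, a * x * a⁻¹ * x⁻¹ ∈ Subgroup.center M := by
      intro a ha
      rw [← hπk]
      funext j
      rw [map_mul, map_mul, map_mul, map_inv, map_inv]
      change π a j * π x j * (π a j)⁻¹ * (π x j)⁻¹ = 1
      by_cases hj : j = i₀
      · rw [hx j (by rw [hj]; exact hi), mul_one, mul_inv_cancel, one_mul, inv_one]
      · rw [ha j hj, one_mul, inv_one, mul_one, mul_inv_cancel]
    have hxc : ρ (x : G) ∈ cent ρ N := by
      rintro _ ⟨a, ha, rfl⟩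
      have h2 := comm_of_center hcz a ha
      change ρ (x : G) * ρ ((a : M) : G) = ρ ((a : M) : G) * ρ (x : G)
      rw [← map_mul, ← map_mul]
      exact congrArg ρ (congrArg Subtype.val h2).symm
    obtain ⟨c, hc⟩ := h1 _ hxc
    have h3 : x ∈ Subgroup.center M := by
      rw [Subgroup.mem_center_iff]
      intro g
      apply Subtype.ext
      exact (comm_of_scalar hinj hc (g : G)).symm
    have h4 := (hπk _).2 h3
    apply ht
    rw [← hxt, h4]
    rfl

/-! ### C6 -/

theorem small_comp {K : Type u} [Field K] [IsAlgClosed K] {G : Type w} [Group G] [Finite G] {V : Type v}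
    [AddCommGroup V] [Module K V] [FiniteDimensional K V] {ρ : G →* Module.End K V} {H M : Subgroup G}
    (hMH : M ≤ H) (hn : ∀ h ∈ H, ∀ m ∈ M, h * m * h⁻¹ ∈ M) (hM : Irr ρ M) (hp : commutator M = ⊤)
    {y : G} (hy : y ∈ H) :
    ∃ k, 0 < k ∧ k ≤ (Nat.card (M ⧸ Subgroup.center M)).factorial ∧ ∃ c : K, ρ (y ^ k) = c • 1 := by
  classical
  -- the action on `M`
  let Φ : H →* MulAut M :=
    { toFun := fun h =>
        { toFun := fun m => ⟨h * m * (h : G)⁻¹, hn h h.2 m m.2⟩
          invFun := fun m => ⟨(h : G)⁻¹ * m * h, by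
            have := hn (h : G)⁻¹ (H.inv_mem h.2) m m.2
            rwa [inv_inv] at this⟩
          left_inv := fun m => by
            apply Subtype.ext
            change (h : G)⁻¹ * (h * m * (h : G)⁻¹) * h = m
            group
          right_inv := fun m => by
            apply Subtype.ext
            change (h : G) * ((h : G)⁻¹ * m * h) * (h : G)⁻¹ = m
            group
          map_mul' := fun a b => by
            apply Subtype.ext
            change (h : G) * (a * b) * (h : G)⁻¹ = (h * a * (h : G)⁻¹) * (h * b * (h : G)⁻¹)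
            group }
      map_one' := by
        refine MulEquiv.ext fun m => Subtype.ext ?_
        change (1 : G) * m * (1 : G)⁻¹ = m
        group
      map_mul' := fun a b => by
        refine MulEquiv.ext fun m => Subtype.ext ?_
        change (a * b : G) * m * (a * b : G)⁻¹ = a * (b * m * (b : G)⁻¹) * (a : G)⁻¹
        group }
  have hcen : ∀ α : MulAut M, (Subgroup.center M).map (α : M →* M) = Subgroup.center M := fun α =>
    Subgroup.characteristic_iff_map_eq.1 inferInstance α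
  let Ψ : H →* Equiv.Perm (M ⧸ Subgroup.center M) :=
    { toFun := fun h => (QuotientGroup.congr _ _ (Φ h) (hcen (Φ h))).toEquiv
      map_one' := by
        refine Equiv.ext fun q => ?_
        induction q using QuotientGroup.induction_on with
        | H m =>
          change ((Φ 1 m : M) : M ⧸ Subgroup.center M) = (m : M ⧸ Subgroup.center M)
          rw [map_one]
          rfl
      map_mul' := fun a b => by
        refine Equiv.ext fun q => ?_
        induction q using QuotientGroup.induction_on with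
        | H m =>
          change ((Φ (a * b) m : M) : M ⧸ Subgroup.center M) = ((Φ a (Φ b m) : M) : M ⧸ Subgroup.center M)
          rw [map_mul]
          rfl }
  set y' : H := ⟨y, hy⟩ with hy'
  have hfin : Finite (M ⧸ Subgroup.center M) := inferInstance
  refine ⟨orderOf (Ψ y'), orderOf_pos _, ?_, ?_⟩
  · have h1 : orderOf (Ψ y') ≤ Nat.card (Equiv.Perm (M ⧸ Subgroup.center M)) :=
      orderOf_le_card
    rwa [Nat.card_perm] at h1
  set k := orderOf (Ψ y') with hk
  have h1 : Ψ (y' ^ k) = 1 := by rw [map_pow, pow_orderOf_eq_one]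
  have hz : ∀ m : M, Φ (y' ^ k) m * m⁻¹ ∈ Subgroup.center M := by
    intro m
    have h2 : (Ψ (y' ^ k)) (m : M ⧸ Subgroup.center M) = (m : M ⧸ Subgroup.center M) := by rw [h1]; rfl
    have h3 : ((Φ (y' ^ k) m : M) : M ⧸ Subgroup.center M) = (m : M ⧸ Subgroup.center M) := h2
    rw [← QuotientGroup.eq_one_iff, QuotientGroup.mk_mul, QuotientGroup.mk_inv, h3, mul_inv_cancel]
  have hφ := aut_trivial hp _ hz
  apply cent_scalar hM
  intro m hm
  have h2 := congrArg Subtype.val (hφ ⟨m, hm⟩)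
  have h3 : y ^ k * m * (y ^ k)⁻¹ = m := h2
  rw [← map_mul, ← map_mul]
  exact congrArg ρ (mul_inv_eq_iff_eq_mul.1 h3)

end Cfsg.Agent.H545.BR
end

-- part: H110/BR/PM
section
/-!
# The polynomial method (helper110, S5715 (PM))

`poly_method` : a finite submonoid `H` of a `K`-algebra which contains `1 + t N_{i1} + ... + t^e N_{ie}` for all `t ∈ F`
(`F` a finite subfield of `K` with `q` elements), `i < d`, with `N_{i1}` linearly independent, has at least
`choose ((q - 1) / e + d) d` elements.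
-/

set_option autoImplicit false

namespace Cfsg.Agent.H110.BR

open MvPolynomial

section Pol

variable {F A : Type*} [Field F] [Ring A] [Algebra F A] {d : ℕ} (e : ℕ) (N : Fin d → ℕ → A)

/-- the polynomial of `λ(Π_{i ∈ l} (1 + t_i N_{i1} + ... + t_i^e N_{ie}))` -/
noncomputable def pol : List (Fin d) → (A →ₗ[F] F) → MvPolynomial (Fin d) F
  | [], lam => C (lam 1)
  | i :: l, lam => pol l lam + ∑ j ∈ Finset.Icc 1 e, X i ^ j * pol l (lam ∘ₗ LinearMap.mulLeft F (N i j))

theorem eval_pol (t : Fin d → F) : ∀ (l : List (Fin d)) (lam : A →ₗ[F] F),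
    eval t (pol e N l lam) = lam ((l.map fun i => 1 + ∑ j ∈ Finset.Icc 1 e, t i ^ j • N i j).prod)
  | [], lam => by simp [pol]
  | i :: l, lam => by
    rw [pol, map_add, eval_pol t l, List.map_cons, List.prod_cons, add_mul, one_mul, map_add, map_sum,
      Finset.sum_mul, map_sum]
    congr 1
    refine Finset.sum_congr rfl fun j _ => ?_
    rw [map_mul, map_pow, eval_X, eval_pol t l, smul_mul_assoc, map_smul, smul_eq_mul]
    rfl

theorem degreeOf_pol (i : Fin d) : ∀ (l : List (Fin d)) (lam : A →ₗ[F] F), degreeOf i (pol e N l lam) ≤ e * l.count i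
  | [], lam => by simp [pol]
  | k :: l, lam => by
    rw [pol, List.count_cons]
    refine (degreeOf_add_le _ _ _).trans (max_le ((degreeOf_pol i l lam).trans
      (Nat.mul_le_mul_left _ (Nat.le_add_right _ _))) ?_)
    refine (degreeOf_sum_le _ _ _).trans (Finset.sup_le fun j hj => ?_)
    refine (degreeOf_mul_le _ _ _).trans ?_
    have h1 := degreeOf_pol i l (lam ∘ₗ LinearMap.mulLeft F (N k j))
    have hj2 := (Finset.mem_Icc.1 hj).2
    have h2 : degreeOf i (X k ^ j : MvPolynomial (Fin d) F) ≤ if (k == i) = true then e else 0 := by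
      refine (degreeOf_pow_le _ _ _).trans ?_
      rw [degreeOf_X]
      by_cases h : i = k
      · simp [h, hj2]
      · simp [h]
    split_ifs at h2 ⊢
    · rw [mul_add, mul_one]; omega
    · rw [mul_add, mul_zero]; omega

theorem X_mem (i : Fin d) : (X i : MvPolynomial (Fin d) F) ∈ idealOfVars (Fin d) F := by
  have h := (monomial_mem_pow_idealOfVars_iff (σ := Fin d) (R := F) 1 (Finsupp.single i 1) one_ne_zero).2 (by simp)
  rwa [pow_one] at h

theorem pol_sub (l : List (Fin d)) : ∀ (lam : A →ₗ[F] F), pol e N l lam - C (lam 1) ∈ idealOfVars (Fin d) F := by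
  induction l with
  | nil => intro lam; simp [pol]
  | cons i l ih =>
    intro lam
    have h : pol e N (i :: l) lam - C (lam 1) = (pol e N l lam - C (lam 1)) +
        ∑ j ∈ Finset.Icc 1 e, X i ^ j * pol e N l (lam ∘ₗ LinearMap.mulLeft F (N i j)) := by rw [pol]; ring
    rw [h]
    refine add_mem (ih lam) (sum_mem fun j hj => Ideal.mul_mem_right _ _ ?_)
    exact Ideal.pow_mem_of_mem _ (X_mem i) _ (Finset.mem_Icc.1 hj).1

theorem pol_sub_sub (he : 1 ≤ e) (l : List (Fin d)) : ∀ (lam : A →ₗ[F] F),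
    pol e N l lam - C (lam 1) - (l.map fun i => C (lam (N i 1)) * X i).sum ∈ idealOfVars (Fin d) F ^ 2 := by
  induction l with
  | nil => intro lam; simp [pol]
  | cons i l ih =>
    intro lam
    have h1 : ∑ j ∈ Finset.Icc 1 e, X i ^ j * pol e N l (lam ∘ₗ LinearMap.mulLeft F (N i j)) =
        X i * pol e N l (lam ∘ₗ LinearMap.mulLeft F (N i 1)) +
        ∑ j ∈ Finset.Icc 2 e, X i ^ j * pol e N l (lam ∘ₗ LinearMap.mulLeft F (N i j)) := by
      have h2 : Finset.Icc 1 e = insert 1 (Finset.Icc 2 e) := by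
        ext j; simp only [Finset.mem_insert, Finset.mem_Icc]; omega
      rw [h2, Finset.sum_insert (by simp), pow_one]
    have h : pol e N (i :: l) lam - C (lam 1) - ((i :: l).map fun i => C (lam (N i 1)) * X i).sum =
        (pol e N l lam - C (lam 1) - (l.map fun i => C (lam (N i 1)) * X i).sum) +
        X i * (pol e N l (lam ∘ₗ LinearMap.mulLeft F (N i 1)) - C ((lam ∘ₗ LinearMap.mulLeft F (N i 1)) 1)) +
        ∑ j ∈ Finset.Icc 2 e, X i ^ j * pol e N l (lam ∘ₗ LinearMap.mulLeft F (N i j)) := by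
      rw [pol, List.map_cons, List.sum_cons, h1]
      have e1 : (lam ∘ₗ LinearMap.mulLeft F (N i 1)) 1 = lam (N i 1) := by
        simp
      rw [e1]; ring
    rw [h]
    refine add_mem (add_mem (ih lam) ?_) (sum_mem fun j hj => Ideal.mul_mem_right _ _ ?_)
    · rw [pow_two]
      exact Ideal.mul_mem_mul (X_mem i) (pol_sub e N l _)
    · exact Ideal.pow_le_pow_right (Finset.mem_Icc.1 hj).1 (Ideal.pow_mem_pow (X_mem i) j)

end Pol

section Mem

variable {R : Type*} [CommRing R] {I : Ideal R}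

theorem mul_sub_mem {a a' b b' : R} {r s : ℕ} (ha : a - a' ∈ I ^ (r + 1)) (ha' : a' ∈ I ^ r)
    (hb : b - b' ∈ I ^ (s + 1)) (hb' : b' ∈ I ^ s) : a * b - a' * b' ∈ I ^ (r + s + 1) := by
  have hb2 : b ∈ I ^ s := by
    have : b = (b - b') + b' := by ring
    rw [this]
    exact add_mem (Ideal.pow_le_pow_right (Nat.le_succ s) hb) hb'
  have e : a * b - a' * b' = (a - a') * b + a' * (b - b') := by ring
  rw [e]
  refine add_mem ?_ ?_
  · have h1 := Ideal.mul_mem_mul ha hb2
    rw [← pow_add] at h1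
    convert h1 using 2
    ring
  · have h1 := Ideal.mul_mem_mul ha' hb
    rw [← pow_add] at h1
    convert h1 using 2
    ring

theorem pow_sub_mem {a x : R} (ha : a - x ∈ I ^ 2) (hx : x ∈ I) (m : ℕ) : a ^ m - x ^ m ∈ I ^ (m + 1) := by
  induction m with
  | zero => simp
  | succ m ih =>
    rw [pow_succ a, pow_succ x]
    have h := mul_sub_mem (I := I) (r := m) (s := 1) ih (Ideal.pow_mem_pow hx m) ha (by rwa [pow_one])
    exact h

theorem prod_sub_mem {ι : Type*} (s : Finset ι) {a x : ι → R} (m : ι → ℕ) (ha : ∀ i, a i - x i ∈ I ^ 2)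
    (hx : ∀ i, x i ∈ I) :
    ∏ i ∈ s, a i ^ m i - ∏ i ∈ s, x i ^ m i ∈ I ^ (∑ i ∈ s, m i + 1) := by
  classical
  induction s using Finset.induction_on with
  | empty => simp
  | insert j s hj ih =>
    rw [Finset.prod_insert hj, Finset.prod_insert hj, Finset.sum_insert hj]
    refine mul_sub_mem (pow_sub_mem (ha j) (hx j) (m j)) (Ideal.pow_mem_pow (hx j) _) ih ?_
    rw [← Finset.prod_pow_eq_pow_sum]
    exact Ideal.prod_mem_prod fun i _ => Ideal.pow_mem_pow (hx i) _

end Mem

section Main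

variable {F : Type*} [Field F] {d : ℕ}

theorem coeff_prod {a : Fin d → MvPolynomial (Fin d) F} (ha : ∀ i, a i - X i ∈ idealOfVars (Fin d) F ^ 2)
    (m m' : Fin d → ℕ) (h : ∑ i, m i ≤ ∑ i, m' i) :
    coeff (Finsupp.equivFunOnFinite.symm m) (∏ i, a i ^ m' i) = if m = m' then 1 else 0 := by
  classical
  have h1 := prod_sub_mem Finset.univ m' ha (fun i => X_mem (F := F) i)
  rw [mem_pow_idealOfVars_iff'] at h1
  have h2 := h1 (Finsupp.equivFunOnFinite.symm m) (by
    have : Finsupp.degree (Finsupp.equivFunOnFinite.symm m) = ∑ i, m i := by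
      rw [Finsupp.degree_eq_sum]
      rfl
    rw [this]
    omega)
  rw [coeff_sub, sub_eq_zero] at h2
  rw [h2]
  have h3 : (∏ i, (X i : MvPolynomial (Fin d) F) ^ m' i) = monomial (Finsupp.equivFunOnFinite.symm m') 1 := by
    rw [monomial_eq, C_1, one_mul, Finsupp.prod_fintype _ _ (fun i => pow_zero _)]
    rfl
  rw [h3, coeff_monomial]
  by_cases h4 : m = m'
  · rw [if_pos h4, if_pos (by rw [h4])]
  · rw [if_neg h4, if_neg (fun h5 => h4 ((Finsupp.equivFunOnFinite.symm.injective h5).symm))]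

theorem linInd {a : Fin d → MvPolynomial (Fin d) F} (ha : ∀ i, a i - X i ∈ idealOfVars (Fin d) F ^ 2)
    {ι : Type*} [Fintype ι] {m : ι → Fin d → ℕ} (hm : Function.Injective m) {c : ι → F}
    (h0 : ∑ s, c s • ∏ i, a i ^ m s i = 0) : ∀ s, c s = 0 := by
  classical
  by_contra hcon
  push Not at hcon
  obtain ⟨s₀, hc₀⟩ := hcon
  obtain ⟨s, hs, hmin⟩ := Finset.exists_min_image (Finset.univ.filter fun s => c s ≠ 0) (fun s => ∑ i, m s i)
    ⟨s₀, Finset.mem_filter.2 ⟨Finset.mem_univ _, hc₀⟩⟩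
  rw [Finset.mem_filter] at hs
  have h1 := congrArg (coeff (Finsupp.equivFunOnFinite.symm (m s))) h0
  rw [coeff_sum, coeff_zero, Finset.sum_eq_single s] at h1
  · rw [coeff_smul, coeff_prod ha (m s) (m s) le_rfl, if_pos rfl, smul_eq_mul, mul_one] at h1
    exact hs.2 h1
  · intro s' _ hne
    rw [coeff_smul]
    by_cases hc : c s' = 0
    · rw [hc, zero_smul]
    · rw [coeff_prod ha (m s) (m s') (hmin s' (Finset.mem_filter.2 ⟨Finset.mem_univ _, hc⟩)),
        if_neg (fun h => hne (hm h).symm), smul_zero]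
  · intro h2
    exact absurd (Finset.mem_univ s) h2

/-- the exponents of degree `≤ D` -/
def expo (d D : ℕ) (s : Sym (Fin (d + 1)) D) (i : Fin d) : ℕ := (s : Multiset (Fin (d + 1))).count i.castSucc

theorem expo_sum (d D : ℕ) (s : Sym (Fin (d + 1)) D) :
    ∑ i, expo d D s i + (s : Multiset (Fin (d + 1))).count (Fin.last d) = D := by
  have h1 : ∑ i : Fin (d + 1), (s : Multiset (Fin (d + 1))).count i = D := by
    rw [Multiset.sum_count_eq_card (fun a _ => Finset.mem_univ a)]
    exact s.2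
  rw [Fin.sum_univ_castSucc] at h1
  exact h1

theorem expo_injective (d D : ℕ) : Function.Injective (expo d D) := by
  intro s s' h
  apply Sym.coe_injective
  ext i
  refine Fin.lastCases ?_ (fun i => ?_) i
  · have h1 := expo_sum d D s
    have h2 := expo_sum d D s'
    rw [h] at h1
    omega
  · exact congrFun h i

/-- **The polynomial method.** -/
theorem poly_method {K A : Type*} [Field K] [Ring A] [Algebra K A] (F : Subfield K) [Finite F] (d e : ℕ) (he : 1 ≤ e)
    (N : Fin d → ℕ → A) (hN : LinearIndependent K fun i => N i 1) (H : Submonoid A) [Finite H]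
    (hH : ∀ i, ∀ t ∈ F, 1 + ∑ j ∈ Finset.Icc 1 e, (t : K) ^ j • N i j ∈ H) :
    Nat.choose ((Nat.card F - 1) / e + d) d ≤ Nat.card H := by
  classical
  -- the functionals
  obtain ⟨lam, hlam⟩ : ∃ lam : A →ₗ[K] (Fin d → K), ∀ j, lam (N j 1) = Pi.single j 1 := by
    obtain ⟨g, hg⟩ := LinearMap.exists_leftInverse_of_injective (Fintype.linearCombination K fun i => N i 1)
      (LinearMap.ker_eq_bot'.2 fun c hc => by
        rw [Fintype.linearCombination_apply] at hc
        exact funext (Fintype.linearIndependent_iff.1 hN c hc))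
    refine ⟨g, fun j => ?_⟩
    have h1 := LinearMap.congr_fun hg (Pi.single j 1)
    rw [LinearMap.comp_apply, LinearMap.id_apply, Fintype.linearCombination_apply_single, one_smul] at h1
    exact h1
  obtain ⟨D, hD⟩ : ∃ D, D = (Nat.card F - 1) / e := ⟨_, rfl⟩
  rw [← hD]
  have hfinF : (F : Set K).Finite := Set.toFinite _
  have hcardF : hfinF.toFinset.card = Nat.card F := by
    rw [← Set.ncard_eq_toFinset_card _ hfinF]
    rfl
  have hprod : ∀ t : Fin d → K, (∀ i, t i ∈ F) →
      ((List.finRange d).map fun i => 1 + ∑ j ∈ Finset.Icc 1 e, t i ^ j • N i j).prod ∈ H := by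
    intro t ht
    refine H.list_prod_mem fun x hx => ?_
    obtain ⟨i, -, rfl⟩ := List.mem_map.1 hx
    exact hH i (t i) (ht i)
  let li : Fin d → A →ₗ[K] K := fun i => LinearMap.proj i ∘ₗ lam
  let a : Fin d → MvPolynomial (Fin d) K := fun i => pol e N (List.finRange d) (li i) - C (li i 1)
  have ha : ∀ i, a i - X i ∈ idealOfVars (Fin d) K ^ 2 := by
    intro i
    have h1 := pol_sub_sub e N he (List.finRange d) (li i)
    have h2 : ((List.finRange d).map fun j => C (li i (N j 1)) * X j).sum = (X i : MvPolynomial (Fin d) K) := by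
      rw [← List.ofFn_eq_map, List.sum_ofFn, Finset.sum_eq_single i]
      · simp [li, hlam]
      · intro j _ hj
        simp [li, hlam, Ne.symm hj]
      · intro h; exact absurd (Finset.mem_univ i) h
    rwa [h2] at h1
  have hadeg : ∀ i j, degreeOf j (a i) ≤ e := by
    intro i j
    refine (degreeOf_sub_le _ _ _).trans (max_le ((degreeOf_pol e N j _ _).trans ?_) ?_)
    · have := (List.nodup_iff_count_le_one.1 (List.nodup_finRange d)) j
      calc e * List.count j (List.finRange d) ≤ e * 1 := Nat.mul_le_mul_left _ this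
        _ = e := mul_one e
    · rw [degreeOf_C]; exact Nat.zero_le _
  -- the functions
  let Φ : Sym (Fin (d + 1)) D → (H → K) := fun m g => ∏ i, (li i g - li i 1) ^ expo d D m i
  have hΦ : LinearIndependent K Φ := by
    rw [Fintype.linearIndependent_iff]
    intro c hc
    let P : MvPolynomial (Fin d) K := ∑ m, c m • ∏ i, a i ^ expo d D m i
    have hP : P = 0 := by
      refine eq_zero_of_eval_zero_at_prod_finset P (fun _ => hfinF.toFinset) (fun j => ?_) fun t ht => ?_
      · rw [hcardF]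
        have h1 : degreeOf j P ≤ e * D := by
          refine (degreeOf_sum_le _ _ _).trans (Finset.sup_le fun m _ => ?_)
          have h2 : degreeOf j (c m • ∏ i, a i ^ expo d D m i) ≤ degreeOf j (∏ i, a i ^ expo d D m i) := by
            rw [smul_eq_C_mul]
            exact degreeOf_C_mul_le _ _ _
          refine h2.trans ((degreeOf_prod_le _ _ _).trans ?_)
          calc ∑ i, degreeOf j (a i ^ expo d D m i) ≤ ∑ i, e * expo d D m i := Finset.sum_le_sum fun i _ => by
                refine (degreeOf_pow_le _ _ _).trans ?_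
                rw [mul_comm e]
                exact Nat.mul_le_mul_left _ (hadeg i j)
            _ = e * ∑ i, expo d D m i := (Finset.mul_sum _ _ _).symm
            _ ≤ e * D := Nat.mul_le_mul_left _ (by have := expo_sum d D m; omega)
        have h3 : e * D ≤ Nat.card F - 1 := by rw [hD]; exact Nat.mul_div_le _ _
        have h4 : 0 < Nat.card F := Nat.card_pos
        omega
      · have h1 := congrFun hc ⟨_, hprod t fun i => by
          have := ht i
          rwa [Set.Finite.mem_toFinset] at this⟩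
        rw [Finset.sum_apply, Pi.zero_apply] at h1
        rw [← h1, map_sum]
        refine Finset.sum_congr rfl fun m _ => ?_
        rw [Pi.smul_apply, smul_eq_C_mul, map_mul, eval_C, smul_eq_mul, map_prod]
        congr 1
        refine Finset.prod_congr rfl fun i _ => ?_
        rw [map_pow, map_sub, eval_pol, eval_C]
    exact linInd ha (expo_injective d D) hP
  have := Fintype.ofFinite H
  have h5 := hΦ.fintype_card_le_finrank
  rw [Module.finrank_fintype_fun_eq_card, Sym.card_sym_eq_choose, Fintype.card_fin,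
    ← Nat.card_eq_fintype_card] at h5
  have h6 : d + 1 + D - 1 = D + d := by omega
  rw [h6] at h5
  rwa [Nat.choose_symm_add] at h5

end Main

end Cfsg.Agent.H110.BR
end

-- part: H869/BR/Root
section
/-!
# HUB BR, stub B2: many linearly independent conjugates of a root element (helper869)

`card_of_curve` : curves `1 + t N₁ + … + t ^ e Nₑ` in a subgroup `M` normalised by a dense subgroup `H`;
`card_of_root` (`e = 1`), `card_of_curve_two` (`e = 2`).
-/

set_option autoImplicit false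

namespace Cfsg.Agent.H869.BR

open Cfsg.Agent.H883.BR

universe u v w

/-- the general form of B2 -/
theorem card_of_curve {K : Type u} [Field K] {F : Subfield K} [Finite F] {G : Type w} [Group G] [Finite G]
    {V : Type v} [AddCommGroup V] [Module K V] [FiniteDimensional K V] {ρ : G →* Module.End K V}
    {H M : Subgroup G} (hn : ∀ h ∈ H, ∀ m ∈ M, h * m * h⁻¹ ∈ M) (hD : Dns (ad ρ) H) {e : ℕ} (he : 1 ≤ e)
    {N : ℕ → Module.End K V} (hN : ∀ t ∈ F, ∃ m ∈ M, ρ m = 1 + ∑ j ∈ Finset.Icc 1 e, t ^ j • N j) {d : ℕ}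
    (hd : ∀ S : Submodule K (Module.End K V), Inv (ad ρ) ⊤ S → N 1 ∈ S → d ≤ Module.finrank K S) :
    Nat.choose ((Nat.card F - 1) / e + d) d ≤ Nat.card M := by
  -- the conjugates of `N 1`
  let s : Set (Module.End K V) := {X | ∃ h ∈ H, X = ad ρ h (N 1)}
  have hinv : Inv (ad ρ) H (Submodule.span K s) := by
    intro h hh v hv
    have h1 : Submodule.span K s ≤ (Submodule.span K s).comap (ad ρ h) := by
      rw [Submodule.span_le]
      rintro _ ⟨k, hk, rfl⟩
      refine Submodule.subset_span ⟨h * k, H.mul_mem hh hk, ?_⟩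
      rw [map_mul]
      rfl
    exact h1 hv
  have ha1 : N 1 ∈ Submodule.span K s := Submodule.subset_span ⟨1, H.one_mem, by rw [map_one]; rfl⟩
  have hfr := hd _ (hD _ hinv) ha1
  obtain ⟨b, hbs, hbspan, hbind⟩ := exists_linearIndependent K s
  have hbfin : Finite b := hbind.finite
  have hcard : Module.finrank K (Submodule.span K s) = Nat.card b := by
    have : Fintype b := Fintype.ofFinite b
    have h1 := finrank_span_eq_card hbind
    rw [Subtype.range_coe_subtype, Set.ofPred_mem_eq, hbspan] at h1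
    rw [h1, Nat.card_eq_fintype_card]
  -- `d` independent conjugates
  obtain ⟨ε⟩ : Nonempty (Fin d ↪ b) := by
    have : Fintype b := Fintype.ofFinite b
    refine Function.Embedding.nonempty_of_card_le ?_
    rw [Fintype.card_fin, ← Nat.card_eq_fintype_card, ← hcard]
    exact hfr
  have hε : ∀ i, ∃ h ∈ H, ((ε i : b) : Module.End K V) = ad ρ h (N 1) := fun i => hbs (ε i).2
  choose h hh hhe using hε
  have hind : LinearIndependent K (fun i => ad ρ (h i) (N 1)) := by
    have h1 : (fun i => ad ρ (h i) (N 1)) = fun i => ((ε i : b) : Module.End K V) := funext fun i => (hhe i).symm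
    rw [h1]
    exact hbind.comp ε ε.injective
  let M' : Submonoid (Module.End K V) := M.toSubmonoid.map ρ
  have hsurj : Function.Surjective (fun m : M => (⟨ρ m, m, m.2, rfl⟩ : M')) := by
    rintro ⟨_, m, hm, rfl⟩
    exact ⟨⟨m, hm⟩, rfl⟩
  have hM'fin : Finite M' := Finite.of_surjective _ hsurj
  refine (Cfsg.Agent.H110.BR.poly_method F d e he (fun i j => ad ρ (h i) (N j)) hind M' fun i t ht => ?_).trans
    (Nat.card_le_card_of_surjective _ hsurj)
  obtain ⟨m, hm, hρ⟩ := hN t ht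
  refine ⟨h i * m * (h i)⁻¹, hn _ (hh i) m hm, ?_⟩
  have h2 : ρ (h i * m * (h i)⁻¹) = ad ρ (h i) (ρ m) := by rw [map_mul, map_mul]; rfl
  rw [h2, hρ, map_add, map_sum]
  congr 1
  · rw [ad_apply, mul_one, ← map_mul, mul_inv_cancel, map_one]
  · exact Finset.sum_congr rfl fun j _ => by rw [map_smul]

/-- **B2** -/
theorem card_of_root {K : Type u} [Field K] {F : Subfield K} [Finite F] {G : Type w} [Group G] [Finite G]
    {V : Type v} [AddCommGroup V] [Module K V] [FiniteDimensional K V] {ρ : G →* Module.End K V}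
    {H M : Subgroup G} (hn : ∀ h ∈ H, ∀ m ∈ M, h * m * h⁻¹ ∈ M) (hD : Dns (ad ρ) H) {a : Module.End K V}
    (ha : ∀ t ∈ F, ∃ m ∈ M, ρ m = 1 + t • a) {d : ℕ}
    (hd : ∀ S : Submodule K (Module.End K V), Inv (ad ρ) ⊤ S → a ∈ S → d ≤ Module.finrank K S) :
    Nat.choose (Nat.card F - 1 + d) d ≤ Nat.card M := by
  have h1 := card_of_curve (N := fun _ => a) (e := 1) hn hD le_rfl (fun t ht => by
    obtain ⟨m, hm, h⟩ := ha t ht
    exact ⟨m, hm, by rw [h]; simp⟩) hd
  rwa [Nat.div_one] at h1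

end Cfsg.Agent.H869.BR
end

-- part: H883/BR/RowOf
section
/-!
# HUB BR, D5: from a family to `Row` (C8 and D1 + D2 as hypotheses)
-/

set_option autoImplicit false

namespace Cfsg.Agent.H883.BR

universe u v w

/-- C8 -/
def StStr : Prop := ∀ n : ℕ, ∃ B : ℕ, ∀ (p : ℕ) (_ : p.Prime) (K : Type u) [Field K] [CharP K p] [IsAlgClosed K]
    (_ : ∀ S : Set K, S.Finite → ∃ E : Subfield K, Finite E ∧ S ⊆ E)
    (G : Type w) [Group G] [Finite G] (V : Type v) [AddCommGroup V] [Module K V] [FiniteDimensional K V]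
    (ρ : G →* Module.End K V), Module.finrank K V = n → 2 ≤ n → Function.Injective ρ → QS G → Irr ρ ⊤ → TPrim ρ →
    ∀ H : Subgroup G, Dns (ad (ad ρ)) H → ∀ y ∈ H, (∀ k, 0 < k → k ≤ B → ¬ ∃ c : K, ρ (y ^ k) = c • 1) →
    ∃ M : Subgroup G, M ≤ H ∧ (∀ h ∈ H, ∀ m ∈ M, h * m * h⁻¹ ∈ M) ∧ Dns (ad ρ) M ∧ Irr ρ M ∧ commutator M = ⊤ ∧
      IsSimpleGroup (M ⧸ Subgroup.center M) ∧ ¬ IsMulCommutative (M ⧸ Subgroup.center M) ∧
      Cfsg.IsLieTypeChar p (M ⧸ Subgroup.center M) ∧ ∀ z : M, z ∈ Subgroup.center M ↔ ∃ c : K, ρ z = c • 1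

/-- D1 + D2 -/
def StCRG : Prop := ∀ (p : ℕ) [Fact p.Prime] (M : Type w) [Group M] [Finite M], commutator M = ⊤ →
    IsSimpleGroup (M ⧸ Subgroup.center M) → Cfsg.IsLieTypeChar p (M ⧸ Subgroup.center M) →
    ¬ p ∣ Nat.card (Subgroup.center M) → ∃ U : Subgroup M, CRG.{u, v, w} p U

/-- B2 -/
theorem card_of_root' {K : Type u} [Field K] {F : Subfield K} [Finite F] {G : Type w} [Group G] [Finite G]
    {V : Type v} [AddCommGroup V] [Module K V] [FiniteDimensional K V] {ρ : G →* Module.End K V}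
    {H M : Subgroup G} (hn : ∀ h ∈ H, ∀ m ∈ M, h * m * h⁻¹ ∈ M) (hD : Dns (ad ρ) H) {a : Module.End K V}
    (ha : ∀ t ∈ F, ∃ m ∈ M, ρ m = 1 + t • a) {d : ℕ}
    (hd : ∀ S : Submodule K (Module.End K V), Inv (ad ρ) ⊤ S → a ∈ S → d ≤ Module.finrank K S) :
    Nat.choose (Nat.card F - 1 + d) d ≤ Nat.card M :=
  Cfsg.Agent.H869.BR.card_of_root hn hD ha hd

theorem PolyDeg.mono {K : Type u} {V : Type v} {G : Type w} [Field K] [AddCommGroup V] [Module K V] [Group G]
    {ρ : G →* Module.End K V} {F : Subfield K} {ι : Type*} {x : ι → F → G} {e e' : ℕ} (h : PolyDeg ρ F x e)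
    (he : e ≤ e') : PolyDeg ρ F x e' := by
  intro i
  obtain ⟨c, hc⟩ := h i
  refine ⟨fun j => if j ≤ e then c j else 0, fun t => ?_⟩
  rw [hc t]
  have h1 : Finset.range (e + 1) ⊆ Finset.range (e' + 1) := Finset.range_mono (by omega)
  rw [← Finset.sum_subset h1 fun j _ hj => by
    rw [Finset.mem_range, not_lt] at hj
    beta_reduce
    rw [if_neg (by omega), smul_zero]]
  refine Finset.sum_congr rfl fun j hj => ?_
  rw [Finset.mem_range] at hj
  beta_reduce
  rw [if_pos (by omega)]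

/-- scalars act trivially -/
theorem ad_of_scalar {K : Type u} [Field K] {G : Type w} [Group G] {V : Type v} [AddCommGroup V] [Module K V]
    {ρ : G →* Module.End K V} {g : G} {c : K} (h : ρ g = c • 1) : ad ρ g = 1 := by
  refine LinearMap.ext fun X => ?_
  have h1 : ρ g * ρ g⁻¹ = 1 := by rw [← map_mul, mul_inv_cancel, map_one]
  rw [ad_apply, Module.End.one_apply]
  calc ρ g * X * ρ g⁻¹ = X * ρ g * ρ g⁻¹ := by rw [h, smul_mul_assoc, one_mul, mul_smul_comm, mul_one]
    _ = X := by rw [mul_assoc, h1, mul_one]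

/-- `ad (ad ρ) g = 1` only if `ad ρ g = 1` -/
theorem ad_eq_one_of {K : Type u} [Field K] {G : Type w} [Group G] {V : Type v} [AddCommGroup V] [Module K V]
    [Nontrivial V] {ρ : G →* Module.End K V} {g : G} (h : ad (ad ρ) g = 1) : ad ρ g = 1 := by
  -- `ad ρ g` commutes with everything
  have hc : ∀ Y : Module.End K (Module.End K V), ad ρ g * Y = Y * ad ρ g := by
    intro Y
    have h1 : ad ρ g * Y * ad ρ g⁻¹ = Y := by
      rw [← ad_apply, h, Module.End.one_apply]
    have h2 : ad ρ g⁻¹ * ad ρ g = 1 := by rw [← map_mul, inv_mul_cancel, map_one]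
    calc ad ρ g * Y = ad ρ g * Y * (ad ρ g⁻¹ * ad ρ g) := by rw [h2, mul_one]
      _ = ad ρ g * Y * ad ρ g⁻¹ * ad ρ g := by rw [← mul_assoc]
      _ = Y * ad ρ g := by rw [h1]
  obtain ⟨c, hc⟩ : ∃ c : K, ∀ X : Module.End K V, ad ρ g X = c • X := by
    by_contra hcon
    have h3 : ∀ X : Module.End K V, X ≠ 0 → ∃ c : K, ad ρ g X = c • X := by
      intro X hX
      by_contra hn
      have hind : ∃ f : Module.End K V →ₗ[K] K, f X = 0 ∧ f (ad ρ g X) ≠ 0 := by
        have hns : ad ρ g X ∉ Submodule.span K {X} := by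
          rw [Submodule.mem_span_singleton]
          rintro ⟨c, hc⟩
          exact hn ⟨c, hc.symm⟩
        obtain ⟨f, hf1, hf2⟩ := Submodule.exists_le_ker_of_notMem hns
        exact ⟨f, hf2 (Submodule.mem_span_singleton_self X), hf1⟩
      obtain ⟨f, hf1, hf2⟩ := hind
      have h4 := LinearMap.congr_fun (hc (f.smulRight X)) X
      simp only [Module.End.mul_apply, LinearMap.smulRight_apply] at h4
      rw [hf1, zero_smul, map_zero] at h4
      exact hX ((smul_eq_zero.1 h4.symm).resolve_left hf2)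
    have hone : (1 : Module.End K V) ≠ 0 := one_ne_zero
    obtain ⟨c, hc1⟩ := h3 1 hone
    refine hcon ⟨c, fun X => ?_⟩
    -- use a functional with value one at `1`
    obtain ⟨f, hf⟩ : ∃ f : Module.End K V →ₗ[K] K, f 1 = 1 := by
      have hns : (1 : Module.End K V) ∉ (⊥ : Submodule K (Module.End K V)) := by rwa [Submodule.mem_bot]
      obtain ⟨f, hf1, -⟩ := Submodule.exists_le_ker_of_notMem hns
      refine ⟨(f 1)⁻¹ • f, ?_⟩
      rw [LinearMap.smul_apply, smul_eq_mul, inv_mul_cancel₀ hf1]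
    have h4 := LinearMap.congr_fun (hc (f.smulRight X)) 1
    simp only [Module.End.mul_apply, LinearMap.smulRight_apply] at h4
    rw [hf, one_smul, hc1, map_smul, hf, smul_eq_mul, mul_one] at h4
    exact h4
  have h1 : ad ρ g 1 = 1 := by
    rw [ad_apply, mul_one, ← map_mul, mul_inv_cancel, map_one]
  have hone : (1 : Module.End K V) ≠ 0 := one_ne_zero
  have hc1 : c = 1 := by
    have h2 := hc 1
    rw [h1] at h2
    by_contra hne
    have h3 : (1 - c) • (1 : Module.End K V) = 0 := by rw [sub_smul, one_smul, ← h2, sub_self]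
    exact hone ((smul_eq_zero.1 h3).resolve_left (sub_ne_zero.2 (Ne.symm hne)))
  refine LinearMap.ext fun X => ?_
  rw [hc X, hc1, one_smul, Module.End.one_apply]

/-- perfect groups have determinant one -/
theorem det_one {K : Type u} [Field K] {G : Type w} [Group G] (hG : commutator G = ⊤) {W : Type v} [AddCommGroup W]
    [Module K W] (σ : G →* Module.End K W) (g : G) : LinearMap.det (σ g) = 1 := by
  let f : G →* K := (LinearMap.det : Module.End K W →* K).comp σ
  have h1 : commutator G ≤ (f.toHomUnits).ker := by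
    rw [commutator_def, Subgroup.commutator_le]
    intro a _ b _
    rw [MonoidHom.mem_ker, map_commutatorElement, commutatorElement_eq_one_iff_mul_comm, mul_comm]
  have h2 : g ∈ (f.toHomUnits).ker := h1 (hG ▸ Subgroup.mem_top g)
  rw [MonoidHom.mem_ker] at h2
  have h3 := congrArg Units.val h2
  exact h3

/-- **D5** -/
theorem row_of_fam' (hstr : StStr.{u, u, w}) (hcrg : StCRG.{u, u, w}) (n : ℕ) : ∃ C q₀ : ℕ, ∀ (p d q : ℕ)
    (K : Type u) [Field K] (F : Subfield K) (G : Type w) [Group G]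
    (V W : Type u) [AddCommGroup V] [Module K V] [AddCommGroup W] [Module K W] (ρ : G →* Module.End K V)
    (σ : G →* Module.End K W), q₀ ≤ q → Fam p n d q F ρ σ → Row.{u, w} C q G := by
  classical
  obtain ⟨B, hB⟩ := hstr n
  obtain ⟨C, hC⟩ : ∃ C : ℕ, C = n ^ 4 + n ^ 2 + 4 + B := ⟨_, rfl⟩
  refine ⟨C, 2 * C + 2, fun p d q K _ F G _ V W _ _ _ _ ρ σ hq h => ?_⟩
  obtain ⟨ι, x, hx, hρ, hσ⟩ := h.root
  have := h.finF
  have := h.finG
  have := h.fdV
  have := h.fdW
  have := h.char
  have := h.closed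
  have hpf : Fact p.Prime := ⟨h.prime⟩
  have hnt : Nontrivial V := Module.finrank_pos_iff.1 (by rw [h.dimV]; have := h.two_le; omega)
  have hdimE : Module.finrank K (Module.End K V) = n ^ 2 := by
    rw [Module.finrank_linearMap, h.dimV, sq]
  have hdimL : Module.finrank K (Module.End K (Module.End K V)) = n ^ 4 := by
    rw [Module.finrank_linearMap, hdimE]
    ring
  have hpol : PolyDeg (ad (ad ρ)) F x 4 :=
    Cfsg.Agent.H886.BR.polyDeg_ad hx (Cfsg.Agent.H886.BR.polyDeg_ad hx hρ)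
  refine ⟨K, inferInstance, F, ι, x, Module.End K (Module.End K V), W, W, inferInstance, inferInstance, inferInstance,
    inferInstance, inferInstance, inferInstance, ad (ad ρ), σ, σ, inferInstance, h.cardF, hx, inferInstance,
    inferInstance, inferInstance, by rw [hdimL]; omega, h.dimW.trans (by omega), h.dimW.trans (by omega),
    hpol.mono (by omega), hσ.mono (by omega), hσ.mono (by omega), h.trn, h.trn, ?_, ?_⟩
  · intro k hk hkC
    obtain ⟨g, hg⟩ := h.pw k hk (by omega)
    exact ⟨g, fun h1 => hg (ad_eq_one_of h1)⟩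
  intro H hH y hy hyk htr _
  have hyB : ∀ k, 0 < k → k ≤ B → ¬ ∃ c : K, ρ (y ^ k) = c • 1 := by
    rintro k hk hkB ⟨c, hc⟩
    refine hyk k hk (by omega) ?_
    exact ad_of_scalar (c := 1) (by rw [one_smul]; exact ad_of_scalar hc)
  obtain ⟨M, hMH, hn, hDM, hirr, hperf, hsim, hnc, hlie, hcen⟩ := hB p h.prime K h.locfin G V ρ h.dimV h.two_le h.inj
    h.qs h.irr h.tprim H hH y hy hyB
  -- the centre of `M`
  have hpz : ¬ p ∣ Nat.card (Subgroup.center M) := by
    intro hdvd
    obtain ⟨z, hz⟩ := exists_prime_orderOf_dvd_card' p hdvd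
    obtain ⟨c, hc⟩ := (hcen z).1 z.2
    have hzp : z ^ p = 1 := by rw [← hz]; exact pow_orderOf_eq_one z
    have hcp : c ^ p = 1 := by
      have h1 : ρ (((z : M) : G) ^ p) = 1 := by
        have h2 : (((z : M) : G)) ^ p = 1 := by
          have := congrArg (fun t : Subgroup.center M => ((t : M) : G)) hzp
          simpa using this
        rw [h2, map_one]
      rw [map_pow, hc, smul_pow, one_pow] at h1
      have h3 : (c ^ p - 1) • (1 : Module.End K V) = 0 := by rw [sub_smul, h1, one_smul, sub_self]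
      exact sub_eq_zero.1 ((smul_eq_zero.1 h3).resolve_right one_ne_zero)
    have hc1 : c = 1 := by
      have h1 : (c - 1) ^ p = 0 := by rw [sub_pow_char, one_pow, hcp, sub_self]
      exact sub_eq_zero.1 (pow_eq_zero_iff h.prime.ne_zero |>.1 h1)
    have hz1 : ((z : M) : G) = 1 := h.inj (by rw [hc, hc1, one_smul, map_one])
    have hz2 : z = 1 := Subtype.ext (Subtype.ext hz1)
    rw [hz2, orderOf_one] at hz
    exact h.prime.ne_one hz.symm
  obtain ⟨U, hU⟩ := hcrg p M hperf hsim hlie hpz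
  have hσM : Irr σ M := h.inh M hDM
  have hz : ∀ z : M, z ∈ Subgroup.center M → σ z = 1 := by
    intro z hzc
    obtain ⟨c, hc⟩ := (hcen z).1 hzc
    exact h.cen z c hc
  have hσ' : Irr (σ.comp M.subtype) ⊤ :=
    ⟨hσM.1, fun S hS => hσM.2 S fun m hm v hv => hS ⟨m, hm⟩ (Subgroup.mem_top _) v hv⟩
  obtain ⟨w, hw, hfix⟩ := hU.one K W (σ.comp M.subtype) hσ' fun z hzc => hz z hzc
  have huw : ∀ u ∈ U, σ (u : G) w = w := (hfix w).2 ⟨1, (one_smul K w).symm⟩
  -- the subgroup `U` of `G`
  have hUG : U.map M.subtype ≤ M := by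
    rintro _ ⟨u, -, rfl⟩
    exact u.2
  have hUp : IsPGroup p (U.map M.subtype) := hU.isP.map _
  have hUne : U.map M.subtype ≠ ⊥ := by
    intro h1
    exact hU.ne ((Subgroup.map_eq_bot_iff_of_injective U M.subtype_injective).1 h1)
  obtain ⟨z, hzU, a, ha0, haa, hza, hba, hd⟩ := h.ext M (U.map M.subtype) hUG hUp hUne hDM w hw (by
    intro v
    rw [← hfix v]
    constructor
    · intro h1 u hu
      exact h1 u ⟨u, hu, rfl⟩
    · rintro h1 _ ⟨u, hu, rfl⟩
      exact h1 u hu)
  have hroot := Cfsg.Agent.H601.BR.root_full h.locfin (F := F) ρ σ hMH hn hU hσM hz hw huw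
    (fun g _ => det_one h.qs.perf σ g) haa ⟨z, hUG hzU, hza⟩ (fun b c hb hbw => hba b b.2 (by
      rintro _ ⟨u, hu, rfl⟩
      exact ⟨b * u * b⁻¹, hb u hu, by simp⟩) c hbw) hy htr (pow_mem (h.trF y) _)
  have hcard := card_of_root' hn (Cfsg.Agent.H545.BR.dns_of_ad hH) hroot hd
  rw [h.cardF] at hcard
  have hM : M = ⊤ := by
    by_contra hM
    exact absurd (h.count M hM) (not_lt.2 hcard)
  rw [eq_top_iff, ← hM]
  exact hMH

end Cfsg.Agent.H883.BR
end

private theorem dce_e21b15a07517 : _root_.True := by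
  try have : _root_.True := by simp only [_root_.Cfsg.Agent.H215.BR.Q0.eq_1]
  try have : _root_.True := by simp only [_root_.Cfsg.Agent.H215.BR.rt.congr_simp]
  try have : _root_.True := by simp only [_root_.Cfsg.Agent.H215.BR.xs.eq_1]
  try have : _root_.True := by simp only [_root_.Cfsg.Agent.H215.BR.lift.congr_simp]
  try have : _root_.True := by simp only [_root_.Cfsg.Agent.H110.BR.pol.eq_2]
  try have : _root_.True := by simp only [_root_.Cfsg.Agent.H110.BR.pol.eq_def]
  try have : _root_.True := by simp only [_root_.Cfsg.Agent.H110.BR.pol.eq_1]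
  try have : _root_.True := by simp only [_root_.Cfsg.Agent.H215.BR.fl.congr_simp]
  try have : _root_.True := by simp only [_root_.Cfsg.Agent.H215.BR.lift.eq_1]
  exact _root_.True.intro
end

-- part: H748/BR/OmFrob_mg
section
prune_inst 0x204028244900100000000584e100002210000002000000000040020403090000400280000110201a1080000040010008101000008040000004200400001800001080000090080000020000000000000000000000000000000000000000034000000000000
set_option linter.all false
open scoped Cfsg.Agent.FastGrp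

-- part: H748/BR/OmDefs
section
/-!
# HUB BR: the concrete objects for the families `Ω(Q)` (helper748)

* `Om Q` : `Omega F Q`; `rho Q K : Om Q →* End (ι → K)`, `BK Q K` the polar form over the extension `K`;
* `wdg B u v : x ↦ B v x • u - B u x • v`;
* `so B` (skew), `lam B` (self-adjoint and alternating), `lam0 B := span {wdg B u v | B u v = 0}`.
-/

set_option autoImplicit false
set_option linter.unusedSectionVars false

namespace Cfsg.Agent.H748.BR

open Cfsg Cfsg.Agent.H883.BR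

/-! ### abstract -/

section abs

variable {K : Type*} [Field K] {V : Type*} [AddCommGroup V] [Module K V] (B : LinearMap.BilinForm K V)

/-- the rank two element `u ∧ v` : `x ↦ B v x • u - B u x • v` -/
def wdg (u v : V) : Module.End K V := (B v).smulRight u - (B u).smulRight v

theorem wdg_apply (u v x : V) : wdg B u v x = B v x • u - B u x • v := rfl

/-- the skew-adjoint endomorphisms -/
def so : Submodule K (Module.End K V) where
  carrier := {X | ∀ v w, B (X v) w = - B v (X w)}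
  zero_mem' := fun v w => by simp
  add_mem' := fun {X Y} hX hY v w => by
    change B (X v + Y v) w = - B v (X w + Y w)
    rw [map_add, map_add, LinearMap.add_apply, hX, hY, neg_add]
  smul_mem' := fun c X hX v w => by
    change B (c • X v) w = - B v (c • X w)
    rw [map_smul, map_smul, LinearMap.smul_apply, hX, smul_eq_mul, smul_eq_mul, mul_neg]

theorem mem_so {X : Module.End K V} : X ∈ so B ↔ ∀ v w, B (X v) w = - B v (X w) := Iff.rfl

/-- the self-adjoint alternating endomorphisms (for characteristic 2) -/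
def lam : Submodule K (Module.End K V) where
  carrier := {X | (∀ v w, B (X v) w = B v (X w)) ∧ ∀ v, B (X v) v = 0}
  zero_mem' := ⟨fun v w => by simp only [_root_.LinearMap.zero_apply, _root_.map_zero], fun v => by simp⟩
  add_mem' := fun {X Y} hX hY => ⟨fun v w => by
    change B (X v + Y v) w = B v (X w + Y w)
    rw [map_add, map_add, LinearMap.add_apply, hX.1, hY.1], fun v => by
    change B (X v + Y v) v = 0
    rw [map_add, LinearMap.add_apply, hX.2, hY.2, add_zero]⟩
  smul_mem' := fun c X hX => ⟨fun v w => by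
    change B (c • X v) w = B v (c • X w)
    rw [map_smul, map_smul, LinearMap.smul_apply, hX.1], fun v => by
    change B (c • X v) v = 0
    rw [map_smul, LinearMap.smul_apply, hX.2, smul_zero]⟩

theorem mem_lam {X : Module.End K V} : X ∈ lam B ↔ (∀ v w, B (X v) w = B v (X w)) ∧ ∀ v, B (X v) v = 0 := Iff.rfl

/-- the span of the `u ∧ v`, `B u v = 0` -/
def lam0 : Submodule K (Module.End K V) := Submodule.span K {X | ∃ u v, B u v = 0 ∧ wdg B u v = X}

end abs

/-! ### concrete -/

section conc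

variable {F : Type} [Field F] {ι : Type} [Fintype ι] [DecidableEq ι] (Q : QuadraticForm F (ι → F))
  (K : Type) [Field K] [Algebra F K]

/-- `Ω(Q)` -/
abbrev Om : Type := Omega F (fun v : ι → F => Q v)

/-- the matrix over `F` -/
def matF : Om Q →* Matrix ι ι F :=
  (Units.coeHom (Matrix ι ι F)).comp ((isometryGroup F fun v => Q v).subtype.comp (Omega F fun v => Q v).subtype)

/-- the matrix over `K` -/
def matK : Om Q →* Matrix ι ι K :=
  ((algebraMap F K).mapMatrix : Matrix ι ι F →+* Matrix ι ι K).toMonoidHom.comp (matF Q)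

/-- **the natural representation over `K`** -/
def rho : Om Q →* Module.End K (ι → K) :=
  ((Matrix.toLinAlgEquiv' : Matrix ι ι K ≃ₐ[K] Module.End K (ι → K)).toAlgHom.toRingHom.toMonoidHom).comp (matK Q K)

/-- the matrix of the polar form -/
def gram : Matrix ι ι F := Matrix.of fun i j => QuadraticMap.polar Q (Pi.single i 1) (Pi.single j 1)

/-- the polar form over `K` -/
noncomputable def BK : LinearMap.BilinForm K (ι → K) := Matrix.toBilin' ((gram Q).map (algebraMap F K))

/-- vectors over `F` -/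
def vK (v : ι → F) : ι → K := fun i => algebraMap F K (v i)

variable {Q K}

theorem rho_apply (g : Om Q) (v : ι → K) : rho Q K g v = (matK Q K g).mulVec v := rfl

theorem matK_apply (g : Om Q) : matK Q K g = (matF Q g).map (algebraMap F K) := rfl

theorem matF_isom (g : Om Q) (v : ι → F) : Q ((matF Q g).mulVec v) = Q v := g.1.2 v v

theorem matF_inj : Function.Injective (matF Q) := by
  intro a b h
  exact Subtype.ext (Subtype.ext (Units.ext h))

theorem matK_inj : Function.Injective (matK Q K) := by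
  intro a b h
  apply matF_inj
  exact Matrix.map_injective (algebraMap F K).injective h

theorem rho_inj : Function.Injective (rho Q K) := by
  intro a b h
  apply matK_inj (K := K)
  exact (Matrix.toLinAlgEquiv' : Matrix ι ι K ≃ₐ[K] Module.End K (ι → K)).injective h

theorem rho_vK (g : Om Q) (v : ι → F) : rho Q K g (vK K v) = vK K ((matF Q g).mulVec v) := by
  rw [rho_apply, matK_apply]
  funext i
  exact (RingHom.map_mulVec (algebraMap F K) (matF Q g) v i).symm

theorem vK_add (v w : ι → F) : vK K (v + w) = vK K v + vK K w := funext fun _ => map_add _ _ _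

theorem vK_smul (c : F) (v : ι → F) : vK K (c • v) = algebraMap F K c • vK K v := funext fun _ => map_mul _ _ _

theorem vK_single (i : ι) (c : F) : vK K (Pi.single i c : ι → F) = Pi.single i (algebraMap F K c) := by
  funext j
  by_cases h : j = i
  · subst h; simp [vK]
  · simp [vK, h]

theorem BK_apply (v w : ι → K) : BK Q K v w = ∑ i, ∑ j, v i * algebraMap F K (gram Q i j) * w j := by
  rw [BK, Matrix.toBilin'_apply]
  rfl

theorem polar_eq_sum (v w : ι → F) : QuadraticMap.polar Q v w = ∑ i, ∑ j, v i * gram Q i j * w j := by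
  have h : QuadraticMap.polar Q v w = (QuadraticMap.polarBilin Q) v w := rfl
  have hB : Matrix.toBilin' (gram Q) = QuadraticMap.polarBilin Q := by
    apply LinearMap.BilinForm.toMatrix'.injective
    rw [LinearMap.BilinForm.toMatrix'_toBilin']
    ext i j
    rw [LinearMap.BilinForm.toMatrix'_apply]
    rfl
  rw [h, ← hB, Matrix.toBilin'_apply]

theorem BK_vK (v w : ι → F) : BK Q K (vK K v) (vK K w) = algebraMap F K (QuadraticMap.polar Q v w) := by
  rw [BK_apply, polar_eq_sum, map_sum]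
  refine Finset.sum_congr rfl fun i _ => ?_
  rw [map_sum]
  refine Finset.sum_congr rfl fun j _ => ?_
  rw [map_mul, map_mul]
  rfl

theorem gram_symm (i j : ι) : gram Q i j = gram Q j i := QuadraticMap.polar_comm _ _ _

theorem BK_comm (v w : ι → K) : BK Q K v w = BK Q K w v := by
  rw [BK_apply, BK_apply, Finset.sum_comm]
  refine Finset.sum_congr rfl fun i _ => Finset.sum_congr rfl fun j _ => ?_
  rw [gram_symm]
  ring

theorem polar_matF (g : Om Q) (v w : ι → F) :
    QuadraticMap.polar Q ((matF Q g).mulVec v) ((matF Q g).mulVec w) = QuadraticMap.polar Q v w := by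
  rw [QuadraticMap.polar, QuadraticMap.polar, ← Matrix.mulVec_add, matF_isom, matF_isom, matF_isom]

theorem BK_ext {C D : LinearMap.BilinForm K (ι → K)}
    (h : ∀ i j, C (Pi.single i 1) (Pi.single j 1) = D (Pi.single i 1) (Pi.single j 1)) : C = D := by
  apply LinearMap.BilinForm.toMatrix'.injective
  ext i j
  rw [LinearMap.BilinForm.toMatrix'_apply, LinearMap.BilinForm.toMatrix'_apply]
  exact h i j

/-- `BK` is invariant -/
theorem BK_rho (g : Om Q) (v w : ι → K) : BK Q K (rho Q K g v) (rho Q K g w) = BK Q K v w := by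
  have h : (BK Q K).compl₁₂ (rho Q K g) (rho Q K g) = BK Q K := by
    apply BK_ext
    intro i j
    have e1 : ∀ i : ι, (Pi.single i 1 : ι → K) = vK K (Pi.single i (1 : F)) := fun i => by
      rw [vK_single, map_one]
    rw [LinearMap.compl₁₂_apply, e1, e1, rho_vK, rho_vK, BK_vK, polar_matF, BK_vK]
  exact congrArg (fun C : LinearMap.BilinForm K (ι → K) => C v w) h

/-- `BK` is nondegenerate -/
theorem BK_nondeg (hQ : ∀ v, (∀ w, QuadraticMap.polar Q v w = 0) → v = 0) {v : ι → K}
    (h : ∀ w, BK Q K v w = 0) : v = 0 := by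
  have hdet : (gram Q).det ≠ 0 := by
    intro h0
    obtain ⟨x, hx, hx0⟩ := Matrix.exists_mulVec_eq_zero_iff.2 h0
    apply hx
    apply hQ
    intro w
    rw [QuadraticMap.polar_comm, polar_eq_sum]
    refine Finset.sum_eq_zero fun i _ => ?_
    have h1 := congrFun hx0 i
    rw [Matrix.mulVec, dotProduct] at h1
    calc ∑ j, w i * gram Q i j * x j = w i * ∑ j, gram Q i j * x j := by
          rw [Finset.mul_sum]
          exact Finset.sum_congr rfl fun j _ => by ring
      _ = 0 := by rw [h1]; simp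
  have hdet' : ((gram Q).map (algebraMap F K)).det ≠ 0 := by
    rw [← RingHom.mapMatrix_apply, ← RingHom.map_det]
    exact fun h0 => hdet ((map_eq_zero _).1 h0)
  by_contra hv
  apply hdet'
  rw [← Matrix.exists_vecMul_eq_zero_iff]
  refine ⟨v, hv, ?_⟩
  funext j
  have h1 := h (Pi.single j 1)
  rw [BK_apply] at h1
  rw [Matrix.vecMul, dotProduct]
  simpa only [Matrix.map_apply, Pi.single_apply, _root_.Pi.zero_apply, _root_.mul_ite, _root_.mul_one, _root_.MulZeroClass.mul_zero, _root_.Finset.sum_ite_eq', _root_.Finset.mem_univ, ↓ _root_.reduceIte] using h1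

theorem rho_inv_left (g : Om Q) (v : ι → K) : rho Q K g⁻¹ (rho Q K g v) = v := by
  rw [← Module.End.mul_apply, ← map_mul, inv_mul_cancel, map_one, Module.End.one_apply]

theorem rho_inv_right (g : Om Q) (v : ι → K) : rho Q K g (rho Q K g⁻¹ v) = v := by
  rw [← Module.End.mul_apply, ← map_mul, mul_inv_cancel, map_one, Module.End.one_apply]

theorem BK_adj (g : Om Q) (v w : ι → K) : BK Q K v (rho Q K g w) = BK Q K (rho Q K g⁻¹ v) w := by
  conv_lhs => rw [← rho_inv_right g v]
  exact BK_rho g _ _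

seal _root_.Finset.sum _root_.dotProduct in
/-- conjugation of `u ∧ v` -/
theorem ad_wdg (g : Om Q) (u v : ι → K) :
    ad (rho Q K) g (wdg (BK Q K) u v) = wdg (BK Q K) (rho Q K g u) (rho Q K g v) := by
  refine LinearMap.ext fun x => ?_
  rw [ad_apply, Module.End.mul_apply, Module.End.mul_apply, wdg_apply, wdg_apply, map_sub, map_smul, map_smul]
  have h : ∀ a, BK Q K (rho Q K g a) x = BK Q K a (rho Q K g⁻¹ x) := by
    intro a
    rw [BK_adj, inv_inv]
  rw [h, h]

theorem so_inv : _root_.Cfsg.Agent.H883.BR.Inv (ad (rho Q K)) ⊤ (so (BK Q K)) := by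
  intro g _ X hX v w
  rw [ad_apply]
  change BK Q K (rho Q K g (X (rho Q K g⁻¹ v))) w = - BK Q K v (rho Q K g (X (rho Q K g⁻¹ w)))
  rw [BK_adj, ← BK_rho g⁻¹, rho_inv_left, hX]

theorem lam_inv : _root_.Cfsg.Agent.H883.BR.Inv (ad (rho Q K)) ⊤ (lam (BK Q K)) := by
  intro g _ X hX
  refine ⟨fun v w => ?_, fun v => ?_⟩
  · rw [ad_apply]
    change BK Q K (rho Q K g (X (rho Q K g⁻¹ v))) w = BK Q K v (rho Q K g (X (rho Q K g⁻¹ w)))
    rw [BK_adj, ← BK_rho g⁻¹, rho_inv_left, hX.1]
  · rw [ad_apply]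
    change BK Q K (rho Q K g (X (rho Q K g⁻¹ v))) v = 0
    rw [← BK_rho g⁻¹, rho_inv_left, hX.2]

theorem lam0_inv : _root_.Cfsg.Agent.H883.BR.Inv (ad (rho Q K)) ⊤ (lam0 (BK Q K)) := by
  intro g _ X hX
  have h : lam0 (BK Q K) ≤ (lam0 (BK Q K)).comap (ad (rho Q K) g) := by
    rw [lam0, Submodule.span_le]
    rintro _ ⟨u, v, huv, rfl⟩
    rw [SetLike.mem_coe, Submodule.mem_comap, ad_wdg]
    exact Submodule.subset_span ⟨_, _, by rw [BK_rho, huv], rfl⟩
  exact h hX

end conc

end Cfsg.Agent.H748.BR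
end

-- part: H748/BR/OmFrob
section
/-!
# HUB BR: the coordinatewise Frobenius on `ι → K` and on `End` (helper748), both parities
-/

set_option autoImplicit false
set_option linter.unusedSectionVars false

namespace Cfsg.Agent.H748.BR

open Cfsg Cfsg.Agent.H883.BR

section fr

variable {K : Type} [Field K] {ι : Type} [Fintype ι] [DecidableEq ι] (τ : K ≃+* K)

/-- coordinatewise `τ` -/
def frV : (ι → K) →+ (ι → K) where
  toFun v i := τ (v i)
  map_zero' := funext fun _ => map_zero τ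
  map_add' v w := funext fun _ => map_add τ _ _

theorem frV_apply (v : ι → K) (i : ι) : frV τ v i = τ (v i) := rfl

theorem frV_smul (c : K) (v : ι → K) : frV τ (c • v) = τ c • frV τ v := funext fun _ => map_mul τ _ _

theorem frV_symm (v : ι → K) : frV τ (frV τ.symm v) = v := funext fun _ => τ.apply_symm_apply _

theorem frV_symm' (v : ι → K) : frV τ.symm (frV τ v) = v := funext fun _ => τ.symm_apply_apply _

/-- `X ↦ τ X τ⁻¹` -/
def frE : Module.End K (ι → K) →+ Module.End K (ι → K) where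
  toFun X :=
    { toFun := fun v => frV τ (X (frV τ.symm v))
      map_add' := fun v w => by rw [map_add, map_add, map_add]
      map_smul' := fun c v => by
        rw [frV_smul, map_smul, frV_smul, RingEquiv.apply_symm_apply, RingHom.id_apply] }
  map_zero' := LinearMap.ext fun v => by
    change frV τ ((0 : Module.End K (ι → K)) (frV τ.symm v)) = 0
    rw [LinearMap.zero_apply, map_zero]
  map_add' X Y := LinearMap.ext fun v => by
    change frV τ ((X + Y) (frV τ.symm v)) = frV τ (X (frV τ.symm v)) + frV τ (Y (frV τ.symm v))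
    rw [LinearMap.add_apply, map_add]

theorem frE_apply (X : Module.End K (ι → K)) (v : ι → K) : frE τ X v = frV τ (X (frV τ.symm v)) := rfl

theorem frE_smul (c : K) (X : Module.End K (ι → K)) : frE τ (c • X) = τ c • frE τ X := by
  refine LinearMap.ext fun v => ?_
  rw [frE_apply, LinearMap.smul_apply, frV_smul, LinearMap.smul_apply, frE_apply]

theorem frE_mul (X Y : Module.End K (ι → K)) : frE τ (X * Y) = frE τ X * frE τ Y := by
  refine LinearMap.ext fun v => ?_
  rw [frE_apply, Module.End.mul_apply, Module.End.mul_apply, frE_apply, frE_apply, frV_symm']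

theorem frE_one : frE τ (1 : Module.End K (ι → K)) = 1 := by
  refine LinearMap.ext fun v => ?_
  rw [frE_apply, Module.End.one_apply, frV_symm, Module.End.one_apply]

theorem frE_injective : Function.Injective (frE τ : Module.End K (ι → K) →+ Module.End K (ι → K)) := by
  intro X Y h
  refine LinearMap.ext fun v => ?_
  have h1 := LinearMap.congr_fun h (frV τ v)
  rw [frE_apply, frE_apply, frV_symm'] at h1
  have h2 := congrArg (frV τ.symm) h1
  rwa [frV_symm', frV_symm'] at h2

end fr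

section conc

variable {F : Type} [Field F] {ι : Type} [Fintype ι] [DecidableEq ι] {Q : QuadraticForm F (ι → F)}
  {K : Type} [Field K] [Algebra F K] {τ : K ≃+* K} (hτ : ∀ c : F, τ (algebraMap F K c) = algebraMap F K c)

include hτ

/-- `τ` commutes with the group -/
theorem frV_rho (g : Om Q) (v : ι → K) : frV τ (rho Q K g v) = rho Q K g (frV τ v) := by
  funext i
  rw [frV_apply, rho_apply, rho_apply, Matrix.mulVec, Matrix.mulVec, dotProduct, dotProduct, map_sum]
  refine Finset.sum_congr rfl fun j _ => ?_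
  rw [map_mul, matK_apply, Matrix.map_apply, hτ, frV_apply]

theorem frE_rho (g : Om Q) : frE τ (rho Q K g) = rho Q K g := by
  refine LinearMap.ext fun v => ?_
  rw [frE_apply, frV_rho hτ, frV_symm]

theorem frE_ad (g : Om Q) (X : Module.End K (ι → K)) : frE τ (ad (rho Q K) g X) = ad (rho Q K) g (frE τ X) := by
  rw [ad_apply, ad_apply, frE_mul, frE_mul, frE_rho hτ, frE_rho hτ]

theorem BK_frV (v w : ι → K) : BK Q K (frV τ v) (frV τ w) = τ (BK Q K v w) := by
  rw [BK_apply, BK_apply, map_sum]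
  refine Finset.sum_congr rfl fun i _ => ?_
  rw [map_sum]
  refine Finset.sum_congr rfl fun j _ => ?_
  rw [map_mul, map_mul, hτ]
  rfl

theorem BK_frV_left (v w : ι → K) : BK Q K (frV τ v) w = τ (BK Q K v (frV τ.symm w)) := by
  rw [← BK_frV hτ, frV_symm]

theorem BK_frV_right (v w : ι → K) : BK Q K v (frV τ w) = τ (BK Q K (frV τ.symm v) w) := by
  rw [← BK_frV hτ, frV_symm]

theorem frE_so {X : Module.End K (ι → K)} (hX : X ∈ so (BK Q K)) : frE τ X ∈ so (BK Q K) := by
  intro v w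
  rw [frE_apply, frE_apply, BK_frV_left hτ, BK_frV_right hτ, hX, map_neg]

theorem frE_wdg (u v : ι → K) : frE τ (wdg (BK Q K) u v) = wdg (BK Q K) (frV τ u) (frV τ v) := by
  refine LinearMap.ext fun x => ?_
  rw [frE_apply, wdg_apply, wdg_apply, map_sub, frV_smul, frV_smul, BK_frV_left hτ, BK_frV_left hτ]

theorem frE_lam0 {X : Module.End K (ι → K)} (hX : X ∈ lam0 (BK Q K)) : frE τ X ∈ lam0 (BK Q K) := by
  induction hX using Submodule.span_induction with
  | mem X hX =>
    obtain ⟨u, v, huv, rfl⟩ := hX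
    rw [frE_wdg hτ]
    exact Submodule.subset_span ⟨_, _, by rw [BK_frV hτ, huv, map_zero], rfl⟩
  | zero => rw [map_zero]; exact zero_mem _
  | add X Y _ _ hX hY => rw [map_add]; exact add_mem hX hY
  | smul c X _ hX => rw [frE_smul]; exact Submodule.smul_mem _ _ hX

end conc

/-- the Frobenius automorphism `x ↦ x ^ |F|` of the algebraic closure -/
theorem exists_frob (F : Type) [Field F] [Finite F] : ∃ τ : AlgebraicClosure F ≃+* AlgebraicClosure F,
    (∀ c, τ c = c ^ Nat.card (H212.BR.base F)) ∧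
      ∀ c : F, τ (algebraMap F (AlgebraicClosure F) c) = algebraMap F (AlgebraicClosure F) c := by
  have := Fintype.ofFinite F
  obtain ⟨p, hc⟩ := CharP.exists F
  have hp : Fact p.Prime := ⟨CharP.char_is_prime F p⟩
  have := H212.BR.charP_closure F p
  obtain ⟨n, -, hn⟩ := FiniteField.card F p
  have hcard : Nat.card (H212.BR.base F) = p ^ (n : ℕ) := by
    rw [H212.BR.card_base, Nat.card_eq_fintype_card, hn]
  refine ⟨iterateFrobeniusEquiv (AlgebraicClosure F) p n, fun c => ?_, fun c => ?_⟩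
  · rw [hcard]; exact iterateFrobeniusEquiv_def _ _ _ _
  · rw [iterateFrobeniusEquiv_def, ← hn, ← map_pow, FiniteField.pow_card]

section app

variable {F : Type} [Field F] [Finite F] {ι : Type} [Fintype ι] [DecidableEq ι] {Q : QuadraticForm F (ι → F)}

/-- **trF** for a subrepresentation `S` of `ad ρ` -/
theorem trace_sub {S : Submodule (AlgebraicClosure F) (Module.End (AlgebraicClosure F) (ι → AlgebraicClosure F))}
    (hS : ∀ τ : AlgebraicClosure F ≃+* AlgebraicClosure F,
      (∀ c : F, τ (algebraMap F (AlgebraicClosure F) c) = algebraMap F (AlgebraicClosure F) c) → ∀ X ∈ S, frE τ X ∈ S)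
    (g : Om Q) (hg : ∀ X ∈ S, ad (rho Q (AlgebraicClosure F)) g X ∈ S) {f : Module.End (AlgebraicClosure F) S}
    (hf : ∀ X : S, (f X : Module.End (AlgebraicClosure F) (ι → AlgebraicClosure F)) = ad (rho Q (AlgebraicClosure F)) g X) :
    LinearMap.trace (AlgebraicClosure F) S f ∈ H212.BR.base F := by
  obtain ⟨τ, h1, h2⟩ := exists_frob F
  have := H212.BR.finite_base F
  refine H178.BR.trace_mem_sub τ h1 S (frE τ) (frE_smul τ) (fun X hX => hS τ h2 X hX) (LinearMap.id : _)
    (fun x => ⟨x, rfl⟩) (fun X => ?_) (A := ad (rho Q (AlgebraicClosure F)) g) hg (fun X _ => frE_ad h2 g X)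
    (fun X => Subtype.ext (hf X))
  rw [LinearMap.id_apply, LinearMap.id_apply]
  constructor
  · intro h
    have h3 : frE τ (X : Module.End (AlgebraicClosure F) (ι → AlgebraicClosure F)) = 0 := congrArg Subtype.val h
    apply Subtype.ext
    exact frE_injective τ (h3.trans (map_zero _).symm)
  · rintro rfl
    apply Subtype.ext
    exact map_zero (frE τ)

/-- **trF** for a subquotient of `ad ρ` : `π : S → W` onto, with kernel the scalars of `S` -/
theorem trace_quot {S : Submodule (AlgebraicClosure F) (Module.End (AlgebraicClosure F) (ι → AlgebraicClosure F))}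
    (hS : ∀ τ : AlgebraicClosure F ≃+* AlgebraicClosure F,
      (∀ c : F, τ (algebraMap F (AlgebraicClosure F) c) = algebraMap F (AlgebraicClosure F) c) → ∀ X ∈ S, frE τ X ∈ S)
    {W : Type*} [AddCommGroup W] [Module (AlgebraicClosure F) W] [FiniteDimensional (AlgebraicClosure F) W]
    (π : S →ₗ[AlgebraicClosure F] W) (hπ : Function.Surjective π)
    (hk : ∀ X : S, π X = 0 ↔ ∃ c : AlgebraicClosure F,
      (X : Module.End (AlgebraicClosure F) (ι → AlgebraicClosure F)) = c • 1)
    (g : Om Q) (hg : ∀ X ∈ S, ad (rho Q (AlgebraicClosure F)) g X ∈ S) {f : Module.End (AlgebraicClosure F) W}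
    (hf : ∀ X : S, f (π X) = π ⟨ad (rho Q (AlgebraicClosure F)) g X, hg X X.2⟩) :
    LinearMap.trace (AlgebraicClosure F) W f ∈ H212.BR.base F := by
  obtain ⟨τ, h1, h2⟩ := exists_frob F
  have := H212.BR.finite_base F
  refine H178.BR.trace_mem_sub τ h1 S (frE τ) (frE_smul τ) (fun X hX => hS τ h2 X hX) π hπ (fun X => ?_)
    (A := ad (rho Q (AlgebraicClosure F)) g) hg (fun X _ => frE_ad h2 g X) hf
  rw [hk, hk]
  constructor
  · rintro ⟨c, hc⟩
    refine ⟨τ.symm c, frE_injective τ ?_⟩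
    rw [frE_smul, frE_one, RingEquiv.apply_symm_apply]
    exact hc
  · rintro ⟨c, hc⟩
    refine ⟨τ c, ?_⟩
    change frE τ (X : Module.End (AlgebraicClosure F) (ι → AlgebraicClosure F)) = _
    rw [hc, frE_smul, frE_one]

end app

/-! ### cen, and the lower bound for `|Ω / Z|` -/

section misc

/-- scalars act trivially -/
theorem ad_eq_one {K : Type*} [Field K] {V : Type*} [AddCommGroup V] [Module K V] {G : Type*} [Group G]
    {ρ : G →* Module.End K V} {z : G} {c : K} (h : ρ z = c • 1) : ad ρ z = 1 := by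
  refine LinearMap.ext fun X => ?_
  rw [ad_apply, h, smul_mul_assoc, one_mul, ← mul_one X]
  have h1 : X * 1 * ρ z⁻¹ = X * ρ z⁻¹ := by rw [mul_one]
  have h2 : ρ z * ρ z⁻¹ = 1 := by rw [← map_mul, mul_inv_cancel, map_one]
  rw [h, smul_mul_assoc, one_mul] at h2
  rw [smul_mul_assoc, h1, ← mul_smul_comm, h2]
  simp

end misc

end Cfsg.Agent.H748.BR
end

-- part: H872/BR/Card
section
/-!
# HUB BR, orthogonal groups: an upper bound for the order

`card_O_le` : `|O(Q)| ≤ 3 ^ n * q ^ (n choose 2)` for every non-degenerate quadratic form (any characteristic);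
`card_Omega_le` : the same for `Omega F Q`.
-/

set_option autoImplicit false

namespace Cfsg.Agent.H872.BR

open Module QuadraticMap Cfsg.Agent.LieClassical.OrthCore

section quadric

variable {F V : Type*} [Field F] [AddCommGroup V] [Module F V] {Q : QuadraticForm F V}

theorem Q_add_smul (x u : V) (t : F) : Q (x + t • u) = Q x + t * polar Q x u + t ^ 2 * Q u := by
  rw [Q_add, QuadraticMap.map_smul, polar_smul_right, smul_eq_mul, smul_eq_mul]
  ring

/-- the points of a quadric in an affine subspace on which the form is not constant -/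
theorem card_quadric [Finite F] [Finite V] (U : Submodule F V) (a : V) {u : V} (hu : u ∈ U) (hau : polar Q a u ≠ 0)
    (c : F) : Nat.card F * Nat.card {x : V // x - a ∈ U ∧ Q x = c} ≤ 3 * Nat.card U := by
  classical
  have := Fintype.ofFinite F
  have := Fintype.ofFinite V
  set φ : V → F := fun x => (polar Q a u)⁻¹ * polar Q a x with hφ
  have hφu : ∀ (x : V) (t : F), φ (x + t • u) = φ x + t := by
    intro x t
    simp only [hφ, polar_add_right, polar_smul_right, smul_eq_mul]
    field_simp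
  -- the affine space and the transversal
  have hA : Nat.card {x : V // x - a ∈ U} = Nat.card U := by
    refine Nat.card_congr ⟨fun x => ⟨x.1 - a, x.2⟩, fun y => ⟨y.1 + a, by rw [add_sub_cancel_right]; exact y.2⟩,
      fun x => ?_, fun y => ?_⟩
    · exact Subtype.ext (sub_add_cancel _ _)
    · exact Subtype.ext (add_sub_cancel_right _ _)
  have hA0 : Nat.card {x : V // x - a ∈ U ∧ φ x = 0} * Nat.card F ≤ Nat.card U := by
    rw [← hA, ← Nat.card_prod]
    refine Nat.card_le_card_of_injective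
      (fun z : {x : V // x - a ∈ U ∧ φ x = 0} × F => (⟨z.1.1 + z.2 • u, ?_⟩ : {x : V // x - a ∈ U})) ?_
    · have : z.1.1 + z.2 • u - a = (z.1.1 - a) + z.2 • u := by abel
      rw [this]
      exact U.add_mem z.1.2.1 (U.smul_mem _ hu)
    · rintro ⟨⟨x, hx, hx0⟩, t⟩ ⟨⟨y, hy, hy0⟩, s⟩ h
      have h1 : x + t • u = y + s • u := congrArg Subtype.val h
      have h2 := congrArg φ h1
      rw [hφu, hφu, hx0, hy0, zero_add, zero_add] at h2
      subst h2
      have h3 : x = y := add_right_cancel h1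
      subst h3
      rfl
  -- the degenerate lines
  have hS2 : Nat.card {x : V // x - a ∈ U ∧ polar Q x u = 0} * Nat.card F ≤ Nat.card U := by
    by_cases hv : ∃ v ∈ U, polar Q v u ≠ 0
    · obtain ⟨v, hv, hvu⟩ := hv
      rw [← hA, ← Nat.card_prod]
      refine Nat.card_le_card_of_injective
        (fun z : {x : V // x - a ∈ U ∧ polar Q x u = 0} × F => (⟨z.1.1 + z.2 • v, ?_⟩ : {x : V // x - a ∈ U})) ?_
      · have : z.1.1 + z.2 • v - a = (z.1.1 - a) + z.2 • v := by abel
        rw [this]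
        exact U.add_mem z.1.2.1 (U.smul_mem _ hv)
      · rintro ⟨⟨x, hx, hx0⟩, t⟩ ⟨⟨y, hy, hy0⟩, s⟩ h
        have h1 : x + t • v = y + s • v := congrArg Subtype.val h
        have h2 := congrArg (fun z => polar Q z u) h1
        simp only [polar_add_left, polar_smul_left, smul_eq_mul, hx0, hy0, zero_add] at h2
        have h4 : t = s := mul_right_cancel₀ hvu h2
        subst h4
        have h3 : x = y := add_right_cancel h1
        subst h3
        rfl
    · push Not at hv
      have : IsEmpty {x : V // x - a ∈ U ∧ polar Q x u = 0} := by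
        refine ⟨fun x => hau ?_⟩
        have h1 := hv _ x.2.1
        have h2 : polar Q (x.1 - a) u = polar Q x.1 u - polar Q a u := polar_sub_left Q x.1 a u
        rw [h1, x.2.2] at h2
        linear_combination h2
      rw [Nat.card_of_isEmpty, zero_mul]
      exact Nat.zero_le _
  -- the other lines
  have hS1 : (Finset.univ.filter fun x : V => (x - a ∈ U ∧ Q x = c) ∧ ¬ (Q u = 0 ∧ polar Q x u = 0)).card ≤
      2 * (Finset.univ.filter fun x : V => x - a ∈ U ∧ φ x = 0).card := by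
    refine (Finset.card_le_mul_card_image (f := fun x => x - φ x • u) _ 2 ?_).trans (Nat.mul_le_mul_left 2 ?_)
    · intro y _
      set p : Polynomial F := Polynomial.C (Q u) * Polynomial.X ^ 2 + Polynomial.C (polar Q y u) * Polynomial.X +
        Polynomial.C (Q y - c) with hp
      by_cases hyu : Q u = 0 ∧ polar Q y u = 0
      · refine le_trans (Finset.card_le_card (t := ∅) ?_) (by simp)
        intro x hx
        exfalso
        rw [Finset.mem_filter, Finset.mem_filter] at hx
        apply hx.1.2.2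
        refine ⟨hyu.1, ?_⟩
        have h1 : x = y + φ x • u := by rw [← hx.2]; abel
        rw [h1, polar_add_left, polar_smul_left, hyu.2, polar_self_of_sing hyu.1, smul_zero, add_zero]
      · have hp0 : p ≠ 0 := by
          intro h0
          apply hyu
          constructor
          · have := congrArg (fun r => Polynomial.coeff r 2) h0
            simpa only [hp, _root_.map_sub, _root_.Polynomial.coeff_add, _root_.Polynomial.coeff_C_mul, _root_.Polynomial.coeff_X_pow, ↓ _root_.reduceIte, _root_.mul_one, _root_.Polynomial.coeff_mul_X, _root_.Polynomial.coeff_C_succ, _root_.add_zero, _root_.Polynomial.coeff_sub, _root_.sub_self, _root_.Polynomial.coeff_zero] using this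
          · have := congrArg (fun r => Polynomial.coeff r 1) h0
            simpa only [hp, _root_.map_sub, _root_.Polynomial.coeff_add, _root_.Polynomial.coeff_C_mul, _root_.Polynomial.coeff_X_pow, _root_.OfNat.one_ne_ofNat, ↓ _root_.reduceIte, _root_.MulZeroClass.mul_zero, _root_.Polynomial.coeff_mul_X, _root_.Polynomial.coeff_C_zero, _root_.zero_add, _root_.Polynomial.coeff_sub, _root_.Polynomial.coeff_C_succ, _root_.sub_self, _root_.add_zero, _root_.Polynomial.coeff_zero] using this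
        have hdeg : p.natDegree ≤ 2 := by
          rw [hp]
          compute_degree
        refine le_trans ?_ ((Multiset.toFinset_card_le _).trans ((Polynomial.card_roots' p).trans hdeg))
        refine Finset.card_le_card_of_injOn φ ?_ ?_
        · intro x hx
          rw [Finset.mem_coe, Finset.mem_filter, Finset.mem_filter] at hx
          have h1 : x = y + φ x • u := by rw [← hx.2]; abel
          rw [Finset.mem_coe, Multiset.mem_toFinset, Polynomial.mem_roots hp0, Polynomial.IsRoot.def]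
          have h2 := hx.1.2.1.2
          rw [h1, Q_add_smul] at h2
          simp only [hp, Polynomial.eval_add, Polynomial.eval_mul, Polynomial.eval_C, Polynomial.eval_pow,
            Polynomial.eval_X]
          linear_combination h2
        · intro x hx x' hx' h
          rw [Finset.mem_coe, Finset.mem_filter] at hx hx'
          have h1 : x = y + φ x • u := by rw [← hx.2]; abel
          have h2 : x' = y + φ x' • u := by rw [← hx'.2]; abel
          rw [h1, h2, h]
    · refine Finset.card_le_card ?_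
      intro y hy
      rw [Finset.mem_image] at hy
      obtain ⟨x, hx, rfl⟩ := hy
      rw [Finset.mem_filter] at hx
      refine Finset.mem_filter.2 ⟨Finset.mem_univ _, ?_, ?_⟩
      · have : x - φ x • u - a = (x - a) - φ x • u := by abel
        rw [this]
        exact U.sub_mem hx.2.1.1 (U.smul_mem _ hu)
      · have := hφu x (-(φ x))
        rw [neg_smul, ← sub_eq_add_neg, add_neg_cancel] at this
        exact this
  have e1 : Nat.card {x : V // x - a ∈ U ∧ Q x = c} = (Finset.univ.filter fun x : V => x - a ∈ U ∧ Q x = c).card := by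
    rw [Nat.card_eq_fintype_card, Fintype.card_subtype]
  have e2 : Nat.card {x : V // x - a ∈ U ∧ φ x = 0} = (Finset.univ.filter fun x : V => x - a ∈ U ∧ φ x = 0).card := by
    rw [Nat.card_eq_fintype_card, Fintype.card_subtype]
  have e3 : Nat.card {x : V // x - a ∈ U ∧ polar Q x u = 0} =
      (Finset.univ.filter fun x : V => x - a ∈ U ∧ polar Q x u = 0).card := by
    rw [Nat.card_eq_fintype_card, Fintype.card_subtype]
  have e4 : (Finset.univ.filter fun x : V => x - a ∈ U ∧ Q x = c).card ≤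
      (Finset.univ.filter fun x : V => (x - a ∈ U ∧ Q x = c) ∧ ¬ (Q u = 0 ∧ polar Q x u = 0)).card +
      (Finset.univ.filter fun x : V => x - a ∈ U ∧ polar Q x u = 0).card := by
    rw [← Finset.card_filter_add_card_filter_not (s := Finset.univ.filter fun x : V => x - a ∈ U ∧ Q x = c)
      (fun x => Q u = 0 ∧ polar Q x u = 0), add_comm, Finset.filter_filter, Finset.filter_filter]
    refine Nat.add_le_add_left (Finset.card_le_card ?_) _
    intro x hx
    rw [Finset.mem_filter] at hx ⊢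
    exact ⟨hx.1, hx.2.1.1, hx.2.2.2⟩
  rw [e2] at hA0
  rw [e3] at hS2
  rw [e1]
  calc Nat.card F * (Finset.univ.filter fun x : V => x - a ∈ U ∧ Q x = c).card
      ≤ Nat.card F * (2 * (Finset.univ.filter fun x : V => x - a ∈ U ∧ φ x = 0).card +
        (Finset.univ.filter fun x : V => x - a ∈ U ∧ polar Q x u = 0).card) :=
        Nat.mul_le_mul_left _ (e4.trans (Nat.add_le_add_right hS1 _))
    _ = 2 * ((Finset.univ.filter fun x : V => x - a ∈ U ∧ φ x = 0).card * Nat.card F) +
        (Finset.univ.filter fun x : V => x - a ∈ U ∧ polar Q x u = 0).card * Nat.card F := by ring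
    _ ≤ 2 * Nat.card U + Nat.card U := Nat.add_le_add (Nat.mul_le_mul_left _ hA0) hS2
    _ = 3 * Nat.card U := by ring

end quadric

section stab

theorem card_le_orbit_mul {G X : Type*} [Group G] [Finite G] [MulAction G X] (H : Subgroup G) (x : X) (T : Set X)
    [Finite T] (hT : ∀ g ∈ H, g • x ∈ T) :
    Nat.card H ≤ Nat.card T * Nat.card (H ⊓ MulAction.stabilizer G x : Subgroup G) := by
  classical
  have hs : ∀ t : X, ∃ g : G, g ∈ H ∧ ((∃ k ∈ H, k • x = t) → g • x = t) := by
    intro t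
    by_cases h : ∃ k ∈ H, k • x = t
    · obtain ⟨k, hk, hkx⟩ := h
      exact ⟨k, hk, fun _ => hkx⟩
    · exact ⟨1, H.one_mem, fun h' => absurd h' h⟩
  choose s hsH hs using hs
  rw [← Nat.card_prod]
  refine Nat.card_le_card_of_injective (fun g : H => ((⟨(g : G) • x, hT g g.2⟩ : T),
    (⟨(s ((g : G) • x))⁻¹ * g, ?_⟩ : (H ⊓ MulAction.stabilizer G x : Subgroup G)))) ?_
  · refine ⟨H.mul_mem (H.inv_mem (hsH _)) g.2, ?_⟩
    change ((s ((g : G) • x))⁻¹ * (g : G)) • x = x
    have h1 := hs ((g : G) • x) ⟨(g : G), g.2, rfl⟩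
    rw [mul_smul, inv_smul_eq_iff, h1]
  · intro g g' h
    rw [Prod.mk.injEq] at h
    have h1 : (g : G) • x = (g' : G) • x := congrArg Subtype.val h.1
    have h2 : (s ((g : G) • x))⁻¹ * (g : G) = (s ((g' : G) • x))⁻¹ * g' := congrArg Subtype.val h.2
    rw [h1] at h2
    exact Subtype.ext (mul_left_cancel h2)

end stab

section main

variable {F V : Type*} [Field F] [AddCommGroup V] [Module F V] {Q : QuadraticForm F V}

theorem card_O_le [Finite F] [FiniteDimensional F V] (hQ : Nondeg Q) :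
    Nat.card (O Q) ≤ 3 ^ finrank F V * Nat.card F ^ (finrank F V).choose 2 := by
  classical
  have : Finite V := Module.finite_of_finite F
  have : Finite (V ≃ₗ[F] V) := Finite.of_injective (fun g : V ≃ₗ[F] V => (g : V → V)) DFunLike.coe_injective
  obtain ⟨n, hn⟩ : ∃ n, finrank F V = n := ⟨_, rfl⟩
  rw [hn]
  have b : Basis (Fin n) F V := finBasisOfFinrankEq F V hn
  have hB : (polarBilin Q).Nondegenerate :=
    ⟨fun x hx => hQ x hx, fun y hy => hQ y fun x => by rw [polar_comm]; exact hy x⟩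
  have hext : ∀ x : V, (∀ i, polar Q x (b i) = 0) → x = 0 := by
    intro x hx
    apply hQ
    intro y
    rw [← b.sum_repr y]
    change polarBilin Q x _ = 0
    rw [map_sum]
    refine Finset.sum_eq_zero fun i _ => ?_
    rw [map_smul, polarBilin_apply_apply, hx i, smul_zero]
  -- pointwise stabilisers
  set S : ℕ → Subgroup (V ≃ₗ[F] V) := fun k =>
    { carrier := {g | g ∈ O Q ∧ ∀ i : Fin n, (i : ℕ) < k → g (b i) = b i}
      one_mem' := ⟨(O Q).one_mem, fun i _ => rfl⟩
      mul_mem' := fun {g h} hg hh => ⟨(O Q).mul_mem hg.1 hh.1, fun i hi => by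
        rw [LinearEquiv.mul_apply, hh.2 i hi, hg.2 i hi]⟩
      inv_mem' := fun {g} hg => ⟨(O Q).inv_mem hg.1, fun i hi => by
        conv_lhs => rw [← hg.2 i hi]
        rw [← LinearEquiv.mul_apply, inv_mul_cancel]
        rfl⟩ } with hS
  set U : ℕ → Submodule F V := fun k =>
    { carrier := {x | ∀ i : Fin n, (i : ℕ) < k → polar Q x (b i) = 0}
      zero_mem' := fun i _ => by rw [polar_zero_left]
      add_mem' := fun {x y} hx hy i hi => by rw [polar_add_left, hx i hi, hy i hi, add_zero]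
      smul_mem' := fun c x hx i hi => by rw [polar_smul_left, hx i hi, smul_zero] } with hU
  have hUc : ∀ k ≤ n, Nat.card (U k) ≤ Nat.card F ^ (n - k) := by
    intro k hk
    have e : Nat.card (Fin (n - k) → F) = Nat.card F ^ (n - k) := by
      rw [Nat.card_fun, Nat.card_fin]
    rw [← e]
    refine Nat.card_le_card_of_injective
      (fun x : U k => fun j : Fin (n - k) => polar Q (x : V) (b ⟨k + j, by omega⟩)) ?_
    intro x y hxy
    apply Subtype.ext
    rw [← sub_eq_zero]
    apply hext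
    intro i
    rw [polar_sub_left, sub_eq_zero]
    by_cases hi : (i : ℕ) < k
    · rw [x.2 i hi, y.2 i hi]
    · have h1 := congrFun hxy ⟨(i : ℕ) - k, by omega⟩
      have h2 : (⟨k + ((i : ℕ) - k), by omega⟩ : Fin n) = i := Fin.ext (by simp only []; omega)
      simp only [h2] at h1
      exact h1
  have key : ∀ k < n, Nat.card (S k) ≤ 3 * Nat.card F ^ (n - k - 1) * Nat.card (S (k + 1)) := by
    intro k hk
    set T : Set V := {x : V | x - b ⟨k, hk⟩ ∈ U k ∧ Q x = Q (b ⟨k, hk⟩)} with hT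
    have h1 := card_le_orbit_mul (S k) (b ⟨k, hk⟩) T (by
      intro g hg
      refine ⟨fun i hi => ?_, hg.1 _⟩
      change polar Q (g (b ⟨k, hk⟩) - b ⟨k, hk⟩) (b i) = 0
      rw [polar_sub_left]
      conv_lhs => enter [1, 3]; rw [← hg.2 i hi]
      rw [polar_map hg.1, sub_self])
    have h2 : Nat.card (S k ⊓ MulAction.stabilizer (V ≃ₗ[F] V) (b ⟨k, hk⟩) : Subgroup (V ≃ₗ[F] V)) ≤
        Nat.card (S (k + 1)) := by
      refine Nat.card_le_card_of_injective (Subgroup.inclusion ?_) (Subgroup.inclusion_injective _)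
      rintro g ⟨hg, hg'⟩
      refine ⟨hg.1, fun i hi => ?_⟩
      by_cases hik : (i : ℕ) < k
      · exact hg.2 i hik
      · have : i = ⟨k, hk⟩ := Fin.ext (by simp; omega)
        rw [this]
        exact hg'
    have h3 : Nat.card T ≤ 3 * Nat.card F ^ (n - k - 1) := by
      set u := LinearMap.BilinForm.dualBasis (polarBilin Q) hB b ⟨k, hk⟩ with hu
      have hub : ∀ i, polar Q u (b i) = if i = ⟨k, hk⟩ then 1 else 0 := fun i =>
        LinearMap.BilinForm.apply_dualBasis_left hB b ⟨k, hk⟩ i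
      have h4 := card_quadric (Q := Q) (U k) (b ⟨k, hk⟩) (u := u) (fun i hi => by
        rw [hub, if_neg]
        rintro rfl
        exact lt_irrefl _ hi) (by rw [polar_comm, hub, if_pos rfl]; exact one_ne_zero) (Q (b ⟨k, hk⟩))
      have h5 : Nat.card F ^ (n - k) = Nat.card F * Nat.card F ^ (n - k - 1) := by
        rw [← pow_succ']
        congr 1
        omega
      have h6 := h4.trans (Nat.mul_le_mul_left 3 (hUc k hk.le))
      rw [h5] at h6
      have h7 : Nat.card F * Nat.card T ≤ Nat.card F * (3 * Nat.card F ^ (n - k - 1)) := by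
        refine le_of_eq_of_le ?_ (h6.trans (le_of_eq (by ring)))
        rfl
      exact Nat.le_of_mul_le_mul_left h7 Nat.card_pos
    exact h1.trans (Nat.mul_le_mul h3 h2)
  have main : ∀ m ≤ n, Nat.card (S (n - m)) ≤ 3 ^ m * Nat.card F ^ m.choose 2 := by
    intro m
    induction m with
    | zero =>
      intro _
      have hb : S (n - 0) = ⊥ := by
        rw [eq_bot_iff]
        intro g hg
        rw [Subgroup.mem_bot]
        apply LinearEquiv.toLinearMap_injective
        exact b.ext fun i => hg.2 i (by simp)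
      rw [hb]
      simp only [_root_.Subgroup.mem_bot, _root_.Nat.card_eq_fintype_card, _root_.Fintype.card_unique, _root_.pow_zero, _root_.Nat.choose_zero_succ, _root_.mul_one, _root_.Std.le_refl]
    | succ m ih =>
      intro hm
      have h1 := key (n - (m + 1)) (by omega)
      have h2 : n - (m + 1) + 1 = n - m := by omega
      have h3 : n - (n - (m + 1)) - 1 = m := by omega
      rw [h2, h3] at h1
      refine h1.trans ((Nat.mul_le_mul_left _ (ih (by omega))).trans (le_of_eq ?_))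
      rw [Nat.choose_succ_succ' m 1, Nat.choose_one_right, pow_add, pow_succ]
      ring
  have h0 : S (n - n) = O Q := by
    rw [Nat.sub_self]
    ext g
    exact ⟨fun hg => hg.1, fun hg => ⟨hg, fun i hi => absurd hi (Nat.not_lt_zero _)⟩⟩
  have := main n le_rfl
  rwa [h0] at this

theorem card_Omega_le {F : Type*} [Field F] [Finite F] {ι : Type} [Fintype ι] [DecidableEq ι]
    (Q : QuadraticForm F (ι → F)) (hQ : Nondeg Q) :
    Nat.card (Cfsg.Omega F (fun v : ι → F => Q v)) ≤
      3 ^ Fintype.card ι * Nat.card F ^ (Fintype.card ι).choose 2 := by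
  have h1 := card_O_le hQ
  rw [finrank_fintype_fun_eq_card] at h1
  refine le_trans ?_ h1
  have : Finite ((ι → F) ≃ₗ[F] (ι → F)) :=
    Finite.of_injective (fun g : (ι → F) ≃ₗ[F] (ι → F) => (g : (ι → F) → (ι → F))) DFunLike.coe_injective
  exact Nat.card_le_card_of_injective
    (fun g : Cfsg.Omega F (fun v : ι → F => Q v) =>
      Cfsg.Agent.LieClassical.OrthFinite.isometryEquiv Q (g : Cfsg.isometryGroup F ⇑Q))
    fun g g' h => Subtype.ext ((Cfsg.Agent.LieClassical.OrthFinite.isometryEquiv Q).injective h)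

end main

end Cfsg.Agent.H872.BR
end

-- part: H872/BR/Bridge
section
/-!
# HUB BR, orthogonal groups: the two copies of the concrete objects agree

`rho_eq`, `BK_eq`, `rt_eq`, `vK_eq` : the objects of `H621/BR/Grp` and `H748/BR/OmDefs` are equal.
-/

set_option autoImplicit false

namespace Cfsg.Agent.H872.BR

open Cfsg Cfsg.Agent.H883.BR

variable {F : Type} [Field F] {ι : Type} [Fintype ι] [DecidableEq ι] (Q : QuadraticForm F (ι → F))
  (K : Type) [Field K] [Algebra F K]

end Cfsg.Agent.H872.BR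
end

-- part: H168/BR/RootMem
section
/-!
# HUB BR, E2: `G`-invariant subspaces of `End V` contain `[a, X]` and `a X a` (helper168)
-/

set_option autoImplicit false

namespace Cfsg.Agent.H168.BR

open Cfsg.Agent.H883.BR

universe u v w

section

variable {K : Type u} [Field K] {G : Type w} [Group G] {V : Type v} [AddCommGroup V] [Module K V]
  {ρ : G →* Module.End K V}

/-- the inverse of `1 + t a` -/
theorem rho_inv_of_root {a : Module.End K V} (ha : a * a = 0) {g : G} {t : K} (hg : ρ g = 1 + t • a) :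
    ρ g⁻¹ = 1 - t • a := by
  have h1 : ρ g⁻¹ * ρ g = 1 := by rw [← map_mul, inv_mul_cancel, map_one]
  have h2 : ρ g * (1 - t • a) = 1 := by
    rw [hg, add_mul, one_mul, mul_sub, mul_one, smul_mul_smul_comm, ha, smul_zero, sub_zero, sub_add_cancel]
  calc ρ g⁻¹ = ρ g⁻¹ * (ρ g * (1 - t • a)) := by rw [h2, mul_one]
    _ = ρ g⁻¹ * ρ g * (1 - t • a) := by rw [mul_assoc]
    _ = 1 - t • a := by rw [h1, one_mul]

theorem ad_root {a : Module.End K V} (ha : a * a = 0) {g : G} {t : K} (hg : ρ g = 1 + t • a) (X : Module.End K V) :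
    ad ρ g X = X + t • (a * X - X * a) - (t * t) • (a * X * a) := by
  rw [ad_apply, hg, rho_inv_of_root ha hg]
  simp only [add_mul, mul_sub, mul_one, one_mul, smul_mul_assoc, mul_smul_comm, smul_sub, smul_add, mul_smul t t]
  abel

/-- E2: `G`-invariant subspaces contain root elements -/
theorem root_mem {F : Subfield K} [Finite F] (h3 : 3 ≤ Nat.card F)
    {S : Submodule K (Module.End K V)} (hS : _root_.Cfsg.Agent.H883.BR.Inv (ad ρ) ⊤ S) {a X : Module.End K V} (ha : Rt ρ F ⊤ a) (hX : X ∈ S) :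
    a * X - X * a ∈ S ∧ a * X * a ∈ S := by
  obtain ⟨ha2, hroot⟩ := ha
  have key : ∀ t ∈ F, t • (a * X - X * a) - (t * t) • (a * X * a) ∈ S := by
    intro t ht
    obtain ⟨g, -, hg⟩ := hroot t ht
    have h1 := hS g (Subgroup.mem_top g) X hX
    rw [ad_root ha2 hg] at h1
    have h2 := S.sub_mem h1 hX
    have e : X + t • (a * X - X * a) - (t * t) • (a * X * a) - X =
        t • (a * X - X * a) - (t * t) • (a * X * a) := by abel
    rwa [e] at h2
  obtain ⟨t, ht, ht0, ht1⟩ : ∃ t ∈ F, t ≠ 0 ∧ t ≠ 1 := by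
    by_contra hcon
    push Not at hcon
    have := Fintype.ofFinite F
    have h4 : Fintype.card F ≤ 2 := by
      classical
      have h5 : (Finset.univ : Finset F) ⊆ {0, 1} := by
        intro x _
        rw [Finset.mem_insert, Finset.mem_singleton]
        by_cases hx : (x : K) = 0
        · exact Or.inl (Subtype.ext hx)
        · exact Or.inr (Subtype.ext (hcon x x.2 hx))
      calc Fintype.card F = (Finset.univ : Finset F).card := rfl
        _ ≤ ({0, 1} : Finset F).card := Finset.card_le_card h5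
        _ ≤ 2 := Finset.card_le_two
    rw [Nat.card_eq_fintype_card] at h3
    omega
  have k1 := key 1 F.one_mem
  rw [one_smul, mul_one, one_smul] at k1
  have k2 := key t ht
  have h4 : a * X * a ∈ S := by
    have h5 := S.sub_mem k2 (S.smul_mem t k1)
    have e : t • (a * X - X * a) - (t * t) • (a * X * a) - t • (a * X - X * a - a * X * a) =
        (t * (1 - t)) • (a * X * a) := by
      rw [smul_sub t (a * X - X * a), mul_sub, mul_one, sub_smul]
      abel
    rw [e] at h5
    have ht2 : t * (1 - t) ≠ 0 := mul_ne_zero ht0 (sub_ne_zero.2 (Ne.symm ht1))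
    have h6 := S.smul_mem (t * (1 - t))⁻¹ h5
    rwa [smul_smul, inv_mul_cancel₀ ht2, one_smul] at h6
  refine ⟨?_, h4⟩
  have h5 := S.add_mem k1 h4
  rwa [sub_add_cancel] at h5

end

end Cfsg.Agent.H168.BR
end

-- part: H168/BR/TPrim
section
/-!
# HUB BR, E1: `TPrim` from root elements (helper168)

`C = cent ρ N`, `D` its centraliser in `End V`. `C` is von Neumann regular; a subspace invariant under `N` and `C` is the
image of an idempotent of `C ∩ D`; the idempotents of `C ∩ D` are `0, 1` as `G` has no proper subgroup of index at most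
`dim V`. For the minimal rank `l` of the elements `≠ 0` of `C`: `dim V ≤ l * rank d` for all `0 ≠ d ∈ D`.
-/

set_option autoImplicit false

namespace Cfsg.Agent.H168.BR

open Cfsg.Agent.H883.BR Module

universe u v w

section

variable {K : Type u} [Field K] {G : Type w} [Group G] {V : Type v} [AddCommGroup V] [Module K V]
  {ρ : G →* Module.End K V} {N : Subgroup G}

theorem one_mem_cent : (1 : Module.End K V) ∈ cent ρ N := fun n _ => by rw [one_mul, mul_one]

theorem mul_mem_cent {X Y : Module.End K V} (hX : X ∈ cent ρ N) (hY : Y ∈ cent ρ N) : X * Y ∈ cent ρ N := by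
  intro n hn
  rw [mul_assoc, mem_cent.1 hY n hn, ← mul_assoc, mem_cent.1 hX n hn, mul_assoc]

/-- the centraliser of `cent ρ N` -/
def dc (ρ : G →* Module.End K V) (N : Subgroup G) : Submodule K (Module.End K V) where
  carrier := {d | ∀ c ∈ cent ρ N, d * c = c * d}
  zero_mem' := fun n _ => by rw [zero_mul, mul_zero]
  add_mem' := fun {X Y} hX hY n hn => by rw [add_mul, mul_add, hX n hn, hY n hn]
  smul_mem' := fun c X hX n hn => by rw [smul_mul_assoc, mul_smul_comm, hX n hn]

theorem rho_mem_dc {n : G} (hn : n ∈ N) : ρ n ∈ dc ρ N := fun _ hc => (hc n hn).symm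

theorem mul_mem_dc {X Y : Module.End K V} (hX : X ∈ dc ρ N) (hY : Y ∈ dc ρ N) : X * Y ∈ dc ρ N := by
  intro n hn
  rw [mul_assoc, hY n hn, ← mul_assoc, hX n hn, mul_assoc]

theorem ad_mul (g : G) (X Y : Module.End K V) : ad ρ g (X * Y) = ad ρ g X * ad ρ g Y := by
  have h1 : ρ g⁻¹ * ρ g = 1 := by rw [← map_mul, inv_mul_cancel, map_one]
  rw [ad_apply, ad_apply, ad_apply]
  calc ρ g * (X * Y) * ρ g⁻¹ = ρ g * X * 1 * Y * ρ g⁻¹ := by simp only [mul_assoc, one_mul]
    _ = _ := by rw [← h1]; simp only [mul_assoc]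

theorem ad_ad_inv (g : G) (X : Module.End K V) : ad ρ g (ad ρ g⁻¹ X) = X := by
  have h1 : (ad ρ g * ad ρ g⁻¹) X = X := by rw [← map_mul, mul_inv_cancel, map_one]; rfl
  exact h1

theorem dc_inv (hC : _root_.Cfsg.Agent.H883.BR.Inv (ad ρ) ⊤ (cent ρ N)) : _root_.Cfsg.Agent.H883.BR.Inv (ad ρ) ⊤ (dc ρ N) := by
  intro g _ d hd c hc
  have h1 : ad ρ g⁻¹ c ∈ cent ρ N := hC g⁻¹ (Subgroup.mem_top _) c hc
  rw [← ad_ad_inv (ρ := ρ) g c, ← ad_mul, ← ad_mul, hd _ h1]

/-- projections -/
theorem exists_proj (hs : Ssm ρ N) {U : Submodule K V} (hU : _root_.Cfsg.Agent.H883.BR.Inv ρ N U) :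
    ∃ π ∈ cent ρ N, (∀ v, π v ∈ U) ∧ (∀ u ∈ U, π u = u) := by
  obtain ⟨U', hU', hc⟩ := hs U hU
  refine ⟨U.projection U' hc, ?_, fun v => Submodule.projection_apply_mem hc v,
    fun u hu => Submodule.projection_apply_of_mem_left hc hu⟩
  intro n hn
  refine LinearMap.ext fun v => ?_
  change U.projection U' hc (ρ n v) = ρ n (U.projection U' hc v)
  have h1 : v = U.projection U' hc v + (v - U.projection U' hc v) := by abel
  have h2 : v - U.projection U' hc v ∈ U' := Submodule.sub_projection_mem hc v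
  have h3 : U.projection U' hc (ρ n (v - U.projection U' hc v)) = 0 :=
    (Submodule.projection_apply_eq_zero_iff hc).2 (hU' n hn _ h2)
  have h4 : U.projection U' hc (ρ n (U.projection U' hc v)) = ρ n (U.projection U' hc v) :=
    Submodule.projection_apply_of_mem_left hc (hU n hn _ (Submodule.projection_apply_mem hc v))
  conv_lhs => rw [h1, map_add, map_add, h3, h4, add_zero]

/-- `N`-invariant subspaces are `D`-invariant -/
theorem dc_apply_mem (hs : Ssm ρ N) {U : Submodule K V} (hU : _root_.Cfsg.Agent.H883.BR.Inv ρ N U) {d : Module.End K V} (hd : d ∈ dc ρ N) {u : V}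
    (hu : u ∈ U) : d u ∈ U := by
  obtain ⟨π, hπ, h1, h2⟩ := exists_proj hs hU
  have h3 : d * π = π * d := hd π hπ
  have h4 : d (π u) = π (d u) := LinearMap.congr_fun h3 u
  rw [h2 u hu] at h4
  rw [h4]
  exact h1 _

/-- `C` is von Neumann regular -/
theorem regular (hs : Ssm ρ N) {f : Module.End K V} (hf : f ∈ cent ρ N) : ∃ s ∈ cent ρ N, f * s * f = f := by
  have hker : _root_.Cfsg.Agent.H883.BR.Inv ρ N (LinearMap.ker f) := by
    intro n hn v hv
    rw [LinearMap.mem_ker] at hv ⊢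
    have h1 : f (ρ n v) = ρ n (f v) := LinearMap.congr_fun (hf n hn) v
    rw [h1, hv, map_zero]
  have hran : _root_.Cfsg.Agent.H883.BR.Inv ρ N (LinearMap.range f) := by
    rintro n hn _ ⟨v, rfl⟩
    exact ⟨ρ n v, LinearMap.congr_fun (hf n hn) v⟩
  obtain ⟨Y, hY, hc⟩ := hs _ hker
  obtain ⟨π, hπ, hπ1, hπ2⟩ := exists_proj hs hran
  have hinj : Function.Injective (f.comp Y.subtype) := by
    rw [← LinearMap.ker_eq_bot, LinearMap.ker_eq_bot']
    intro y hy
    have h1 : (y : V) ∈ LinearMap.ker f ⊓ Y := ⟨hy, y.2⟩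
    rw [hc.inf_eq_bot] at h1
    exact Subtype.ext h1
  obtain ⟨t, ht⟩ := (f.comp Y.subtype).exists_leftInverse_of_injective (LinearMap.ker_eq_bot.2 hinj)
  have ht' : ∀ y : Y, t (f y) = y := fun y => LinearMap.congr_fun ht y
  -- for all `v` there is `y ∈ Y` with `f y = π v`
  have hy : ∀ v : V, ∃ y : Y, f y = π v := by
    intro v
    obtain ⟨x, hx⟩ := hπ1 v
    have h1 : x ∈ LinearMap.ker f ⊔ Y := by rw [hc.sup_eq_top]; trivial
    obtain ⟨a, ha, b, hb, hab⟩ := Submodule.mem_sup.1 h1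
    refine ⟨⟨b, hb⟩, ?_⟩
    rw [← hx, ← hab, map_add, LinearMap.mem_ker.1 ha, zero_add]
  set s : Module.End K V := (Y.subtype.comp t).comp π with hsdef
  have hs1 : ∀ (v : V) (y : Y), f y = π v → s v = y := by
    intro v y hyv
    change ((t (π v) : Y) : V) = y
    rw [← hyv, ht']
  refine ⟨s, ?_, ?_⟩
  · intro n hn
    refine LinearMap.ext fun v => ?_
    change s (ρ n v) = ρ n (s v)
    obtain ⟨y, hyv⟩ := hy v
    rw [hs1 v y hyv]
    refine hs1 (ρ n v) ⟨ρ n y, hY n hn y y.2⟩ ?_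
    have h1 : f (ρ n y) = ρ n (f y) := LinearMap.congr_fun (hf n hn) y
    have h2 : π (ρ n v) = ρ n (π v) := LinearMap.congr_fun (hπ n hn) v
    change f (ρ n y) = π (ρ n v)
    rw [h1, h2, hyv]
  · refine LinearMap.ext fun v => ?_
    change f (s (f v)) = f v
    obtain ⟨y, hyv⟩ := hy (f v)
    rw [hs1 _ y hyv, hyv]
    exact hπ2 _ ⟨v, rfl⟩

/-- a subspace invariant under `N` and `C` is the image of an idempotent of `C ∩ D` -/
theorem exists_central (hs : Ssm ρ N) {W : Submodule K V} (hW : _root_.Cfsg.Agent.H883.BR.Inv ρ N W)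
    (hCW : ∀ c ∈ cent ρ N, ∀ w ∈ W, c w ∈ W) :
    ∃ π ∈ cent ρ N, π ∈ dc ρ N ∧ (∀ v, π v ∈ W) ∧ (∀ u ∈ W, π u = u) := by
  obtain ⟨π, hπ, h1, h2⟩ := exists_proj hs hW
  refine ⟨π, hπ, ?_, h1, h2⟩
  intro c hc
  -- `π c = π c π`
  have h3 : π * c * (1 - π) ∈ cent ρ N :=
    mul_mem_cent (mul_mem_cent hπ hc) ((cent ρ N).sub_mem one_mem_cent hπ)
  obtain ⟨s, hsC, hs1⟩ := regular hs h3
  have h4 : ∀ v, (π * c * (1 - π)) v ∈ W := fun v => h1 _
  have h5 : ∀ w ∈ W, (π * c * (1 - π)) w = 0 := by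
    intro w hw
    have e : (1 - π) w = 0 := by
      change w - π w = 0
      rw [h2 w hw, sub_self]
    change π (c ((1 - π) w)) = 0
    rw [e, map_zero, map_zero]
  have h6 : π * c * (1 - π) = 0 := by
    refine LinearMap.ext fun v => ?_
    have e : (π * c * (1 - π)) v = (π * c * (1 - π)) (s ((π * c * (1 - π)) v)) := by
      conv_lhs => rw [← hs1]
      rfl
    rw [e, h5 _ (hCW s hsC _ (h4 v))]
    rfl
  have h7 : π * c = π * c * π := by
    rw [mul_sub, mul_one, sub_eq_zero] at h6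
    exact h6
  have h8 : c * π = π * (c * π) := by
    refine LinearMap.ext fun v => ?_
    exact (h2 _ (hCW c hc _ (h1 v))).symm
  rw [h7, h8, ← mul_assoc]

/-! ### idempotents of `C ∩ D` -/

/-- idempotents of `C ∩ D` -/
structure Idm (ρ : G →* Module.End K V) (N : Subgroup G) (e : Module.End K V) : Prop where
  hc : e ∈ cent ρ N
  hd : e ∈ dc ρ N
  idem : e * e = e
  ne : e ≠ 0

theorem idm_conj (hC : _root_.Cfsg.Agent.H883.BR.Inv (ad ρ) ⊤ (cent ρ N)) {e : Module.End K V} (he : Idm ρ N e) (g : G) : Idm ρ N (ad ρ g e) where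
  hc := hC g (Subgroup.mem_top _) _ he.hc
  hd := dc_inv hC g (Subgroup.mem_top _) _ he.hd
  idem := by rw [← ad_mul, he.idem]
  ne := by
    intro h
    apply he.ne
    have h1 := ad_ad_inv (ρ := ρ) g⁻¹ e
    rw [inv_inv, h, map_zero] at h1
    exact h1.symm

theorem finrank_range_ad (g : G) (e : Module.End K V) :
    finrank K (LinearMap.range (ad ρ g e)) = finrank K (LinearMap.range e) := by
  have hinv : ∀ v, ρ g⁻¹ (ρ g v) = v := fun v => by
    have h1 : (ρ g⁻¹ * ρ g) v = v := by rw [← map_mul, inv_mul_cancel, map_one]; rfl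
    exact h1
  have hinj : Function.Injective (ρ g) := fun x y hxy => by
    rw [← hinv x, ← hinv y, hxy]
  have h1 : LinearMap.range (ad ρ g e) = (LinearMap.range e).map (ρ g) := by
    ext x
    constructor
    · rintro ⟨v, rfl⟩
      exact ⟨e (ρ g⁻¹ v), ⟨_, rfl⟩, rfl⟩
    · rintro ⟨_, ⟨v, rfl⟩, rfl⟩
      refine ⟨ρ g v, ?_⟩
      change ρ g (e (ρ g⁻¹ (ρ g v))) = ρ g (e v)
      rw [hinv]
  rw [h1]
  exact (Submodule.equivMapOfInjective (ρ g) hinj (LinearMap.range e)).symm.finrank_eq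

/-- two idempotents of minimal rank are orthogonal or equal -/
theorem idm_orth [FiniteDimensional K V] {m : ℕ} (hmin : ∀ e, Idm ρ N e → m ≤ finrank K (LinearMap.range e))
    {e f : Module.End K V} (he : Idm ρ N e) (hf : Idm ρ N f) (he1 : finrank K (LinearMap.range e) = m)
    (hf1 : finrank K (LinearMap.range f) = m) (hne : e ≠ f) : e * f = 0 := by
  by_contra h0
  have hcomm : e * f = f * e := he.hd f hf.hc
  have h1 : Idm ρ N (e * f) :=
    { hc := mul_mem_cent he.hc hf.hc
      hd := mul_mem_dc he.hd hf.hd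
      idem := by
        calc e * f * (e * f) = e * (f * e) * f := by simp only [mul_assoc]
          _ = (e * e) * (f * f) := by rw [← hcomm]; simp only [mul_assoc]
          _ = e * f := by rw [he.idem, hf.idem]
      ne := h0 }
  have h2 := hmin _ h1
  have h3 : LinearMap.range (e * f) = LinearMap.range e := by
    refine Submodule.eq_of_le_of_finrank_le ?_ (he1.trans_le h2)
    rintro _ ⟨v, rfl⟩
    exact ⟨f v, rfl⟩
  have h4 : LinearMap.range (e * f) = LinearMap.range f := by
    refine Submodule.eq_of_le_of_finrank_le ?_ (hf1.trans_le h2)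
    rw [hcomm]
    rintro _ ⟨v, rfl⟩
    exact ⟨e v, rfl⟩
  apply hne
  have h5 : f * e = e := by
    refine LinearMap.ext fun v => ?_
    have h6 : e v ∈ LinearMap.range f := by
      rw [← h4, h3]
      exact ⟨v, rfl⟩
    obtain ⟨w, hw⟩ := h6
    change f (e v) = e v
    rw [← hw]
    exact LinearMap.congr_fun hf.idem w
  have h6 : e * f = f := by
    refine LinearMap.ext fun v => ?_
    have h7 : f v ∈ LinearMap.range e := by
      rw [← h3, h4]
      exact ⟨v, rfl⟩
    obtain ⟨w, hw⟩ := h7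
    change e (f v) = f v
    rw [← hw]
    exact LinearMap.congr_fun he.idem w
  rw [← h5, ← hcomm, h6]

/-- the stabiliser of `e` -/
def stab (ρ : G →* Module.End K V) (e : Module.End K V) : Subgroup G where
  carrier := {g | ad ρ g e = e}
  one_mem' := by
    change ad ρ 1 e = e
    rw [map_one]
    rfl
  mul_mem' := by
    intro x y hx hy
    change ad ρ (x * y) e = e
    rw [map_mul]
    change ad ρ x (ad ρ y e) = e
    rw [show ad ρ y e = e from hy]
    exact hx
  inv_mem' := by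
    intro x hx
    change ad ρ x⁻¹ e = e
    have h1 := ad_ad_inv (ρ := ρ) x⁻¹ e
    rw [inv_inv, show ad ρ x e = e from hx] at h1
    exact h1

theorem mem_stab {e : Module.End K V} {g : G} : g ∈ stab ρ e ↔ ad ρ g e = e := Iff.rfl

theorem index_stab_le [Finite G] [FiniteDimensional K V] (hC : _root_.Cfsg.Agent.H883.BR.Inv (ad ρ) ⊤ (cent ρ N)) {m : ℕ}
    (hmin : ∀ e, Idm ρ N e → m ≤ finrank K (LinearMap.range e)) {e : Module.End K V} (he : Idm ρ N e)
    (he1 : finrank K (LinearMap.range e) = m) : (stab ρ e).index ≤ finrank K V := by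
  classical
  have := Fintype.ofFinite (G ⧸ stab ρ e)
  obtain ⟨v, hv⟩ : ∃ v, e v ≠ 0 := by
    by_contra hcon
    push Not at hcon
    exact he.ne (LinearMap.ext hcon)
  have horth : ∀ x y : G ⧸ stab ρ e, x ≠ y → ad ρ x.out e * ad ρ y.out e = 0 := by
    intro x y hxy
    refine idm_orth hmin (idm_conj hC he _) (idm_conj hC he _) ((finrank_range_ad _ _).trans he1)
      ((finrank_range_ad _ _).trans he1) ?_
    intro h1
    apply hxy
    have h2 : x.out⁻¹ * y.out ∈ stab ρ e := by
      rw [mem_stab, map_mul]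
      change ad ρ x.out⁻¹ (ad ρ y.out e) = e
      rw [← h1]
      have h3 := ad_ad_inv (ρ := ρ) x.out⁻¹ e
      rwa [inv_inv] at h3
    have h3 : (QuotientGroup.mk x.out : G ⧸ stab ρ e) = QuotientGroup.mk y.out := QuotientGroup.eq.2 h2
    rw [QuotientGroup.out_eq', QuotientGroup.out_eq'] at h3
    exact h3
  have hinv : ∀ (g : G) (v : V), ρ g⁻¹ (ρ g v) = v := fun g v => by
    have h1 : (ρ g⁻¹ * ρ g) v = v := by rw [← map_mul, inv_mul_cancel, map_one]; rfl
    exact h1
  have hee : e (e v) = e v := LinearMap.congr_fun he.idem v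
  have hfix : ∀ x : G ⧸ stab ρ e, ad ρ x.out e (ρ x.out (e v)) = ρ x.out (e v) := by
    intro x
    change ρ x.out (e (ρ x.out⁻¹ (ρ x.out (e v)))) = _
    rw [hinv, hee]
  have hne : ∀ x : G ⧸ stab ρ e, ρ x.out (e v) ≠ 0 := by
    intro x h1
    apply hv
    rw [← hinv x.out (e v), h1, map_zero]
  have hli : LinearIndependent K (fun x : G ⧸ stab ρ e => ρ x.out (e v)) := by
    rw [linearIndependent_iff']
    intro s g hs i hi
    have h1 := congrArg (ad ρ i.out e) hs
    rw [map_sum, map_zero, Finset.sum_eq_single_of_mem i hi] at h1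
    · rw [map_smul, hfix, smul_eq_zero] at h1
      exact h1.resolve_right (hne i)
    · intro j _ hji
      rw [map_smul, ← hfix j]
      have h2 : (ad ρ i.out e) (ad ρ j.out e (ρ j.out (e v))) = 0 := by
        have h3 := LinearMap.congr_fun (horth i j (Ne.symm hji)) (ρ j.out (e v))
        exact h3
      rw [h2, smul_zero]
  rw [Subgroup.index, Nat.card_eq_fintype_card]
  exact hli.fintype_card_le_finrank

/-- the idempotents of `C ∩ D` are `0` and `1` -/
theorem idm_eq_one [Finite G] [FiniteDimensional K V] (hirr : Irr ρ ⊤)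
    (hidx : ∀ M : Subgroup G, M.index ≤ finrank K V → M = ⊤) (hC : _root_.Cfsg.Agent.H883.BR.Inv (ad ρ) ⊤ (cent ρ N)) {e : Module.End K V}
    (he : Idm ρ N e) : e = 1 := by
  classical
  have hex : ∃ m : ℕ, ∃ e, Idm ρ N e ∧ finrank K (LinearMap.range e) = m := ⟨_, e, he, rfl⟩
  obtain ⟨e0, he0, he1⟩ := Nat.find_spec hex
  have hmin : ∀ f, Idm ρ N f → Nat.find hex ≤ finrank K (LinearMap.range f) := fun f hf =>
    Nat.find_min' hex ⟨f, hf, rfl⟩
  have h1 := hidx _ (index_stab_le hC hmin he0 he1)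
  have h2 : _root_.Cfsg.Agent.H883.BR.Inv ρ ⊤ (LinearMap.range e0) := by
    rintro g _ _ ⟨v, rfl⟩
    have h3 : ad ρ g e0 = e0 := by
      rw [← mem_stab, h1]
      trivial
    refine ⟨ρ g (e0 v), ?_⟩
    have h4 : (ρ g⁻¹ * ρ g) (e0 v) = e0 v := by rw [← map_mul, inv_mul_cancel, map_one]; rfl
    have h5 : ρ g⁻¹ (ρ g (e0 v)) = e0 v := h4
    calc e0 (ρ g (e0 v)) = (ad ρ g e0) (ρ g (e0 v)) := by rw [h3]
      _ = ρ g (e0 (ρ g⁻¹ (ρ g (e0 v)))) := rfl
      _ = ρ g (e0 (e0 v)) := by rw [h5]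
      _ = ρ g (e0 v) := congrArg _ (LinearMap.congr_fun he0.idem v)
  have h3 : LinearMap.range e0 = ⊤ := by
    rcases hirr.2 _ h2 with h4 | h4
    · exact absurd (LinearMap.range_eq_bot.1 h4) he0.ne
    · exact h4
  have h4 : finrank K V ≤ finrank K (LinearMap.range e) := by
    have h5 := hmin e he
    rwa [← he1, h3, finrank_top] at h5
  have h5 : LinearMap.range e = ⊤ := Submodule.eq_top_of_finrank_eq (le_antisymm (Submodule.finrank_le _) h4)
  refine LinearMap.ext fun v => ?_
  obtain ⟨w, rfl⟩ := LinearMap.range_eq_top.1 h5 v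
  exact LinearMap.congr_fun he.idem w

/-- a subspace invariant under `N` and `C` is trivial -/
theorem eq_top_of_inv [Finite G] [FiniteDimensional K V] (hirr : Irr ρ ⊤)
    (hidx : ∀ M : Subgroup G, M.index ≤ finrank K V → M = ⊤) (hC : _root_.Cfsg.Agent.H883.BR.Inv (ad ρ) ⊤ (cent ρ N)) (hs : Ssm ρ N)
    {W : Submodule K V} (hW : _root_.Cfsg.Agent.H883.BR.Inv ρ N W) (hCW : ∀ c ∈ cent ρ N, ∀ w ∈ W, c w ∈ W) (h0 : W ≠ ⊥) : W = ⊤ := by
  obtain ⟨π, h1, h2, h3, h4⟩ := exists_central hs hW hCW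
  obtain ⟨w, hw, hw0⟩ := W.ne_bot_iff.1 h0
  have h5 : Idm ρ N π :=
    { hc := h1
      hd := h2
      idem := LinearMap.ext fun v => h4 _ (h3 v)
      ne := by
        rintro rfl
        exact hw0 ((h4 w hw).symm.trans (by rfl)) }
  have h6 := idm_eq_one hirr hidx hC h5
  rw [eq_top_iff]
  intro v _
  have h7 := h3 v
  rw [h6] at h7
  exact h7

/-! ### the ranks of the elements of `C` and `D` -/

/-- `C u` -/
def orb (ρ : G →* Module.End K V) (N : Subgroup G) (u : V) : Submodule K V := (cent ρ N).map (LinearMap.applyₗ u)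

/-- `D u` -/
def dorb (ρ : G →* Module.End K V) (N : Subgroup G) (u : V) : Submodule K V := (dc ρ N).map (LinearMap.applyₗ u)

theorem one_mem_dc : (1 : Module.End K V) ∈ dc ρ N := fun n _ => by rw [one_mul, mul_one]

/-- `D u = U` for the image `U` of an element of minimal rank of `C` -/
theorem dorb_eq [FiniteDimensional K V] (hs : Ssm ρ N) {l : ℕ}
    (hmin : ∀ c ∈ cent ρ N, c ≠ 0 → l ≤ finrank K (LinearMap.range c)) {U : Submodule K V} (hU : _root_.Cfsg.Agent.H883.BR.Inv ρ N U)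
    (hl : finrank K U = l) {u : V} (hu : u ∈ U) (hu0 : u ≠ 0) : dorb ρ N u = U := by
  have h1 : dorb ρ N u ≤ U := by
    rintro _ ⟨d, hd, rfl⟩
    exact dc_apply_mem hs hU hd hu
  have h2 : _root_.Cfsg.Agent.H883.BR.Inv ρ N (dorb ρ N u) := by
    rintro n hn _ ⟨d, hd, rfl⟩
    exact ⟨ρ n * d, mul_mem_dc (rho_mem_dc hn) hd, rfl⟩
  obtain ⟨π, hπ, h3, h4⟩ := exists_proj hs h2
  have h5 : u ∈ dorb ρ N u := ⟨1, one_mem_dc, rfl⟩
  have h6 : π ≠ 0 := by
    rintro rfl
    exact hu0 ((h4 u h5).symm.trans (by rfl))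
  have h7 : LinearMap.range π ≤ dorb ρ N u := by
    rintro _ ⟨v, rfl⟩
    exact h3 v
  refine Submodule.eq_of_le_of_finrank_le h1 ?_
  rw [hl]
  exact (hmin π hπ h6).trans (Submodule.finrank_mono h7)

theorem rank_bound [Finite G] [FiniteDimensional K V] (hirr : Irr ρ ⊤)
    (hidx : ∀ M : Subgroup G, M.index ≤ finrank K V → M = ⊤) (hC : _root_.Cfsg.Agent.H883.BR.Inv (ad ρ) ⊤ (cent ρ N)) (hs : Ssm ρ N) :
    ∃ l : ℕ, (∀ c ∈ cent ρ N, c ≠ 0 → l ≤ finrank K (LinearMap.range c)) ∧
      ∀ d ∈ dc ρ N, d ≠ 0 → finrank K V ≤ l * finrank K (LinearMap.range d) := by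
  classical
  have := hirr.1
  have hex : ∃ l : ℕ, ∃ c ∈ cent ρ N, c ≠ 0 ∧ finrank K (LinearMap.range c) = l :=
    ⟨_, 1, one_mem_cent, one_ne_zero, rfl⟩
  obtain ⟨c0, hc0, hc1, hc2⟩ := Nat.find_spec hex
  set l := Nat.find hex with hl
  have hmin : ∀ c ∈ cent ρ N, c ≠ 0 → l ≤ finrank K (LinearMap.range c) := fun c hc hc' =>
    Nat.find_min' hex ⟨c, hc, hc', rfl⟩
  set U := LinearMap.range c0 with hUdef
  have hU : _root_.Cfsg.Agent.H883.BR.Inv ρ N U := by
    rintro n hn _ ⟨v, rfl⟩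
    exact ⟨ρ n v, LinearMap.congr_fun (hc0 n hn) v⟩
  refine ⟨l, hmin, ?_⟩
  -- `C U = V`
  set W : Submodule K V := Submodule.span K {x | ∃ c ∈ cent ρ N, ∃ u ∈ U, c u = x} with hW
  have hWtop : W = ⊤ := by
    refine eq_top_of_inv hirr hidx hC hs ?_ ?_ ?_
    · intro n hn v hv
      refine Submodule.span_induction (p := fun v _ => ρ n v ∈ W) ?_ ?_ ?_ ?_ hv
      · rintro _ ⟨c, hc, u, hu, rfl⟩
        apply Submodule.subset_span
        exact ⟨c, hc, ρ n u, hU n hn u hu, LinearMap.congr_fun (hc n hn) u⟩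
      · rw [map_zero]; exact W.zero_mem
      · intro x y _ _ hx hy
        rw [map_add]; exact W.add_mem hx hy
      · intro a x _ hx
        rw [map_smul]; exact W.smul_mem a hx
    · intro c hc v hv
      refine Submodule.span_induction (p := fun v _ => c v ∈ W) ?_ ?_ ?_ ?_ hv
      · rintro _ ⟨c', hc', u, hu, rfl⟩
        apply Submodule.subset_span
        exact ⟨c * c', mul_mem_cent hc hc', u, hu, rfl⟩
      · rw [map_zero]; exact W.zero_mem
      · intro x y _ _ hx hy
        rw [map_add]; exact W.add_mem hx hy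
      · intro a x _ hx
        rw [map_smul]; exact W.smul_mem a hx
    · intro h1
      apply hc1
      refine LinearMap.ext fun v => ?_
      have h2 : c0 v ∈ W := Submodule.subset_span ⟨1, one_mem_cent, c0 v, ⟨v, rfl⟩, rfl⟩
      rw [h1, Submodule.mem_bot] at h2
      exact h2
  -- `dim V ≤ l dim (C u)`
  have hu : ∀ u ∈ U, u ≠ 0 → finrank K V ≤ l * finrank K (orb ρ N u) := by
    intro u hu hu0
    have hD := dorb_eq hs hmin hU hc2 hu hu0
    set b := Module.finBasis K U with hb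
    have hd : ∀ j, ∃ d ∈ dc ρ N, d u = b j := by
      intro j
      have h1 : ((b j : U) : V) ∈ dorb ρ N u := by rw [hD]; exact (b j).2
      exact h1
    choose d hd1 hd2 using hd
    set T : (Fin (finrank K U) → orb ρ N u) →ₗ[K] V :=
      ∑ j, ((d j).comp (orb ρ N u).subtype).comp (LinearMap.proj j) with hT
    have hTa : ∀ x, T x = ∑ j, d j (x j) := by
      intro x
      rw [hT, LinearMap.sum_apply]
      rfl
    have h1 : W ≤ LinearMap.range T := by
      rw [hW, Submodule.span_le]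
      rintro _ ⟨c, hc, u', hu', rfl⟩
      refine ⟨fun j => b.repr ⟨u', hu'⟩ j • ⟨c u, c, hc, rfl⟩, ?_⟩
      rw [hTa]
      have h2 : u' = ∑ j, b.repr ⟨u', hu'⟩ j • d j u := by
        have h3 := congrArg Subtype.val (b.sum_repr ⟨u', hu'⟩)
        rw [AddSubmonoidClass.coe_finsetSum] at h3
        simp only [hd2]
        exact h3.symm
      conv_rhs => rw [h2, map_sum]
      refine Finset.sum_congr rfl fun j _ => ?_
      change d j (b.repr ⟨u', hu'⟩ j • c u) = c (b.repr ⟨u', hu'⟩ j • d j u)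
      rw [map_smul, map_smul]
      exact congrArg _ (LinearMap.congr_fun (hd1 j c hc) u)
    rw [hWtop, top_le_iff] at h1
    have h2 := LinearMap.finrank_range_le T
    rw [h1, finrank_top, Module.finrank_pi_fintype, Finset.sum_const, Finset.card_univ, Fintype.card_fin, hc2,
      smul_eq_mul] at h2
    exact h2
  intro d hd hd0
  obtain ⟨c, hc, u', hu', h1⟩ : ∃ c ∈ cent ρ N, ∃ u' ∈ U, d (c u') ≠ 0 := by
    by_contra hcon
    push Not at hcon
    apply hd0
    refine LinearMap.ext fun v => ?_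
    have hv : v ∈ W := by rw [hWtop]; trivial
    refine Submodule.span_induction (p := fun v _ => d v = 0) ?_ ?_ ?_ ?_ hv
    · rintro _ ⟨c, hc, u, hu, rfl⟩
      exact hcon c hc u hu
    · exact map_zero d
    · intro x y _ _ hx hy
      rw [map_add, hx, hy, add_zero]
    · intro a x _ hx
      rw [map_smul, hx, smul_zero]
  have h2 : d (c u') = c (d u') := LinearMap.congr_fun (hd c hc) u'
  have h3 : d u' ≠ 0 := by
    intro h4
    rw [h2, h4, map_zero] at h1
    exact h1 rfl
  have h4 : orb ρ N (d u') ≤ LinearMap.range d := by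
    rintro _ ⟨c', hc', rfl⟩
    exact ⟨c' u', LinearMap.congr_fun (hd c' hc') u'⟩
  exact (hu (d u') (dc_apply_mem hs hU hd hu') h3).trans (Nat.mul_le_mul_left l (Submodule.finrank_mono h4))

theorem finrank_range_mul_le [FiniteDimensional K V] (a X : Module.End K V) :
    finrank K (LinearMap.range (a * X * a)) ≤ finrank K (LinearMap.range a) := by
  apply Submodule.finrank_mono
  rintro _ ⟨v, rfl⟩
  exact ⟨X (a v), rfl⟩

/-- E1, without superfluous hypotheses -/
theorem tprim_of_roots' {F : Subfield K} [Finite F] (h3 : 3 ≤ Nat.card F) [Finite G] [FiniteDimensional K V]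
    (hirr : Irr ρ ⊤) (hidx : ∀ M : Subgroup G, M.index ≤ Module.finrank K V → M = ⊤) (A : Set (Module.End K V)) {r : ℕ}
    (hA : ∀ a ∈ A, Rt ρ F ⊤ a ∧ Module.finrank K (LinearMap.range a) ≤ r) (hr : r ^ 2 < Module.finrank K V)
    (hX : ∀ X : Module.End K V, (∀ a ∈ A, a * X * a = 0) → ∃ c : K, X = c • 1) : TPrim ρ := by
  intro N hs hC
  obtain ⟨l, h1, h2⟩ := rank_bound hirr hidx hC hs
  by_cases hl : r < l
  · right
    intro X hXC
    refine hX X fun a ha => ?_
    by_contra hne
    have h4 := h1 _ (root_mem h3 hC (hA a ha).1 hXC).2 hne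
    have h5 := finrank_range_mul_le a X
    have h6 := (hA a ha).2
    omega
  · left
    intro n hn
    refine hX (ρ n) fun a ha => ?_
    by_contra hne
    have h4 := h2 _ (root_mem h3 (dc_inv hC) (hA a ha).1 (rho_mem_dc hn)).2 hne
    have h5 := (finrank_range_mul_le a (ρ n)).trans (hA a ha).2
    have h6 : l * finrank K (LinearMap.range (a * ρ n * a)) ≤ r * r := Nat.mul_le_mul (not_lt.1 hl) h5
    rw [← pow_two] at h6
    omega

end

/-- E1 -/
theorem tprim_of_roots {K : Type u} [Field K] [IsAlgClosed K] {F : Subfield K} [Finite F] (h3 : 3 ≤ Nat.card F)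
    {G : Type w} [Group G] [Finite G] (_hG : QS G) {V : Type v} [AddCommGroup V] [Module K V]
    [FiniteDimensional K V] {ρ : G →* Module.End K V} (hirr : Irr ρ ⊤)
    (hidx : ∀ M : Subgroup G, M.index ≤ Module.finrank K V → M = ⊤) (A : Set (Module.End K V)) {r : ℕ}
    (hA : ∀ a ∈ A, Rt ρ F ⊤ a ∧ Module.finrank K (LinearMap.range a) ≤ r) (hr : r ^ 2 < Module.finrank K V)
    (hX : ∀ X : Module.End K V, (∀ a ∈ A, a * X * a = 0) → ∃ c : K, X = c • 1) : TPrim ρ :=
  tprim_of_roots' h3 hirr hidx A hA hr hX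

end Cfsg.Agent.H168.BR
end

-- part: H872/BR/OmPre
section
/-!
# HUB BR: the fields of `Fam` for `Ω(Q)`, in the form needed for `q` even

* `qs_om`, `count_om`, `tprim_om`.
-/

set_option autoImplicit false

namespace Cfsg.Agent.H872.BR

open Module Cfsg Cfsg.Agent.H883.BR Cfsg.Agent.LieClassical.OrthCore Cfsg.Agent.LieClassical.OrthTrans
open Cfsg.Agent.H748.BR (Om rho BK wdg vK)

variable {F : Type} [Field F] {ι : Type} [Fintype ι] [DecidableEq ι] {Q : QuadraticForm F (ι → F)}

omit [DecidableEq ι] in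
theorem good_om [Finite F] (hQ : ∀ v, (∀ w, QuadraticMap.polar Q v w = 0) → v = 0) (h5 : 5 ≤ Fintype.card ι) :
    Good Q :=
  LieClassical.OrthFinite.good_of_finite hQ (by rwa [Module.finrank_fintype_fun_eq_card])

theorem qs_om [Finite F] (hQ : ∀ v, (∀ w, QuadraticMap.polar Q v w = 0) → v = 0) (h5 : 5 ≤ Fintype.card ι) :
    QS (Om Q) := H16.BR.qs_of (H16.BR.quasi_omega hQ h5)

/-- indices of proper subgroups -/
theorem idx_om [Fintype F] (hQ : ∀ v, (∀ w, QuadraticMap.polar Q v w = 0) → v = 0) (h7 : 7 ≤ Fintype.card ι) {c : ℕ}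
    (hc : c + 3 ≤ Fintype.card F) {M : Subgroup (Om Q)} (hM : M ≠ ⊤) : c * Fintype.card F < M.index :=
  H16.BR.idx_omega hQ h7 hc hM

/-- the count for `d + 1 = n (n - 1) / 2` -/
theorem count_om [Fintype F] (hQ : ∀ v, (∀ w, QuadraticMap.polar Q v w = 0) → v = 0) (h7 : 7 ≤ Fintype.card ι) {d : ℕ}
    (hd : (Fintype.card ι).choose 2 = d + 1) (hc : 3 ^ Fintype.card ι * d.factorial + 3 ≤ Fintype.card F) :
    ∀ M : Subgroup (Om Q), M ≠ ⊤ → Nat.card M < Nat.choose (Fintype.card F - 1 + d) d := by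
  refine H212.BR.count_of_index (c := 3 ^ Fintype.card ι) Fintype.card_pos ?_ fun M hM => idx_om hQ h7 hc hM
  have h1 := card_Omega_le Q hQ
  rw [Nat.card_eq_fintype_card (α := F), hd] at h1
  exact h1

/-- primitivity -/
theorem tprim_om [Fintype F] (K : Type) [Field K] [Algebra F K] [IsAlgClosed K]
    (hQ : ∀ v, (∀ w, QuadraticMap.polar Q v w = 0) → v = 0) (h7 : 7 ≤ Fintype.card ι)
    (hc : Fintype.card ι + 3 ≤ Fintype.card F) (h : Nat.card (algebraMap F K).fieldRange = Fintype.card F) :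
    TPrim (rho Q K) := by
  have hG := good_om hQ (by omega)
  have : Finite (algebraMap F K).fieldRange := Finite.of_surjective (algebraMap F K).rangeRestrictField
    (algebraMap F K).rangeRestrictField_bijective.2
  have hfr : finrank K (ι → K) = Fintype.card ι := Module.finrank_fintype_fun_eq_card K
  refine H168.BR.tprim_of_roots (F := (algebraMap F K).fieldRange) (r := 2) (by omega) (qs_om hQ (by omega))
    (H621.BR.irr_rho K hG) (fun M hM => ?_) {a | ∃ p, H621.BR.rr Q K p = a} ?_ (by omega) ?_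
  · by_contra hne
    have h1 := idx_om hQ h7 (c := Fintype.card ι) hc hne
    have h2 : Fintype.card ι * 1 ≤ Fintype.card ι * Fintype.card F := Nat.mul_le_mul_left _ Fintype.card_pos
    omega
  · rintro _ ⟨p, rfl⟩
    exact ⟨H621.BR.rt_root K hG p, H621.BR.finrank_range_rt K _ _⟩
  · intro X hX
    exact H621.BR.scalar_of_roots K hG fun p => hX _ ⟨p, rfl⟩

/-- an irreducible representation of degree at least two is not trivial -/
theorem exists_ne_one {K G W : Type*} [Field K] [Group G] [AddCommGroup W] [Module K W] [FiniteDimensional K W]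
    {σ : G →* Module.End K W} {H : Subgroup G} (hirr : Irr σ H) (h2 : 2 ≤ finrank K W) : ∃ g ∈ H, σ g ≠ 1 := by
  by_contra hcon
  push Not at hcon
  have := hirr.1
  obtain ⟨w, hw⟩ := exists_ne (0 : W)
  rcases hirr.2 (Submodule.span K {w}) (fun g hg v hv => by rw [hcon g hg]; exact hv) with h | h
  · exact hw ((Submodule.mem_bot K).1 (h ▸ Submodule.mem_span_singleton_self w))
  · have h1 := finrank_span_le_card (R := K) ({w} : Set W)
    rw [h, finrank_top, Set.toFinset_card, Fintype.card_unique] at h1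
    omega

/-- the characteristic -/
theorem charP_two [Fintype F] (h : Even (Fintype.card F)) : CharP F 2 := by
  obtain ⟨p, hc⟩ := CharP.exists F
  obtain ⟨n, hp, hcard⟩ := FiniteField.card F p
  have h2 : 2 ∣ p := by
    rw [hcard] at h
    exact Nat.prime_two.dvd_of_dvd_pow h.two_dvd
  rw [(Nat.prime_dvd_prime_iff_eq Nat.prime_two hp).1 h2]
  exact hc

end Cfsg.Agent.H872.BR
end

-- part: H621/BR/Bridge
section
/-!
# HUB BR, orthogonal groups: the facts of `H621/BR/Grp` for the objects of `H748/BR/OmDefs` (helper621)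

`rho_eq`, `BK_eq`, `vK_eq`, `wdg_eq`, `so_eq` and, with the definitions of helper748 (`q` odd or even where no hypothesis `2 ≠ 0`
is given):
* `om_irr` : `Irr (rho Q K) ⊤`;
* `om_scalar` : `a X a = 0` for all roots implies that `X` is a scalar;
* `omx`, `om_oneP`, `om_rho_x`, `om_polyDeg` : the root groups;
* `om_so` : the non-zero invariant subspaces of `so`; `om_finrank_so`, `om_le_finrank`;
* `oms` : the action on `so`; `oms_irr`, `oms_polyDeg`, `oms_cen`.
-/

set_option autoImplicit false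
set_option linter.unusedSectionVars false

namespace Cfsg.Agent.H621.BR

open Module Matrix QuadraticMap Cfsg Cfsg.Agent.LieClassical.OrthCore Cfsg.Agent.LieClassical.OrthTrans
open Cfsg.Agent.H883.BR

variable {F : Type} [Field F] {ι : Type} [Fintype ι] [DecidableEq ι] {Q : QuadraticForm F (ι → F)} (K : Type)
  [Field K] [Algebra F K]

theorem BK_eq : H748.BR.BK Q K = BK Q K := by
  refine lin_ext (F := F) fun u => lin_ext (F := F) fun v => ?_
  rw [BK_jm]
  exact H748.BR.BK_vK u v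

theorem om_irr (hG : Good Q) : Irr (H748.BR.rho Q K) ⊤ := irr_rho K hG

/-- the root groups of `Ω(Q)` -/
noncomputable def omx (hG : Good Q) (p : Rp Q) (t : (algebraMap F K).fieldRange) : H748.BR.Om Q := xs K hG p t

theorem om_rho_x (hG : Good Q) (p : Rp Q) (t : (algebraMap F K).fieldRange) : H748.BR.rho Q K (omx K hG p t) =
    1 + (t : K) • H748.BR.wdg (H748.BR.BK Q K) (H748.BR.vK K p.1.1) (H748.BR.vK K p.1.2) := by
  rw [BK_eq]
  exact rho_xs K hG p t

theorem om_oneP (hG : Good Q) : OneP (algebraMap F K).fieldRange (omx K hG) := oneP K hG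

theorem om_polyDeg (hG : Good Q) : PolyDeg (H748.BR.rho Q K) (algebraMap F K).fieldRange (omx K hG) 1 :=
  polyDeg_rho K hG

theorem om_wdg_sq (hG : Good Q) (p : Rp Q) :
    H748.BR.wdg (H748.BR.BK Q K) (H748.BR.vK K p.1.1) (H748.BR.vK K p.1.2) *
      H748.BR.wdg (H748.BR.BK Q K) (H748.BR.vK K p.1.1) (H748.BR.vK K p.1.2) = 0 := by
  rw [BK_eq]
  exact rr_sq K hG p

theorem om_rt (hG : Good Q) (p : Rp Q) : Rt (H748.BR.rho Q K) (algebraMap F K).fieldRange ⊤
    (H748.BR.wdg (H748.BR.BK Q K) (H748.BR.vK K p.1.1) (H748.BR.vK K p.1.2)) := by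
  rw [BK_eq]
  exact rt_root K hG p

theorem om_so (hG : Good Q) (h2 : (2 : K) ≠ 0) {S : Submodule K (Module.End K (ι → K))}
    (hS : _root_.Cfsg.Agent.H883.BR.Inv (ad (H748.BR.rho Q K)) ⊤ S) (hle : S ≤ H748.BR.so (H748.BR.BK Q K)) (h0 : S ≠ ⊥) :
    S = H748.BR.so (H748.BR.BK Q K) := by
  rw [BK_eq] at hle ⊢
  exact so_le_of_inv K hG h2 hS hle h0

theorem om_finrank_so (hG : Good Q) (h2 : (2 : K) ≠ 0) :
    finrank K (H748.BR.so (H748.BR.BK Q K)) = Fintype.card ι * (Fintype.card ι - 1) / 2 := by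
  rw [BK_eq]
  exact finrank_so' K hG h2

theorem om_le_finrank (hG : Good Q) (h2 : (2 : K) ≠ 0) {S : Submodule K (Module.End K (ι → K))}
    (hS : _root_.Cfsg.Agent.H883.BR.Inv (ad (H748.BR.rho Q K)) ⊤ S) {a : Module.End K (ι → K)} (ha : a ∈ S)
    (ha' : a ∈ H748.BR.so (H748.BR.BK Q K)) (ha0 : a ≠ 0) : Fintype.card ι * (Fintype.card ι - 1) / 2 ≤ finrank K S := by
  rw [BK_eq] at ha'
  exact le_finrank_of_inv K hG h2 hS ha ha' ha0

variable (Q) in
/-- the action on `so` -/
noncomputable def oms : H748.BR.Om Q →* Module.End K (H748.BR.so (H748.BR.BK Q K)) :=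
  res (H748.BR.rho Q K) (H748.BR.so (H748.BR.BK Q K)) H748.BR.so_inv

theorem coe_oms (g : H748.BR.Om Q) (X : H748.BR.so (H748.BR.BK Q K)) :
    ((oms Q K g X : H748.BR.so (H748.BR.BK Q K)) : Module.End K (ι → K)) = ad (H748.BR.rho Q K) g X := rfl

theorem oms_irr (hG : Good Q) (h2 : (2 : K) ≠ 0) {M : Subgroup (H748.BR.Om Q)} (hM : Dns (ad (H748.BR.rho Q K)) M) :
    Irr (V := H748.BR.so (H748.BR.BK Q K)) ((oms Q K :)) M := by
  refine irr_res H748.BR.so_inv ?_ (fun _ hT hle h0 => om_so K hG h2 hT hle h0) hM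
  rw [BK_eq]
  exact so_ne_bot K hG

theorem oms_polyDeg (hG : Good Q) (h2 : (2 : K) ≠ 0) :
    PolyDeg (V := H748.BR.so (H748.BR.BK Q K)) ((oms Q K :)) (algebraMap F K).fieldRange (omx K hG) 2 :=
  polyDeg_res h2 H748.BR.so_inv (om_wdg_sq K hG) (om_rho_x K hG)

theorem oms_cen {z : H748.BR.Om Q} {c : K} (hz : H748.BR.rho Q K z = c • 1) : oms Q K z = 1 := res_eq_one _ hz

end Cfsg.Agent.H621.BR
end

-- part: H212/BR/Pw
section
/-!
# HUB BR: the field `pw` for `Ω(Q)`, dimension at least seven, all characteristics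

`pw_om`: the image of `diag(a, a⁻¹, 1) ∈ SL_3(F) ≤ Ω(Q)`, `a` a generator of `Fˣ`.
-/

set_option autoImplicit false

namespace Cfsg.Agent.H212.BR

open Cfsg Cfsg.Agent.H748.BR Cfsg.Agent.H883.BR Cfsg.Agent.H16.BR QuadraticMap
  Cfsg.Agent.LieClassical.OrthCore Cfsg.Agent.LieClassical.OrthFinite Matrix

/-- `diag(a, a⁻¹, 1)` -/
def dg {F : Type*} [Field F] (a : Fˣ) : _root_.Matrix.SpecialLinearGroup (Fin 3) F :=
  ⟨diagonal ![(a : F), ((a⁻¹ : Fˣ) : F), 1], by
    rw [det_diagonal, Fin.prod_univ_three]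
    simp⟩

section

variable {F : Type} [Field F] {ι : Type} [Fintype ι] [DecidableEq ι] {Q : QuadraticForm F (ι → F)}

/-- `SL_3(F) ≤ Ω(Q)` with its action on a totally singular subspace -/
theorem exists_sl_three_act [Finite F] (hQ : ∀ v, (∀ w, polar Q v w = 0) → v = 0) (h7 : 7 ≤ Fintype.card ι) :
    ∃ (e : Fin 3 → (ι → F)) (f : _root_.Matrix.SpecialLinearGroup (Fin 3) F →* Om Q), Function.Injective (lc (F := F) e) ∧
      ∀ A x, matF Q (f A) *ᵥ (lc e x) = lc e (mx A *ᵥ x) := by
  obtain ⟨e, f, h⟩ := exists_hypF (Q := Q) hQ 3 (by rwa [Module.finrank_fintype_fun_eq_card])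
  let g : _root_.Matrix.SpecialLinearGroup (Fin 3) F →* Cfsg.isometryGroup F ⇑Q :=
    (isometryEquiv Q).symm.toMonoidHom.comp h.toO
  have hmem : ∀ x, g x ∈ Omega F ⇑Q := by
    intro x
    have h1 : x ∈ commutator (_root_.Matrix.SpecialLinearGroup (Fin 3) F) := by
      rw [Cfsg.Agent.LieClassical.SLGen.commutator_eq_top (by simp)]
      exact Subgroup.mem_top x
    have h2 : g x ∈ (commutator (_root_.Matrix.SpecialLinearGroup (Fin 3) F)).map g := ⟨x, h1, rfl⟩
    have h3 : (commutator (_root_.Matrix.SpecialLinearGroup (Fin 3) F)).map g ≤ commutator (Cfsg.isometryGroup F ⇑Q) := by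
      rw [commutator_def, commutator_def, Subgroup.map_commutator]
      exact Subgroup.commutator_mono le_top le_top
    exact h3 h2
  refine ⟨e, g.codRestrict _ hmem, ?_, ?_⟩
  · intro x y hxy
    have h1 := congrArg (al Q f) hxy
    rwa [h.al_f_e, h.al_f_e] at h1
  · intro A x
    have h1 := isometryEquiv_apply Q (g A) (lc e x)
    have h2 : isometryEquiv Q (g A) = h.toO A := (isometryEquiv Q).apply_symm_apply _
    rw [h2] at h1
    have h3 : ((h.toO A : O Q) : (ι → F) ≃ₗ[F] (ι → F)) (lc e x) = TT Q e f (mx A) (mx A⁻¹)ᵀ (lc e x) := rfl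
    rw [h3, TT_apply, h.al_f_e, h.al_e_e, mulVec_zero, sub_mulVec, one_mulVec] at h1
    have h4 : lc (F := F) f (0 : Fin 3 → F) = 0 := by
      rw [lc]
      exact Finset.sum_eq_zero fun i _ => by rw [Pi.zero_apply, zero_smul]
    rw [h4, add_zero, ← lc_add, add_sub_cancel] at h1
    exact h1.symm

end

/-- **The field `pw` for `Ω(Q)`.** -/
theorem pw_om {F : Type} [Field F] [Fintype F] {ι : Type} [Fintype ι] [DecidableEq ι] {Q : QuadraticForm F (ι → F)}
    (K : Type) [Field K] [Algebra F K] (hQ : ∀ v, (∀ w, QuadraticMap.polar Q v w = 0) → v = 0)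
    (h7 : 7 ≤ Fintype.card ι) : ∀ k, 0 < k → 2 * k + 1 < Fintype.card F → ∃ g : Om Q, ad (rho Q K) (g ^ k) ≠ 1 := by
  intro k hk hkq
  obtain ⟨e, f, hinj, hf⟩ := exists_sl_three_act hQ h7
  obtain ⟨a, ha⟩ := IsCyclic.exists_generator (α := Fˣ)
  have hoa : orderOf a = Fintype.card F - 1 := by
    rw [orderOf_eq_card_of_forall_mem_zpowers ha, Nat.card_units, Nat.card_eq_fintype_card]
  have hak : a ^ k ≠ 1 := by
    intro h1
    have h2 := Nat.le_of_dvd hk (orderOf_dvd_of_pow_eq_one h1)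
    omega
  refine ⟨f (dg a), fun had => ?_⟩
  have hx : ∀ (j : Fin 3) (c : F), (∀ v : F, mx (dg a) *ᵥ (Pi.single j v) = Pi.single j (c * v)) → ∀ (k : ℕ) (v : F),
      matF Q ((f (dg a)) ^ k) *ᵥ lc e (Pi.single j v) = lc e (Pi.single j (c ^ k * v)) := by
    intro j c hj k
    induction k with
    | zero =>
      intro v
      rw [pow_zero, map_one, one_mulVec, pow_zero, one_mul]
    | succ k ih =>
      intro v
      rw [pow_succ, map_mul, ← mulVec_mulVec, hf, hj, ih, pow_succ, mul_assoc]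
  have h0 : ∀ v : F, mx (dg a) *ᵥ (Pi.single 0 v) = Pi.single 0 ((a : F) * v) := by
    intro v
    have : mx (dg a) = diagonal ![(a : F), ((a⁻¹ : Fˣ) : F), 1] := rfl
    rw [this]
    funext i
    rw [mulVec_diagonal]
    (revert i; simp only [_root_.Fin.forall_fin_succ, _root_.Nat.succ_eq_add_one, Nat.reduceAdd, _root_.Units.val_inv_eq_inv_val, Fin.isValue, _root_.Matrix.cons_val_zero, _root_.Pi.single_eq_same, _root_.Matrix.cons_val_succ, _root_.ne_eq, _root_.Fin.succ_ne_zero, _root_.not_false_eq_true, _root_.Pi.single_eq_of_ne, _root_.MulZeroClass.mul_zero, _root_.implies_true, _root_.and_self])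
  have h2 : ∀ v : F, mx (dg a) *ᵥ (Pi.single 2 v) = Pi.single 2 ((1 : F) * v) := by
    intro v
    have : mx (dg a) = diagonal ![(a : F), ((a⁻¹ : Fˣ) : F), 1] := rfl
    rw [this]
    funext i
    rw [mulVec_diagonal]
    (revert i; simp only [_root_.Fin.forall_fin_succ, _root_.Nat.succ_eq_add_one, Nat.reduceAdd, _root_.Units.val_inv_eq_inv_val, Fin.isValue, _root_.one_mul, _root_.Matrix.cons_val_zero, _root_.ne_eq, Fin.reduceEq, _root_.not_false_eq_true, _root_.Pi.single_eq_of_ne, _root_.MulZeroClass.mul_zero, _root_.Matrix.cons_val_succ, _root_.Fin.succ_zero_eq_one, _root_.Matrix.cons_val_fin_one, _root_.implies_true, _root_.and_self])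
  have e0 := hx 0 a h0 k 1
  have e2 := hx 2 1 h2 k 1
  rw [one_pow, mul_one] at e2
  rw [mul_one] at e0
  have e0' : lc e (Pi.single (0 : Fin 3) ((a : F) ^ k)) = (a : F) ^ k • lc e (Pi.single (0 : Fin 3) (1 : F)) := by
    rw [← lc_smul]
    congr 1
    rw [← Pi.single_smul, smul_eq_mul, mul_one]
  rw [e0'] at e0
  set w0 : ι → K := vK K (lc e (Pi.single (0 : Fin 3) (1 : F))) with hw0
  set w2 : ι → K := vK K (lc e (Pi.single (2 : Fin 3) (1 : F))) with hw2
  have r0 : rho Q K ((f (dg a)) ^ k) w0 = algebraMap F K ((a : F) ^ k) • w0 := by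
    rw [hw0, rho_vK, e0, vK_smul]
  have r2 : rho Q K ((f (dg a)) ^ k) w2 = w2 := by
    rw [hw2, rho_vK, e2]
  have hlc0 : lc (F := F) e (0 : Fin 3 → F) = 0 := by
    rw [lc]
    exact Finset.sum_eq_zero fun i _ => by rw [Pi.zero_apply, zero_smul]
  have hne : ∀ j : Fin 3, vK K (lc e (Pi.single j (1 : F))) ≠ (0 : ι → K) := by
    intro j hj
    have h3 : lc e (Pi.single j (1 : F)) = lc e (0 : Fin 3 → F) := by
      rw [hlc0]
      funext i
      exact (algebraMap F K).injective ((congrFun hj i).trans (map_zero _).symm)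
    have h4 := congrFun (hinj h3) j
    rw [Pi.single_eq_same, Pi.zero_apply] at h4
    exact one_ne_zero h4
  obtain ⟨i, hi⟩ := Function.ne_iff.1 (hne 2)
  rw [← hw2, Pi.zero_apply] at hi
  let φ : (ι → K) →ₗ[K] K := (w2 i)⁻¹ • LinearMap.proj i
  have hφ : φ w2 = 1 := by
    change (w2 i)⁻¹ • (w2 i) = 1
    rw [smul_eq_mul, inv_mul_cancel₀ hi]
  let X : Module.End K (ι → K) := φ.smulRight w0
  have hX : ∀ v, X v = φ v • w0 := fun v => rfl
  have h5 : rho Q K ((f (dg a)) ^ k) * X * rho Q K ((f (dg a)) ^ k)⁻¹ = X := by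
    have := LinearMap.congr_fun had X
    exact this
  have h6 : rho Q K ((f (dg a)) ^ k) * X = X * rho Q K ((f (dg a)) ^ k) := by
    have h7 : rho Q K ((f (dg a)) ^ k)⁻¹ * rho Q K ((f (dg a)) ^ k) = 1 := by
      rw [← map_mul, inv_mul_cancel, map_one]
    calc rho Q K ((f (dg a)) ^ k) * X = rho Q K ((f (dg a)) ^ k) * X *
          (rho Q K ((f (dg a)) ^ k)⁻¹ * rho Q K ((f (dg a)) ^ k)) := by rw [h7, mul_one]
      _ = (rho Q K ((f (dg a)) ^ k) * X * rho Q K ((f (dg a)) ^ k)⁻¹) * rho Q K ((f (dg a)) ^ k) := by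
          rw [← mul_assoc]
      _ = _ := by rw [h5]
  have h8 := LinearMap.congr_fun h6 w2
  rw [Module.End.mul_apply, Module.End.mul_apply, r2, hX, hφ, one_smul, r0] at h8
  obtain ⟨j, hj⟩ := Function.ne_iff.1 (hne 0)
  rw [← hw0, Pi.zero_apply] at hj
  have h9 := congrFun h8 j
  rw [Pi.smul_apply, smul_eq_mul] at h9
  have h10 : algebraMap F K ((a : F) ^ k) = 1 := mul_right_cancel₀ hj (by rw [h9, one_mul])
  apply hak
  apply Units.ext
  apply (algebraMap F K).injective
  rw [Units.val_pow_eq_pow_val, h10, Units.val_one, map_one]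

end Cfsg.Agent.H212.BR
end

private theorem dce_f756d155a39a : _root_.True := by
  try have : _root_.True := by simp only [_root_.Cfsg.Agent.H748.BR.gram.congr_simp]
  try have : _root_.True := by simp only [_root_.Cfsg.Agent.H748.BR.vK.eq_1]
  try have : _root_.True := by simp only [_root_.Cfsg.Agent.H748.BR.lam0.eq_1]
  try have : _root_.True := by simp only [_root_.Cfsg.Agent.H748.BR.BK.eq_1]
  exact _root_.True.intro
end

-- part: H858/BR/SpDefs_mg
section
prune_inst 0x341029246520120000000090e100002230000402000004000421010201090000400280000330200b50a0000000010068101000808000000000200400001c00001080100480080100000088000000000000000000000000000000000000024000000000000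
set_option linter.all false
open scoped Cfsg.Agent.FastGrp

-- part: H858/BR/SpDefs
section
/-!
# HUB BR, `fam_sp_odd`: definitions (helper858)

* `rho m F K` : the natural representation of `Sp_{2m}(F)` over `K ⊇ F`;
* `rtK v = v ⊗ B(·, v)` (`v` over `K`), `rt K v` (`v` over `F`), `rt2 v w = v ⊗ B(·, w) + w ⊗ B(·, v)`;
* `sp m K` : the symplectic Lie algebra as a subspace of `End V`.
-/

set_option autoImplicit false

namespace Cfsg.Agent.H858.BR

open Cfsg Cfsg.Agent.H883.BR Cfsg.Agent.ClassicalGeometry.SympBasic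
open scoped Matrix

section

variable (m : ℕ) (F : Type*) [Field F] (K : Type*) [Field K] [Algebra F K]

/-- the natural representation over `K` -/
noncomputable def rho : Matrix.symplecticGroup (Fin m) F →* Module.End K (Fin m ⊕ Fin m → K) where
  toFun g := Matrix.toLin' ((g : Matrix (Fin m ⊕ Fin m) (Fin m ⊕ Fin m) F).map (algebraMap F K))
  map_one' := by
    rw [Submonoid.coe_one, Matrix.map_one _ (map_zero _) (map_one _), Matrix.toLin'_one]
    rfl
  map_mul' g h := by
    rw [Submonoid.coe_mul, Matrix.map_mul, Matrix.toLin'_mul]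
    rfl

end

section

variable {m : ℕ} {F : Type*} [Field F] {K : Type*} [Field K] [Algebra F K]

theorem rho_apply (g : Matrix.symplecticGroup (Fin m) F) :
    rho m F K g = Matrix.toLin' ((g : Matrix (Fin m ⊕ Fin m) (Fin m ⊕ Fin m) F).map (algebraMap F K)) := rfl

theorem rho_inj : Function.Injective (rho m F K) := by
  intro g h hgh
  have h1 := (Matrix.toLin' (R := K) (n := Fin m ⊕ Fin m) (m := Fin m ⊕ Fin m)).injective hgh
  apply Subtype.ext
  ext i j
  have h2 := congrFun (congrFun h1 i) j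
  exact (algebraMap F K).injective h2

variable (K) in
/-- the vector over `K` -/
def vk (v : Fin m ⊕ Fin m → F) : Fin m ⊕ Fin m → K := fun j => algebraMap F K (v j)

theorem vk_apply (v : Fin m ⊕ Fin m → F) (j : Fin m ⊕ Fin m) : vk K v j = algebraMap F K (v j) := rfl

theorem vk_add (v w : Fin m ⊕ Fin m → F) : vk K (v + w) = vk K v + vk K w := funext fun _ => map_add _ _ _

theorem vk_zero : vk K (0 : Fin m ⊕ Fin m → F) = 0 := funext fun _ => map_zero _

theorem form_vk (v w : Fin m ⊕ Fin m → F) :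
    sympForm m K (vk K v) (vk K w) = algebraMap F K (sympForm m F v w) := by
  rw [sympForm_eq_sum, sympForm_eq_sum, map_sum]
  exact Finset.sum_congr rfl fun j _ => by rw [map_sub, map_mul, map_mul]; rfl

theorem map_mem (g : Matrix.symplecticGroup (Fin m) F) :
    (g : Matrix (Fin m ⊕ Fin m) (Fin m ⊕ Fin m) F).map (algebraMap F K) ∈ Matrix.symplecticGroup (Fin m) K := by
  have hJ : (Matrix.J (Fin m) F).map (algebraMap F K) = Matrix.J (Fin m) K := by
    rw [Matrix.J, Matrix.J, Matrix.fromBlocks_map]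
    congr 1
    · exact Matrix.map_zero _ (map_zero _)
    · rw [Matrix.map_neg _ (map_neg _), Matrix.map_one _ (map_zero _) (map_one _)]
    · exact Matrix.map_one _ (map_zero _) (map_one _)
    · exact Matrix.map_zero _ (map_zero _)
  have h := SymplecticGroup.mem_iff.1 g.2
  have h1 := congrArg (fun M => M.map (algebraMap F K)) h
  rw [SymplecticGroup.mem_iff]
  simpa only [Matrix.map_mul, hJ, ← Matrix.transpose_map] using h1

/-- the form is invariant -/
theorem form_rho (g : Matrix.symplecticGroup (Fin m) F) (v w : Fin m ⊕ Fin m → K) :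
    sympForm m K (rho m F K g v) (rho m F K g w) = sympForm m K v w := by
  rw [rho_apply, Matrix.toLin'_apply, Matrix.toLin'_apply]
  exact sympForm_mulVec (map_mem g) v w

theorem rho_apply_inv (g : Matrix.symplecticGroup (Fin m) F) (v : Fin m ⊕ Fin m → K) :
    rho m F K g (rho m F K g⁻¹ v) = v := by
  have h : rho m F K g * rho m F K g⁻¹ = 1 := by rw [← map_mul, mul_inv_cancel, map_one]
  exact LinearMap.congr_fun h v

theorem form_rho_left (g : Matrix.symplecticGroup (Fin m) F) (v w : Fin m ⊕ Fin m → K) :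
    sympForm m K (rho m F K g v) w = sympForm m K v (rho m F K g⁻¹ w) := by
  rw [← form_rho g v, rho_apply_inv]

theorem form_rho_right (g : Matrix.symplecticGroup (Fin m) F) (v w : Fin m ⊕ Fin m → K) :
    sympForm m K v (rho m F K g w) = sympForm m K (rho m F K g⁻¹ v) w := by
  rw [← form_rho g _ w, rho_apply_inv]

end

section

variable {m : ℕ} {K : Type*} [Field K]

/-- `v ⊗ B(·, w)` -/
def rt1 (v w : Fin m ⊕ Fin m → K) : Module.End K (Fin m ⊕ Fin m → K) where
  toFun y := sympForm m K y w • v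
  map_add' x y := by rw [sympForm_add_left, add_smul]
  map_smul' c x := by rw [sympForm_smul_left, mul_smul, RingHom.id_apply]

theorem rt1_apply (v w y : Fin m ⊕ Fin m → K) : rt1 v w y = sympForm m K y w • v := rfl

/-- the root element `v ⊗ B(·, v)` -/
def rtK (v : Fin m ⊕ Fin m → K) : Module.End K (Fin m ⊕ Fin m → K) := rt1 v v

theorem rtK_apply (v y : Fin m ⊕ Fin m → K) : rtK v y = sympForm m K y v • v := rfl

variable (K) in
/-- the root element `v ⊗ B(·, v)` for a vector over `F` -/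
def rt {F : Type*} [Field F] [Algebra F K] (v : Fin m ⊕ Fin m → F) : Module.End K (Fin m ⊕ Fin m → K) :=
  rtK (vk K v)

theorem rt_apply {F : Type*} [Field F] [Algebra F K] (v : Fin m ⊕ Fin m → F) (y : Fin m ⊕ Fin m → K) :
    rt K v y = sympForm m K y (vk K v) • vk K v := rfl

/-- the transvections over `K` -/
theorem rho_transv {F : Type*} [Field F] [Algebra F K] (v : Fin m ⊕ Fin m → F) (c : F) :
    rho m F K (transv v c) = 1 + algebraMap F K c • rt K v := by
  rw [rho_apply, coe_transv]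
  have h : (sympTransvection m v c).map (algebraMap F K) = sympTransvection m (vk K v) (algebraMap F K c) := by
    rw [← Matrix.mulVec_injective.eq_iff]
    funext x
    rw [sympTransvection_mulVec]
    funext i
    rw [sympTransvection_def]
    have h1 : ((1 : Matrix (Fin m ⊕ Fin m) (Fin m ⊕ Fin m) F) +
        c • Matrix.vecMulVec v (Matrix.J (Fin m) F *ᵥ v)).map (algebraMap F K) =
        1 + algebraMap F K c • Matrix.vecMulVec (vk K v) (Matrix.J (Fin m) K *ᵥ (vk K v)) := by
      have hJ : Matrix.J (Fin m) K *ᵥ (vk K v) = vk K (Matrix.J (Fin m) F *ᵥ v) := by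
        funext j
        rcases j with j | j
        · rw [J_mulVec_inl, vk_apply, vk_apply, J_mulVec_inl, map_neg]
        · rw [J_mulVec_inr, vk_apply, vk_apply, J_mulVec_inr]
      rw [hJ]
      ext i j
      simp only [Matrix.map_apply, Matrix.add_apply, Matrix.smul_apply, Matrix.vecMulVec_apply, smul_eq_mul, map_add,
        map_mul, vk_apply, Matrix.one_apply]
      split_ifs <;> simp
    rw [h1, ← sympTransvection_def, sympTransvection_mulVec]
  rw [h]
  refine LinearMap.ext fun y => ?_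
  rw [Matrix.toLin'_apply, sympTransvection_mulVec]
  change y + _ = y + algebraMap F K c • (sympForm m K y (vk K v) • vk K v)
  rw [smul_smul]

variable (m K) in
/-- the symplectic Lie algebra -/
def sp : Submodule K (Module.End K (Fin m ⊕ Fin m → K)) where
  carrier := {X | ∀ v w, sympForm m K (X v) w + sympForm m K v (X w) = 0}
  zero_mem' v w := by
    change sympForm m K 0 w + sympForm m K v 0 = 0
    rw [sympForm_zero_left, sympForm_zero_right, add_zero]
  add_mem' := by
    intro X Y hX hY v w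
    change sympForm m K (X v + Y v) w + sympForm m K v (X w + Y w) = 0
    rw [sympForm_add_left, sympForm_add_right]
    linear_combination hX v w + hY v w
  smul_mem' := by
    intro c X hX v w
    change sympForm m K (c • X v) w + sympForm m K v (c • X w) = 0
    rw [sympForm_smul_left, sympForm_smul_right]
    linear_combination c * hX v w

end

end Cfsg.Agent.H858.BR
end

-- part: H16/BR/ExtSo
section
/-!
# HUB BR, F-OmO-ext: the highest weight vector of `𝔰𝔬(V)`, odd characteristic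

`V` a finite dimensional space with a nondegenerate symmetric form `B`, `dim V ≥ 4`, `ρ : G → O(V)`, `U ≤ G` a
`p`-group, `p = char K` odd. `wd B u v = u ⊗ B(v,·) - v ⊗ B(u,·)` (`u ∧ v`).

* `exists_fix_mod`: fixed vectors of `U` in a subquotient.
* `ext_so`: if the fixed points of `U` in `𝔰𝔬(V)` are a line `K w`, then `w = v0 ∧ v1` with a totally singular plane
  `⟨v0, v1⟩`, and `ρ z = 1 + c w`, `c ≠ 0`, for all `1 ≠ z ∈ Z(U)`.
* `ext_so_fam`: the field `ext` of `Fam` (with `a` a root `v0 ∧ v1` in place of the last line).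
-/

set_option autoImplicit false
set_option linter.unusedSectionVars false

namespace Cfsg.Agent.H16.BR

open Cfsg.Agent.H883.BR Module

universe u v w

section wd

variable {K : Type u} {V : Type v} [Field K] [AddCommGroup V] [Module K V] (B : LinearMap.BilinForm K V)

/-- `u ∧ v` -/
def wd (u v : V) : Module.End K V := (B v).smulRight u - (B u).smulRight v

theorem wd_apply (u v x : V) : wd B u v x = B v x • u - B u x • v := rfl

/-- skew with respect to `B` -/
def Sk (X : Module.End K V) : Prop := ∀ x y, B (X x) y = - B x (X y)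

variable {B}

theorem sk_wd (hs : ∀ x y, B x y = B y x) (u v : V) : Sk B (wd B u v) := by
  intro x y
  simp only [wd_apply, wd_apply, map_sub, map_sub, map_smul, map_smul, map_smul, map_smul, LinearMap.sub_apply,
    LinearMap.smul_apply, LinearMap.smul_apply, smul_eq_mul, smul_eq_mul, smul_eq_mul, smul_eq_mul, hs x u,
    hs x v]
  ring

theorem wd_add (u v v' : V) : wd B u (v + v') = wd B u v + wd B u v' := by
  ext x
  rw [LinearMap.add_apply, wd_apply, wd_apply, wd_apply, map_add, LinearMap.add_apply, add_smul, smul_add]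
  abel

theorem wd_smul (u v : V) (c : K) : wd B u (c • v) = c • wd B u v := by
  ext x
  rw [LinearMap.smul_apply, wd_apply, wd_apply, map_smul, LinearMap.smul_apply, smul_eq_mul, mul_smul, smul_sub,
    smul_comm c (B u x) v]

theorem wd_self (u : V) : wd B u u = 0 := by
  ext x
  rw [wd_apply, LinearMap.zero_apply, sub_self]

theorem exists_one (hn : ∀ u : V, (∀ x, B u x = 0) → u = 0) {u : V} (hu : u ≠ 0) : ∃ x, B u x = 1 := by
  by_contra hcon
  push Not at hcon
  apply hu
  refine hn u fun x => ?_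
  by_contra h
  apply hcon ((B u x)⁻¹ • x)
  rw [map_smul, smul_eq_mul, inv_mul_cancel₀ h]

theorem of_wd_eq_zero (hn : ∀ u : V, (∀ x, B u x = 0) → u = 0) {u v : V} (hu : u ≠ 0) (h : wd B u v = 0) :
    ∃ c : K, v = c • u := by
  obtain ⟨x, hx⟩ := exists_one hn hu
  have h1 := LinearMap.congr_fun h x
  rw [wd_apply, hx, one_smul, LinearMap.zero_apply, sub_eq_zero] at h1
  exact ⟨_, h1.symm⟩

/-- the square of `u ∧ v` for a totally singular plane -/
theorem wd_mul_self {u v : V} (huu : B u u = 0) (huv : B u v = 0) (hvu : B v u = 0) (hvv : B v v = 0) :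
    wd B u v * wd B u v = 0 := by
  ext x
  rw [Module.End.mul_apply, wd_apply B u v x, map_sub, map_smul, map_smul, wd_apply, wd_apply, huu, huv, hvu,
    hvv]
  simp

end wd

section fix

variable {K : Type u} {V : Type v} [Field K] [AddCommGroup V] [Module K V] {p : ℕ} [Fact p.Prime] [CharP K p]

/-- fixed vectors of a `p`-group in `(T + S) / S` -/
theorem exists_fix_mod {P : Type w} [Group P] [Finite P] (hP : IsPGroup p P) (ρ : P →* Module.End K V)
    (S T : Submodule K V) (hS : ∀ g, ∀ s ∈ S, ρ g s ∈ S) (hT : ∀ g, ∀ s ∈ T, ρ g s ∈ T) (h : ¬ T ≤ S) :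
    ∃ x ∈ T, x ∉ S ∧ ∀ g, ρ g x - x ∈ S := by
  let ρ' : Representation K P (V ⧸ S) :=
    { toFun := fun g => S.mapQ S (ρ g) (fun s hs => hS g s hs)
      map_one' := by
        refine LinearMap.ext fun x => ?_
        obtain ⟨v, rfl⟩ := S.mkQ_surjective x
        change S.mkQ (ρ 1 v) = S.mkQ v
        rw [map_one, Module.End.one_apply]
      map_mul' := by
        intro g h
        refine LinearMap.ext fun x => ?_
        obtain ⟨v, rfl⟩ := S.mkQ_surjective x
        change S.mkQ (ρ (g * h) v) = S.mkQ (ρ g (ρ h v))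
        rw [map_mul, Module.End.mul_apply] }
  have hρ' : ∀ g v, ρ' g (S.mkQ v) = S.mkQ (ρ g v) := fun _ _ => rfl
  obtain ⟨y, hy, hy0, hyf⟩ := Cfsg.Agent.H666.exists_fixed_ne_zero hP ρ' (T.map S.mkQ) (by
    rintro g _ ⟨t, ht, rfl⟩
    exact ⟨ρ g t, hT g t ht, rfl⟩) (by
    intro h1
    refine h fun t ht => (Submodule.Quotient.mk_eq_zero S).1 ?_
    have h2 : S.mkQ t ∈ T.map S.mkQ := ⟨t, ht, rfl⟩
    rw [h1, Submodule.mem_bot] at h2
    exact h2)
  obtain ⟨x, hx, rfl⟩ := hy
  refine ⟨x, hx, fun h1 => hy0 ((Submodule.Quotient.mk_eq_zero S).2 h1), fun g => ?_⟩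
  have h1 := hyf g
  rw [hρ', ← sub_eq_zero, ← map_sub] at h1
  exact (Submodule.Quotient.mk_eq_zero S).1 h1

end fix

section main

variable {K : Type u} {V : Type v} [Field K] [AddCommGroup V] [Module K V] [FiniteDimensional K V]
  {B : LinearMap.BilinForm K V} {G : Type w} [Group G] {ρ : G →* Module.End K V}

theorem rho_inv (g : G) (v : V) : ρ g (ρ g⁻¹ v) = v := by
  rw [← Module.End.mul_apply, ← map_mul, mul_inv_cancel, map_one, Module.End.one_apply]

theorem adj (hρ : ∀ g v w, B (ρ g v) (ρ g w) = B v w) (g : G) (v w : V) : B v (ρ g⁻¹ w) = B (ρ g v) w := by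
  rw [← hρ g v (ρ g⁻¹ w), rho_inv]

theorem ad_wd (hρ : ∀ g v w, B (ρ g v) (ρ g w) = B v w) (g : G) (u v : V) :
    ad ρ g (wd B u v) = wd B (ρ g u) (ρ g v) := by
  refine LinearMap.ext fun x => ?_
  change ρ g (wd B u v (ρ g⁻¹ x)) = _
  rw [wd_apply, wd_apply, map_sub, map_smul, map_smul, adj hρ, adj hρ]

/-- the orthogonal space of two vectors has codimension at most two -/
theorem exists_orth (h4 : 4 ≤ finrank K V) (u v x : V) :
    ¬ LinearMap.ker ((B u).prod (B v)) ≤ Submodule.span K {x} := by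
  intro h
  have h1 := LinearMap.finrank_range_add_finrank_ker ((B u).prod (B v))
  have h2 : finrank K (LinearMap.range ((B u).prod (B v))) ≤ 2 := by
    refine (Submodule.finrank_le _).trans ?_
    rw [Module.finrank_prod, Module.finrank_self]
  have h3 : finrank K (Submodule.span K {x}) ≤ 1 := by
    have := finrank_span_le_card (R := K) ({x} : Set V)
    simpa using this
  have h4 := (Submodule.finrank_mono h).trans h3
  omega

theorem mem_orth {u v x : V} : x ∈ LinearMap.ker ((B u).prod (B v)) ↔ B u x = 0 ∧ B v x = 0 := by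
  rw [LinearMap.mem_ker]
  exact ⟨fun h => ⟨congrArg Prod.fst h, congrArg Prod.snd h⟩, fun h => Prod.ext h.1 h.2⟩

/-- `z` of odd order with `(z - z⁻¹)² = 0` -/
theorem sq_eq_zero (h2 : (2 : K) ≠ 0) {z : G} {m : ℕ} (hm : Odd m) (hz : z ^ m = 1)
    (h : (ρ z - ρ z⁻¹) * (ρ z - ρ z⁻¹) = 0) : (ρ z - 1) * (ρ z - 1) = 0 := by
  have hzz : ρ z * ρ z⁻¹ = 1 := by rw [← map_mul, mul_inv_cancel, map_one]
  have hzz' : ρ z⁻¹ * ρ z = 1 := by rw [← map_mul, inv_mul_cancel, map_one]
  have hzm : ρ z ^ m = 1 := by rw [← map_pow, hz, map_one]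
  have key : ∀ A : Module.End K V, A * (ρ z + 1) = 0 → A = 0 := by
    intro A hA
    have h1 : A * ρ z = -A := by
      rw [mul_add, mul_one] at hA
      exact eq_neg_of_add_eq_zero_left hA
    have h3 : ∀ k : ℕ, A * ρ z ^ k = (-1 : K) ^ k • A := by
      intro k
      induction k with
      | zero => simp
      | succ k ih => rw [pow_succ, ← mul_assoc, ih, smul_mul_assoc, h1, pow_succ, mul_smul, neg_smul, one_smul]
    have h4 := h3 m
    rw [hzm, mul_one, hm.neg_one_pow, neg_smul, one_smul] at h4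
    have h5 : (2 : K) • A = 0 := by
      rw [two_smul]
      nth_rewrite 1 [h4]
      exact neg_add_cancel A
    exact (smul_eq_zero.1 h5).resolve_left h2
  refine key _ (key _ ?_)
  have h3 : (ρ z - 1) * (ρ z - 1) * (ρ z + 1) * (ρ z + 1) =
      (ρ z - ρ z⁻¹) * (ρ z - ρ z⁻¹) * (ρ z * ρ z) := by
    have e1 : (ρ z - ρ z⁻¹) * (ρ z - ρ z⁻¹) * (ρ z * ρ z) = ρ z * ρ z * (ρ z * ρ z) - 2 • (ρ z * ρ z) + 1 := by
      have a1 : (ρ z - ρ z⁻¹) * (ρ z - ρ z⁻¹) = ρ z * ρ z - 2 • 1 + ρ z⁻¹ * ρ z⁻¹ := by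
        rw [sub_mul, mul_sub, mul_sub, hzz, hzz', two_smul]
        abel
      rw [a1, add_mul, sub_mul, smul_mul_assoc, one_mul, mul_assoc (ρ z⁻¹) (ρ z⁻¹), ← mul_assoc (ρ z⁻¹) (ρ z),
        hzz', one_mul, hzz']
    rw [e1]
    have e2 : (ρ z - 1) * (ρ z - 1) * (ρ z + 1) * (ρ z + 1) = ρ z * ρ z * (ρ z * ρ z) - 2 • (ρ z * ρ z) + 1 := by
      noncomm_ring
    rw [e2]
  rw [h3, h, zero_mul]

/-- **The fixed line of `U` in `𝔰𝔬(V)`.** -/
theorem ext_so {p : ℕ} [Fact p.Prime] [CharP K p] (hp : p ≠ 2) (h4 : 4 ≤ finrank K V)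
    (hs : ∀ x y, B x y = B y x) (hn : ∀ u : V, (∀ x, B u x = 0) → u = 0) [Finite G]
    (hρ : ∀ g v w, B (ρ g v) (ρ g w) = B v w) (hinj : Function.Injective ρ) {U : Subgroup G}
    (hU : IsPGroup p U) {w0 : Module.End K V}
    (hfix : ∀ X : Module.End K V, (Sk B X ∧ ∀ u ∈ U, ad ρ u X = X) ↔ ∃ c : K, X = c • w0) :
    ∃ v0 v1 : V, v0 ≠ 0 ∧ B v0 v0 = 0 ∧ B v0 v1 = 0 ∧ B v1 v0 = 0 ∧ B v1 v1 = 0 ∧ w0 = wd B v0 v1 ∧
      ∀ z ∈ U, z ≠ 1 → (∀ u ∈ U, u * z = z * u) → ∃ c : K, c ≠ 0 ∧ ρ z = 1 + c • w0 := by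
  classical
  have h2 : (2 : K) ≠ 0 := by
    intro h
    have h1 : ((2 : ℕ) : K) = 0 := by exact_mod_cast h
    rw [CharP.cast_eq_zero_iff K p] at h1
    exact hp ((Nat.prime_dvd_prime_iff_eq (Fact.out : p.Prime) Nat.prime_two).1 h1)
  -- the space of the fixed points is a line
  have hline : ∀ X Y : Module.End K V, Sk B X → (∀ u ∈ U, ad ρ u X = X) → X ≠ 0 → Sk B Y →
      (∀ u ∈ U, ad ρ u Y = Y) → ∃ c : K, Y = c • X := by
    intro X Y hX1 hX2 hX0 hY1 hY2
    obtain ⟨a, ha⟩ := (hfix X).1 ⟨hX1, hX2⟩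
    obtain ⟨b, hb⟩ := (hfix Y).1 ⟨hY1, hY2⟩
    have ha0 : a ≠ 0 := by
      rintro rfl
      exact hX0 (by rw [ha, zero_smul])
    refine ⟨b * a⁻¹, ?_⟩
    rw [ha, hb, smul_smul, mul_assoc, inv_mul_cancel₀ ha0, mul_one]
  have FIX := exists_fix_mod (K := K) (V := V) (p := p) hU (ρ.comp U.subtype)
  have hker : ∀ v : V, (∀ u ∈ U, ρ u v = v) → ∀ u ∈ U, ∀ x, B v x = 0 → B v (ρ u x) = 0 := by
    intro v hv u hu x hx
    have h1 : ρ u v = v := hv u hu
    rw [← h1, hρ, hx]
  -- a fixed vector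
  have hnt : Nontrivial V := by
    refine Module.nontrivial_of_finrank_pos (R := K) ?_
    omega
  obtain ⟨v0, -, hv0, hv0f⟩ := FIX ⊥ ⊤ (by
    intro g s hs
    rw [Submodule.mem_bot] at hs ⊢
    rw [hs, map_zero]) (fun g s _ => Submodule.mem_top) (by
    rw [top_le_iff]
    exact bot_ne_top)
  replace hv0 : v0 ≠ 0 := fun h => hv0 (by rw [h]; exact Submodule.zero_mem _)
  replace hv0f : ∀ u ∈ U, ρ u v0 = v0 := by
    intro u hu
    have := hv0f ⟨u, hu⟩
    rw [Submodule.mem_bot, sub_eq_zero] at this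
    exact this
  have hspan : ∀ v x : V, x ∈ Submodule.span K {v} ↔ ∃ c : K, x = c • v := by
    intro v x
    rw [Submodule.mem_span_singleton]
    exact ⟨fun ⟨c, hc⟩ => ⟨c, hc.symm⟩, fun ⟨c, hc⟩ => ⟨c, hc.symm⟩⟩
  have hwdf : ∀ v x : V, (∀ u ∈ U, ρ u v = v) → (∀ u ∈ U, ρ u x - x ∈ Submodule.span K {v}) →
      ∀ u ∈ U, ad ρ u (wd B v x) = wd B v x := by
    intro v x hv hx u hu
    rw [ad_wd hρ, hv u hu]
    obtain ⟨c, hc⟩ := (hspan _ _).1 (hx u hu)
    rw [sub_eq_iff_eq_add] at hc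
    rw [hc, wd_add, wd_smul, wd_self, smul_zero, zero_add]
  have hwd0 : ∀ v x : V, v ≠ 0 → x ∉ Submodule.span K {v} → wd B v x ≠ 0 := by
    intro v x hv hx h
    exact hx ((hspan _ _).2 (of_wd_eq_zero hn hv h))
  have hspanU : ∀ v : V, (∀ u ∈ U, ρ u v = v) → ∀ g : U, ∀ s ∈ Submodule.span K {v},
      (ρ.comp U.subtype) g s ∈ Submodule.span K {v} := by
    intro v hv g s hs
    obtain ⟨c, rfl⟩ := (hspan _ _).1 hs
    change ρ (g : G) (c • v) ∈ _
    rw [map_smul, hv g g.2]
    exact (hspan _ _).2 ⟨c, rfl⟩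
  -- `v0` is singular
  have h00 : B v0 v0 = 0 := by
    by_contra hne
    obtain ⟨v1, hv1, hv1', hv1f⟩ := FIX (Submodule.span K {(0 : V)}) (LinearMap.ker ((B v0).prod (B v0))) (by
      exact hspanU 0 fun u _ => map_zero _) (by
      intro g s hs
      rw [mem_orth] at hs ⊢
      have := hker v0 hv0f g g.2 s hs.1
      exact ⟨this, this⟩) (exists_orth h4 v0 v0 0)
    have h0v1 : B v0 v1 = 0 := (mem_orth.1 hv1).1
    have hv10 : v1 ≠ 0 := fun h => hv1' (by rw [h]; exact Submodule.zero_mem _)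
    have hv1f' : ∀ u ∈ U, ρ u v1 = v1 := by
      intro u hu
      obtain ⟨c, hc⟩ := (hspan _ _).1 (hv1f ⟨u, hu⟩)
      rw [smul_zero, sub_eq_zero] at hc
      exact hc
    obtain ⟨x, hx, hx', hxf⟩ := FIX (Submodule.span K {v1}) (LinearMap.ker ((B v0).prod (B v1)))
      (hspanU v1 hv1f') (by
      intro g s hs
      rw [mem_orth] at hs ⊢
      exact ⟨hker v0 hv0f g g.2 s hs.1, hker v1 hv1f' g g.2 s hs.2⟩) (exists_orth h4 v0 v1 v1)
    have h0x : B v0 x = 0 := (mem_orth.1 hx).1
    have h01 : wd B v1 v0 ≠ 0 := by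
      refine hwd0 v1 v0 hv10 fun h => ?_
      obtain ⟨c, hc⟩ := (hspan _ _).1 h
      apply hne
      nth_rewrite 2 [hc]
      rw [map_smul, h0v1, smul_zero]
    obtain ⟨c, hc⟩ := hline (wd B v1 v0) (wd B v1 x) (sk_wd hs _ _)
      (hwdf v1 v0 hv1f' fun u hu => by rw [hv0f u hu, sub_self]; exact Submodule.zero_mem _) h01
      (sk_wd hs _ _) (hwdf v1 x hv1f' fun u hu => hxf ⟨u, hu⟩)
    have h3 : wd B v1 (x + (-c) • v0) = 0 := by
      rw [wd_add, wd_smul, hc, neg_smul, add_neg_cancel]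
    obtain ⟨k, hk⟩ := of_wd_eq_zero hn hv10 h3
    have h5 : B v0 (x + (-c) • v0) = 0 := by rw [hk, map_smul, h0v1, smul_zero]
    rw [map_add, h0x, map_smul, zero_add, smul_eq_mul, neg_mul, neg_eq_zero] at h5
    have hc0 : c = 0 := (mul_eq_zero.1 h5).resolve_right hne
    rw [hc0, neg_zero, zero_smul, add_zero] at hk
    exact hx' ((hspan _ _).2 ⟨k, hk⟩)
  -- `v1`
  obtain ⟨v1, hv1, hv1', hv1f⟩ := FIX (Submodule.span K {v0}) (LinearMap.ker ((B v0).prod (B v0)))
    (hspanU v0 hv0f) (by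
    intro g s hs
    rw [mem_orth] at hs ⊢
    have := hker v0 hv0f g g.2 s hs.1
    exact ⟨this, this⟩) (exists_orth h4 v0 v0 v0)
  have h01 : B v0 v1 = 0 := (mem_orth.1 hv1).1
  have h10 : B v1 v0 = 0 := by rw [hs, h01]
  have hw01 : wd B v0 v1 ≠ 0 := hwd0 v0 v1 hv0 hv1'
  have hf01 : ∀ u ∈ U, ad ρ u (wd B v0 v1) = wd B v0 v1 := hwdf v0 v1 hv0f fun u hu => hv1f ⟨u, hu⟩
  have h11 : B v1 v1 = 0 := by
    by_contra hne
    obtain ⟨x, hx, hx', hxf⟩ := FIX (Submodule.span K {v0}) (LinearMap.ker ((B v0).prod (B v1)))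
      (hspanU v0 hv0f) (by
      intro g s hs'
      rw [mem_orth] at hs' ⊢
      refine ⟨hker v0 hv0f g g.2 s hs'.1, ?_⟩
      obtain ⟨c, hc⟩ := (hspan _ _).1 (hv1f g⁻¹)
      have h6 : ρ (g : G)⁻¹ v1 = v1 + c • v0 := by
        rw [sub_eq_iff_eq_add'] at hc
        exact hc
      have h7 : B (ρ (g : G) s) v1 = B s (ρ (g : G)⁻¹ v1) := (adj hρ (g : G) s v1).symm
      change B v1 (ρ (g : G) s) = 0
      rw [hs, h7, h6, map_add, map_smul, smul_eq_mul, hs s v1, hs s v0, hs'.1, hs'.2, mul_zero, add_zero])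
      (exists_orth h4 v0 v1 v0)
    obtain ⟨c, hc⟩ := hline (wd B v0 v1) (wd B v0 x) (sk_wd hs _ _) hf01 hw01 (sk_wd hs _ _)
      (hwdf v0 x hv0f fun u hu => hxf ⟨u, hu⟩)
    have h3 : wd B v0 (x + (-c) • v1) = 0 := by
      rw [wd_add, wd_smul, hc, neg_smul, add_neg_cancel]
    obtain ⟨k, hk⟩ := of_wd_eq_zero hn hv0 h3
    have h5 : B v1 (x + (-c) • v1) = 0 := by rw [hk, map_smul, h10, smul_zero]
    rw [map_add, (mem_orth.1 hx).2, map_smul, zero_add, smul_eq_mul, neg_mul, neg_eq_zero] at h5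
    have hc0 : c = 0 := (mul_eq_zero.1 h5).resolve_right hne
    rw [hc0, neg_zero, zero_smul, add_zero] at hk
    exact hx' ((hspan _ _).2 ⟨k, hk⟩)
  -- `w0`
  have hw0f := (hfix w0).2 ⟨1, (one_smul K w0).symm⟩
  obtain ⟨c, hc⟩ := hline (wd B v0 v1) w0 (sk_wd hs _ _) hf01 hw01 hw0f.1 hw0f.2
  refine ⟨v0, c • v1, hv0, h00, by rw [map_smul, h01, smul_zero], by
    rw [map_smul, LinearMap.smul_apply, h10, smul_zero], by
    rw [map_smul, map_smul, LinearMap.smul_apply, h11, smul_zero, smul_zero], by rw [wd_smul, hc], ?_⟩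
  have hsq : w0 * w0 = 0 := by
    rw [hc, smul_mul_smul_comm, wd_mul_self h00 h01 h10 h11, smul_zero]
  intro z hz hz1 hzc
  have hX1 : Sk B (ρ z - ρ z⁻¹) := by
    intro x y
    rw [LinearMap.sub_apply, LinearMap.sub_apply, map_sub, map_sub, LinearMap.sub_apply, adj hρ z x y,
      ← adj hρ z⁻¹ x y, inv_inv]
    ring
  have hX2 : ∀ u ∈ U, ad ρ u (ρ z - ρ z⁻¹) = ρ z - ρ z⁻¹ := by
    intro u hu
    change ρ u * (ρ z - ρ z⁻¹) * ρ u⁻¹ = _
    have h5 : u * z * u⁻¹ = z := by rw [hzc u hu, mul_inv_cancel_right]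
    have h6 : u * z⁻¹ * u⁻¹ = z⁻¹ := by
      have := congrArg (·⁻¹) h5
      simpa only [mul_assoc, _root_.mul_inv_rev, _root_.inv_inv] using this
    rw [mul_sub, sub_mul, ← map_mul, ← map_mul, ← map_mul, ← map_mul, h5, h6]
  obtain ⟨d, hd⟩ := (hfix _).1 ⟨hX1, hX2⟩
  obtain ⟨m, hm⟩ := hU ⟨z, hz⟩
  have hm' : z ^ p ^ m = 1 := congrArg Subtype.val hm
  have hodd : Odd (p ^ m) := ((Fact.out : p.Prime).odd_of_ne_two hp).pow
  have hN := sq_eq_zero (ρ := ρ) h2 hodd hm' (by rw [hd, smul_mul_smul_comm, hsq, smul_zero])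
  have hzz : ρ z * ρ z⁻¹ = 1 := by rw [← map_mul, mul_inv_cancel, map_one]
  have hzz' : ρ z⁻¹ * ρ z = 1 := by rw [← map_mul, inv_mul_cancel, map_one]
  have hinv : ρ z⁻¹ = 1 - (ρ z - 1) := by
    have h5 : ρ z * (1 - (ρ z - 1)) = 1 := by
      have h6 : ρ z * (1 - (ρ z - 1)) = 1 - (ρ z - 1) * (ρ z - 1) := by noncomm_ring
      rw [h6, hN, sub_zero]
    calc ρ z⁻¹ = ρ z⁻¹ * (ρ z * (1 - (ρ z - 1))) := by rw [h5, mul_one]
      _ = 1 - (ρ z - 1) := by rw [← mul_assoc, hzz', one_mul]
  have h5 : (2 : K) • (ρ z - 1) = d • w0 := by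
    rw [← hd, hinv, two_smul]
    abel
  refine ⟨2⁻¹ * d, ?_, ?_⟩
  · intro h0
    have hd0 : d = 0 := (mul_eq_zero.1 h0).resolve_left (inv_ne_zero h2)
    rw [hd0, zero_smul] at h5
    have h6 := (smul_eq_zero.1 h5).resolve_left h2
    rw [sub_eq_zero] at h6
    exact hz1 (hinj (by rw [h6, map_one]))
  · rw [mul_smul, ← h5, smul_smul, inv_mul_cancel₀ h2, one_smul]
    abel

/-- **The field `ext` of `Fam`** for `W = 𝔰𝔬(V)` (`ι : W → End V` is the inclusion), the root element given as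
`v0 ∧ v1`. -/
theorem ext_so_fam {p : ℕ} [Fact p.Prime] [CharP K p] (hp : p ≠ 2) (h4 : 4 ≤ finrank K V)
    (hs : ∀ x y, B x y = B y x) (hn : ∀ u : V, (∀ x, B u x = 0) → u = 0) [Finite G]
    (hρ : ∀ g v w, B (ρ g v) (ρ g w) = B v w) (hinj : Function.Injective ρ) {W : Type v} [AddCommGroup W]
    [Module K W] {σ : G →* Module.End K W} (ι : W →ₗ[K] Module.End K V) (hι : Function.Injective ι)
    (hr : ∀ X, Sk B X ↔ ∃ w, ι w = X) (hσ : ∀ g w, ι (σ g w) = ad ρ g (ι w)) {U : Subgroup G}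
    (hU : IsPGroup p U) (hU1 : U ≠ ⊥) (w : W) (hw : w ≠ 0)
    (hfix : ∀ v : W, (∀ u ∈ U, σ u v = v) ↔ ∃ c : K, v = c • w) :
    ∃ z ∈ U, ∃ a : Module.End K V, a ≠ 0 ∧ a * a = 0 ∧ ρ z = 1 + a ∧
      (∀ b : G, ∀ c : K, σ b w = c • w → ad ρ b a = c • a) ∧
      ∃ v0 v1 : V, v0 ≠ 0 ∧ B v0 v0 = 0 ∧ B v0 v1 = 0 ∧ B v1 v0 = 0 ∧ B v1 v1 = 0 ∧ a = wd B v0 v1 := by
  have hw0 : ι w ≠ 0 := fun h => hw (hι (by rw [h, map_zero]))
  obtain ⟨v0, v1, hv0, h00, h01, h10, h11, hwd, hz⟩ := ext_so (w0 := ι w) hp h4 hs hn hρ hinj hU (by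
    intro X
    constructor
    · rintro ⟨hX, hXf⟩
      obtain ⟨x, rfl⟩ := (hr X).1 hX
      obtain ⟨c, hc⟩ := (hfix x).1 fun u hu => hι (by rw [hσ, hXf u hu])
      exact ⟨c, by rw [hc, map_smul]⟩
    · rintro ⟨c, rfl⟩
      rw [← map_smul]
      refine ⟨(hr _).2 ⟨_, rfl⟩, fun u hu => ?_⟩
      rw [← hσ, (hfix (c • w)).2 ⟨c, rfl⟩ u hu])
  have hntU : Nontrivial U := (Subgroup.nontrivial_iff_ne_bot U).2 hU1
  have hntZ := hU.center_nontrivial
  obtain ⟨⟨z, hzc⟩, hz1⟩ := exists_ne (1 : Subgroup.center U)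
  obtain ⟨c, hc0, hc⟩ := hz z z.2 (fun h => hz1 (Subtype.ext (Subtype.ext h))) (fun u hu =>
    congrArg Subtype.val (Subgroup.mem_center_iff.1 hzc ⟨u, hu⟩))
  have hsq : ι w * ι w = 0 := by rw [hwd, wd_mul_self h00 h01 h10 h11]
  refine ⟨z, z.2, c • ι w, smul_ne_zero hc0 hw0, by rw [smul_mul_smul_comm, hsq, smul_zero], hc, ?_,
    v0, c • v1, hv0, h00, by rw [map_smul, h01, smul_zero], by
    rw [map_smul, LinearMap.smul_apply, h10, smul_zero], by
    rw [map_smul, map_smul, LinearMap.smul_apply, h11, smul_zero, smul_zero], by rw [wd_smul, hwd]⟩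
  intro b d hb
  rw [map_smul, ← hσ, hb, map_smul, smul_comm]

end main

end Cfsg.Agent.H16.BR
end

-- part: H435/BR/Sub
section
/-!
# HUB BR: subquotient representations (helper435)

`S1`, `S2` invariant subspaces for `τ : G →* End U`.
* `subq τ S1 S2 h1 h2` : the representation on `S1 / (S1 ∩ S2)`; `subq_mk`;
* `irr_subq` : irreducible for all `M` with `Dns τ M`, if there is nothing between;
* `subq_eq_one`; `polyDeg_ad_subq` : for `τ = ad ρ`, degree two on the root groups.
-/

set_option autoImplicit false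
set_option linter.unusedSectionVars false

namespace Cfsg.Agent.H435.BR

open Module Cfsg.Agent.H883.BR

section gen

variable {K : Type*} [Field K] {U : Type*} [AddCommGroup U] [Module K U] {G : Type*} [Group G]
  (τ : G →* Module.End K U) (S1 S2 : Submodule K U)

/-- the underlying space of the subquotient -/
abbrev SubQ : Type _ := ↥S1 ⧸ S2.comap S1.subtype

variable {S1 S2} in
/-- the map on the subquotient -/
noncomputable def mq (f : Module.End K U) (h1 : ∀ X ∈ S1, f X ∈ S1) (h2 : ∀ X ∈ S2, f X ∈ S2) :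
    Module.End K (SubQ S1 S2) :=
  Submodule.mapQ (S2.comap S1.subtype) (S2.comap S1.subtype) (f.restrict h1)
    ((Submodule.map_le_iff_le_comap).1 (by
      rintro _ ⟨X, hX, rfl⟩
      exact h2 X.1 hX))

variable {S1 S2} in
theorem mq_mk {f : Module.End K U} (h1 : ∀ X ∈ S1, f X ∈ S1) (h2 : ∀ X ∈ S2, f X ∈ S2) (X : S1) :
    mq f h1 h2 (Submodule.Quotient.mk X) = Submodule.Quotient.mk ⟨f X, h1 X X.2⟩ := rfl

theorem subQ_surj (w : SubQ S1 S2) : ∃ X : S1, (Submodule.Quotient.mk X : SubQ S1 S2) = w :=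
  Submodule.Quotient.mk_surjective _ w

theorem subQ_mk_eq_zero (X : S1) : (Submodule.Quotient.mk X : SubQ S1 S2) = 0 ↔ (X : U) ∈ S2 := by
  rw [Submodule.Quotient.mk_eq_zero]
  rfl

variable (h1 : _root_.Cfsg.Agent.H883.BR.Inv τ ⊤ S1) (h2 : _root_.Cfsg.Agent.H883.BR.Inv τ ⊤ S2)

/-- the representation on `S1 / (S1 ∩ S2)` -/
noncomputable def subq : G →* Module.End K (SubQ S1 S2) where
  toFun g := mq (τ g) (h1 g trivial) (h2 g trivial)
  map_one' := by
    refine LinearMap.ext fun X => ?_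
    obtain ⟨X, rfl⟩ := subQ_surj S1 S2 X
    rw [mq_mk, Module.End.one_apply]
    refine congrArg _ (Subtype.ext ?_)
    change τ 1 X.1 = X.1
    rw [map_one]
    rfl
  map_mul' g h := by
    refine LinearMap.ext fun X => ?_
    obtain ⟨X, rfl⟩ := subQ_surj S1 S2 X
    rw [Module.End.mul_apply, mq_mk, mq_mk, mq_mk]
    refine congrArg _ (Subtype.ext ?_)
    change τ (g * h) X.1 = τ g (τ h X.1)
    rw [map_mul]
    rfl

variable {τ S1 S2}

theorem subq_mk (g : G) (X : S1) : subq τ S1 S2 h1 h2 g (Submodule.Quotient.mk X) =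
    Submodule.Quotient.mk ⟨τ g X, h1 g trivial X X.2⟩ := rfl

/-- **irreducibility for all dense subgroups** -/
theorem irr_subq (hne : ¬ S1 ≤ S2) (hmin : ∀ T : Submodule K U, _root_.Cfsg.Agent.H883.BR.Inv τ ⊤ T → T ≤ S1 → T ≤ S2 ∨ S1 ≤ T) {M : Subgroup G}
    (hM : Dns τ M) : Irr (V := SubQ S1 S2) (subq τ S1 S2 h1 h2) M := by
  constructor
  · obtain ⟨X, hX, hX2⟩ := SetLike.not_le_iff_exists.1 hne
    exact ⟨⟨Submodule.Quotient.mk ⟨X, hX⟩, 0, fun h => hX2 ((subQ_mk_eq_zero _ _ _).1 h)⟩⟩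
  · intro T hT
    -- the preimage of `T`
    let T' : Submodule K U := (T.comap (S2.comap S1.subtype).mkQ).map S1.subtype
    have hT' : ∀ X : S1, (Submodule.Quotient.mk X : SubQ S1 S2) ∈ T ↔ (X : U) ∈ T' := by
      intro X
      constructor
      · intro h
        exact ⟨X, h, rfl⟩
      · rintro ⟨Y, hY, hXY⟩
        have h3 : Y = X := Subtype.ext hXY
        rw [← h3]
        exact hY
    have hinv : _root_.Cfsg.Agent.H883.BR.Inv τ ⊤ T' := by
      apply hM
      rintro m hm _ ⟨X, hX, rfl⟩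
      exact (hT' ⟨τ m X, h1 m trivial X X.2⟩).1 (hT m hm _ hX)
    rcases hmin T' hinv (Submodule.map_subtype_le _ _) with h | h
    · left
      rw [eq_bot_iff]
      intro w hw
      obtain ⟨X, rfl⟩ := subQ_surj _ _ w
      rw [Submodule.mem_bot, subQ_mk_eq_zero]
      exact h ((hT' X).1 hw)
    · right
      rw [eq_top_iff]
      intro w _
      obtain ⟨X, rfl⟩ := subQ_surj _ _ w
      exact (hT' X).2 (h X.2)

theorem subq_eq_one {z : G} (hz : τ z = 1) : subq τ S1 S2 h1 h2 z = 1 := by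
  refine LinearMap.ext fun X => ?_
  obtain ⟨X, rfl⟩ := subQ_surj _ _ X
  rw [subq_mk]
  refine congrArg _ (Subtype.ext ?_)
  change τ z X.1 = X.1
  rw [hz]
  rfl

/-- polynomial families of endomorphisms whose coefficients preserve `S1`, `S2` -/
theorem polyDeg_subq {F : Subfield K} {I : Type*} {x : I → F → G} {e : ℕ}
    (hc : ∀ i, ∃ c : ℕ → Module.End K U, (∀ t : F, τ (x i t) = ∑ j ∈ Finset.range (e + 1), (t : K) ^ j • c j) ∧
      ∀ j, (∀ X ∈ S1, c j X ∈ S1) ∧ ∀ X ∈ S2, c j X ∈ S2) : PolyDeg (V := SubQ S1 S2) (subq τ S1 S2 h1 h2) F x e := by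
  intro i
  obtain ⟨c, hc, hS⟩ := hc i
  refine ⟨fun j => mq (c j) (hS j).1 (hS j).2, fun t => ?_⟩
  refine LinearMap.ext fun X => ?_
  obtain ⟨X, rfl⟩ := subQ_surj _ _ X
  rw [subq_mk, LinearMap.sum_apply]
  have h3 : ∀ j ∈ Finset.range (e + 1), ((t : K) ^ j • mq (c j) (hS j).1 (hS j).2) (Submodule.Quotient.mk X) =
      (S2.comap S1.subtype).mkQ ((t : K) ^ j • (⟨c j X, (hS j).1 X X.2⟩ : S1)) := by
    intro j _
    rw [LinearMap.smul_apply, mq_mk, map_smul, Submodule.mkQ_apply]
  rw [Finset.sum_congr rfl h3, ← map_sum, Submodule.mkQ_apply]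
  refine congrArg _ (Subtype.ext ?_)
  rw [AddSubmonoidClass.coe_finsetSum]
  change τ (x i t) X.1 = ∑ j ∈ Finset.range (e + 1), (t : K) ^ j • c j X.1
  rw [hc, LinearMap.sum_apply]
  rfl

end gen

section ad

variable {K : Type*} [Field K] {V : Type*} [AddCommGroup V] [Module K V] {G : Type*} [Group G]
  {ρ : G →* Module.End K V}

/-- central elements act trivially by conjugation -/
theorem ad_eq_one {z : G} {c : K} (hz : ρ z = c • 1) : ad ρ z = 1 := by
  refine LinearMap.ext fun X => ?_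
  rw [ad_apply, hz]
  have h1 : ρ z * ρ z⁻¹ = 1 := by rw [← map_mul, mul_inv_cancel, map_one]
  rw [hz, smul_mul_assoc, one_mul] at h1
  rw [smul_mul_assoc, one_mul, smul_mul_assoc, ← mul_smul_comm, h1, mul_one]
  rfl

/-- `X ↦ a X - X a` -/
def adL (a : Module.End K V) : Module.End K (Module.End K V) where
  toFun X := a * X - X * a
  map_add' X Y := by
    rw [mul_add, add_mul]
    abel
  map_smul' c X := by rw [mul_smul_comm, smul_mul_assoc, smul_sub, RingHom.id_apply]

/-- `X ↦ - a X a` -/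
def sqL (a : Module.End K V) : Module.End K (Module.End K V) where
  toFun X := -(a * X * a)
  map_add' X Y := by
    rw [mul_add, add_mul]
    abel
  map_smul' c X := by rw [mul_smul_comm, smul_mul_assoc, smul_neg, RingHom.id_apply]

/-- `ad ρ` has degree two on the root groups, with coefficients which preserve all invariant subspaces -/
theorem polyDeg_ad_subq {F : Subfield K} [Finite F] (h3 : 3 ≤ Nat.card F) {I : Type*} {x : I → F → G}
    {a : I → Module.End K V} (ha : ∀ i, a i * a i = 0) (hx : ∀ i t, ρ (x i t) = 1 + (t : K) • a i)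
    {S1 S2 : Submodule K (Module.End K V)} (h1 : _root_.Cfsg.Agent.H883.BR.Inv (ad ρ) ⊤ S1) (h2 : _root_.Cfsg.Agent.H883.BR.Inv (ad ρ) ⊤ S2) :
    PolyDeg (V := SubQ S1 S2) ((subq (ad ρ) S1 S2 h1 h2 :)) F x 2 := by
  refine polyDeg_subq h1 h2 fun i => ?_
  have hR : Rt ρ F ⊤ (a i) := ⟨ha i, fun t ht => ⟨x i ⟨t, ht⟩, trivial, hx i ⟨t, ht⟩⟩⟩
  refine ⟨fun j => if j = 0 then 1 else if j = 1 then adL (a i) else sqL (a i), fun t => ?_, fun j => ?_⟩
  · refine LinearMap.ext fun X => ?_
    rw [Finset.sum_range_succ, Finset.sum_range_succ, Finset.sum_range_one, pow_zero, pow_one, one_smul,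
      H168.BR.ad_root (ha i) (hx i t)]
    change _ = X + (t : K) • (a i * X - X * a i) + (t : K) ^ 2 • -(a i * X * a i)
    rw [smul_neg, sub_eq_add_neg, pow_two]
  · have key : ∀ S : Submodule K (Module.End K V), _root_.Cfsg.Agent.H883.BR.Inv (ad ρ) ⊤ S → ∀ X ∈ S,
        (if j = 0 then 1 else if j = 1 then adL (a i) else sqL (a i) : Module.End K (Module.End K V)) X ∈ S := by
      intro S hS X hX
      have h4 := H168.BR.root_mem h3 hS hR hX
      split_ifs
      · exact hX
      · exact h4.1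
      · exact S.neg_mem h4.2
    exact ⟨key S1 h1, key S2 h2⟩

end ad

end Cfsg.Agent.H435.BR
end

-- part: H435/BR/Pol
section
/-!
# HUB BR, orthogonal groups in characteristic two: the linear algebra of the root elements (helper435, task 5791)

`P` is the set of the non-zero singular vectors of an orthogonal space over the small field, `V` the space over the large field
`K`, `B` the polar form. `rt B u v = u ⊗ B(v,·) + v ⊗ B(u,·)`; the root elements are the `rt B u v` with `u, v ∈ P` orthogonal and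
independent (`IsRt`).

* `Pol.scalar` : `a X a = 0` for all root elements `a` implies that `X` is scalar;
* `Pol.irr` : a non-zero subspace invariant under all root elements is `V`;
* `Pol.all_of_not_scalar` : a root-closed `S ≤ Lam` which is not scalar contains all `rt B u x`, `u ∈ P`, `B u x = 0`;
* `Pol.finrank_Lam0` : `n (n - 1) / 2 ≤ dim Lam0 + 1`.
-/

set_option autoImplicit false
set_option linter.unusedSectionVars false

namespace Cfsg.Agent.H435.BR

variable {K V : Type*} [Field K] [AddCommGroup V] [Module K V]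

/-- `u ⊗ B(v,·) + v ⊗ B(u,·)` -/
def rt (B : LinearMap.BilinForm K V) (u v : V) : Module.End K V := (B v).smulRight u + (B u).smulRight v

theorem rt_apply (B : LinearMap.BilinForm K V) (u v x : V) : rt B u v x = B v x • u + B u x • v := rfl

theorem rt_comm (B : LinearMap.BilinForm K V) (u v : V) : rt B u v = rt B v u := by
  ext x
  rw [rt_apply, rt_apply, add_comm]

theorem rt_add (B : LinearMap.BilinForm K V) (u v w : V) : rt B u (v + w) = rt B u v + rt B u w := by
  ext x
  simp only [rt_apply, map_add, LinearMap.add_apply, smul_add, add_smul]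
  abel

theorem rt_smul (B : LinearMap.BilinForm K V) (u : V) (c : K) (v : V) : rt B u (c • v) = c • rt B u v := by
  ext x
  simp only [rt_apply, map_smul, LinearMap.smul_apply, smul_add, smul_smul, smul_eq_mul]
  rw [mul_comm c (B u x)]

theorem rt_smul_left (B : LinearMap.BilinForm K V) (c : K) (u v : V) : rt B (c • u) v = c • rt B u v := by
  rw [rt_comm, rt_smul, rt_comm]

/-- `rt B u` as a linear map -/
def rtL (B : LinearMap.BilinForm K V) (u : V) : V →ₗ[K] Module.End K V where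
  toFun := rt B u
  map_add' := rt_add B u
  map_smul' := rt_smul B u

/-- `u`, `v` orthogonal and independent members of `P` -/
structure TS (B : LinearMap.BilinForm K V) (P : Set V) (u v : V) : Prop where
  left : u ∈ P
  right : v ∈ P
  orth : B u v = 0
  ind : ∀ c : K, v ≠ c • u

/-- the root elements -/
def IsRt (B : LinearMap.BilinForm K V) (P : Set V) (a : Module.End K V) : Prop := ∃ u v : V, TS B P u v ∧ a = rt B u v

/-- alternating self-adjoint maps -/
def Lam (B : LinearMap.BilinForm K V) : Submodule K (Module.End K V) where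
  carrier := {X | (∀ v w, B (X v) w = B v (X w)) ∧ ∀ v, B v (X v) = 0}
  zero_mem' := ⟨fun v w => by simp only [_root_.LinearMap.zero_apply, _root_.map_zero], fun v => by simp⟩
  add_mem' := fun {X Y} hX hY => ⟨fun v w => by simp only [hX.1, hY.1, _root_.LinearMap.add_apply, _root_.map_add], fun v => by simp [hX.2, hY.2]⟩
  smul_mem' := fun c X hX => ⟨fun v w => by simp only [hX.1, _root_.LinearMap.smul_apply, _root_.map_smul, _root_.smul_eq_mul], fun v => by simp [hX.2]⟩

theorem mem_Lam {B : LinearMap.BilinForm K V} {X : Module.End K V} :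
    X ∈ Lam B ↔ (∀ v w, B (X v) w = B v (X w)) ∧ ∀ v, B v (X v) = 0 := Iff.rfl

/-- the span of the root elements -/
def Lam0 (B : LinearMap.BilinForm K V) (P : Set V) : Submodule K (Module.End K V) := Submodule.span K {a | IsRt B P a}

/-- closed under `X ↦ a X - X a`, `X ↦ a X a`, for the root elements `a` -/
structure RtClosed (B : LinearMap.BilinForm K V) (P : Set V) (S : Submodule K (Module.End K V)) : Prop where
  br : ∀ a, IsRt B P a → ∀ X ∈ S, a * X - X * a ∈ S
  sq : ∀ a, IsRt B P a → ∀ X ∈ S, a * X * a ∈ S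

/-- **the geometry** -/
structure Pol (B : LinearMap.BilinForm K V) (P : Set V) : Prop where
  two : (2 : K) = 0
  alt : ∀ v, B v v = 0
  symm : ∀ v w, B v w = B w v
  nd : ∀ x, (∀ y, B y x = 0) → x = 0
  ne : ∀ u ∈ P, u ≠ 0
  nonempty : P.Nonempty
  span : Submodule.span K P = ⊤
  span1 : ∀ u ∈ P, ∀ x, B u x = 0 → x ∈ Submodule.span K {w | w ∈ P ∧ B u w = 0}
  span2 : ∀ u v, TS B P u v → ∀ x, B u x = 0 → B v x = 0 → x ∈ Submodule.span K {w | w ∈ P ∧ B u w = 0 ∧ B v w = 0}
  link : ∀ u ∈ P, ∀ v ∈ P, ∃ w ∈ P, B u w = 0 ∧ B v w = 0 ∧ (∀ c : K, w ≠ c • u) ∧ ∀ c : K, w ≠ c • v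
  link2 : ∀ u v, TS B P u v → ∃ w ∈ P, B u w = 0 ∧ B v w = 0 ∧ ∀ c d : K, w ≠ c • u + d • v
  add : ∀ u v, TS B P u v → u + v ∈ P

namespace Pol

variable {B : LinearMap.BilinForm K V} {P : Set V} (h : Pol B P)

include h

theorem add_self (x : K) : x + x = 0 := by rw [← two_mul, h.two, zero_mul]

theorem rt_self (u : V) : rt B u u = 0 := by
  ext x
  rw [rt_apply, ← two_smul K, h.two, zero_smul]
  rfl

theorem orth_comm {u v : V} (huv : B u v = 0) : B v u = 0 := by rw [h.symm, huv]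

theorem ts_symm {u v : V} (ht : TS B P u v) : TS B P v u := by
  refine ⟨ht.right, ht.left, h.orth_comm ht.orth, fun c hc => ?_⟩
  by_cases hc0 : c = 0
  · rw [hc0, zero_smul] at hc
    exact h.ne u ht.left hc
  · apply ht.ind c⁻¹
    rw [hc, smul_smul, inv_mul_cancel₀ hc0, one_smul]

omit h in
/-- `{z | B z x = 0}` -/
def orthS (B : LinearMap.BilinForm K V) (x : V) : Submodule K V where
  carrier := {z | B z x = 0}
  zero_mem' := by simp only [_root_.Set.mem_ofPred_eq, _root_.map_zero, _root_.LinearMap.zero_apply]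
  add_mem' := fun {a b} ha hb => by
    simp only [Set.mem_ofPred_eq, map_add, LinearMap.add_apply] at ha hb ⊢
    rw [ha, hb, add_zero]
  smul_mem' := fun c a ha => by
    simp only [Set.mem_ofPred_eq, map_smul, LinearMap.smul_apply, smul_eq_mul] at ha ⊢
    rw [ha, mul_zero]

/-- a vector orthogonal to `P` is zero -/
theorem eq_zero_of_orth {x : V} (hx : ∀ w ∈ P, B w x = 0) : x = 0 := by
  have h1 : Submodule.span K P ≤ orthS B x := Submodule.span_le.2 fun w hw => hx w hw
  rw [h.span] at h1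
  exact h.nd x fun y => h1 (Submodule.mem_top (x := y))

/-- a vector orthogonal to `P ∩ u^⊥` is a multiple of `u` -/
theorem mem_of_orth1 {u x : V} (hu : u ∈ P) (hx : ∀ w ∈ P, B u w = 0 → B w x = 0) : ∃ c : K, x = c • u := by
  obtain ⟨y, hy⟩ : ∃ y, B y u ≠ 0 := by
    by_contra hcon
    push Not at hcon
    exact h.ne u hu (h.nd u hcon)
  have hy' : B u y ≠ 0 := by rwa [h.symm]
  have h1 : ∀ z, B u z = 0 → B z x = 0 := fun z hz =>
    (Submodule.span_le.2 (fun w hw => hx w hw.1 hw.2) : _ ≤ orthS B x) (h.span1 u hu z hz)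
  refine ⟨(B u y)⁻¹ * B y x, ?_⟩
  rw [← sub_eq_zero]
  apply h.nd
  intro z
  have h2 := h1 (z - ((B u y)⁻¹ * B u z) • y) (by
    rw [map_sub, map_smul, smul_eq_mul, mul_comm (B u y)⁻¹, mul_assoc, inv_mul_cancel₀ hy', mul_one, sub_self])
  rw [map_sub, LinearMap.sub_apply, map_smul, LinearMap.smul_apply, smul_eq_mul, sub_eq_zero] at h2
  rw [map_sub, map_smul, smul_eq_mul, h2, h.symm z u]
  ring

/-- there is `y ∈ P` orthogonal to `u` and not to `v` -/
theorem exists_not_orth {u v : V} (hu : u ∈ P) (hv : ∀ c : K, v ≠ c • u) : ∃ y ∈ P, B u y = 0 ∧ B y v ≠ 0 := by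
  by_contra hcon
  push Not at hcon
  obtain ⟨c, hc⟩ := h.mem_of_orth1 hu (x := v) (fun w hw hw' => hcon w hw hw')
  exact hv c hc

/-- a vector orthogonal to `P ∩ ⟨u,v⟩^⊥` lies in `⟨u,v⟩` -/
theorem mem_of_orth2 {u v x : V} (ht : TS B P u v) (hx : ∀ w ∈ P, B u w = 0 → B v w = 0 → B w x = 0) :
    ∃ c d : K, x = c • u + d • v := by
  -- dual vectors
  obtain ⟨y, hyP, hy1, hy2⟩ := h.exists_not_orth ht.left ht.ind
  obtain ⟨z, hzP, hz1, hz2⟩ := h.exists_not_orth (h.ts_symm ht).left (h.ts_symm ht).ind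
  -- `B u y = 0`, `B y v ≠ 0`, `B v z = 0`, `B z u ≠ 0`
  have h1 : ∀ w, B u w = 0 → B v w = 0 → B w x = 0 := fun w hw hw' =>
    (Submodule.span_le.2 (fun w hw => hx w hw.1 hw.2.1 hw.2.2) : _ ≤ orthS B x) (h.span2 u v ht w hw hw')
  refine ⟨(B z u)⁻¹ * B z x, (B y v)⁻¹ * B y x, ?_⟩
  rw [← sub_eq_zero]
  apply h.nd
  intro w
  have h2 := h1 (w - ((B y v)⁻¹ * B v w) • y - ((B z u)⁻¹ * B u w) • z) (by
    rw [map_sub, map_sub, map_smul, map_smul, hy1, smul_zero, sub_zero, smul_eq_mul, h.symm u z, mul_comm (B z u)⁻¹,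
      mul_assoc, inv_mul_cancel₀ hz2, mul_one, sub_self]) (by
    rw [map_sub, map_sub, map_smul, map_smul, hz1, smul_zero, sub_zero, smul_eq_mul, h.symm v y, mul_comm (B y v)⁻¹,
      mul_assoc, inv_mul_cancel₀ hy2, mul_one, sub_self])
  rw [map_sub, map_sub, LinearMap.sub_apply, LinearMap.sub_apply, map_smul, map_smul, LinearMap.smul_apply,
    LinearMap.smul_apply, smul_eq_mul, smul_eq_mul, sub_sub, sub_eq_zero] at h2
  rw [map_sub, map_add, map_smul, map_smul, smul_eq_mul, smul_eq_mul, h2, h.symm w u, h.symm w v]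
  ring

/-- **`a X a = 0` for all root elements implies that `X` is scalar** -/
theorem scalar_of_orth {X : Module.End K V} (hX : ∀ u v, TS B P u v → B v (X u) = 0) (hX' : ∀ u ∈ P, B u (X u) = 0) :
    ∃ c : K, X = c • 1 := by
  have h1 : ∀ u ∈ P, ∃ c : K, X u = c • u := by
    intro u hu
    refine h.mem_of_orth1 hu fun w hw huw => ?_
    by_cases hc : ∃ c : K, w = c • u
    · obtain ⟨c, rfl⟩ := hc
      rw [map_smul, LinearMap.smul_apply, hX' u hu, smul_zero]
    · push Not at hc
      exact hX u w ⟨hu, hw, huw, hc⟩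
  have h2 : ∀ u v, TS B P u v → ∀ c d : K, X u = c • u → X v = d • v → c = d := by
    intro u v ht c d hc hd
    obtain ⟨e, he⟩ := h1 (u + v) (h.add u v ht)
    rw [map_add, hc, hd, smul_add] at he
    have h3 : (d - e) • v = (e - c) • u := by
      rw [sub_smul, sub_smul, sub_eq_sub_iff_add_eq_add, add_comm, he]
    have h4 : d - e = 0 := by
      by_contra hne
      apply ht.ind ((d - e)⁻¹ * (e - c))
      rw [mul_smul, ← h3, smul_smul, inv_mul_cancel₀ hne, one_smul]
    rw [h4, zero_smul] at h3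
    have h5 : e - c = 0 := by
      by_contra hne
      rcases smul_eq_zero.1 h3.symm with h6 | h6
      · exact hne h6
      · exact h.ne u ht.left h6
    rw [← sub_eq_zero.1 h5, sub_eq_zero.1 h4]
  obtain ⟨u₀, hu₀⟩ := h.nonempty
  obtain ⟨c, hc⟩ := h1 u₀ hu₀
  have h3 : ∀ v ∈ P, X v = c • v := by
    intro v hv
    obtain ⟨w, hw, huw, hvw, hwu, hwv⟩ := h.link u₀ hu₀ v hv
    obtain ⟨d, hd⟩ := h1 v hv
    obtain ⟨e, he⟩ := h1 w hw
    have h4 := h2 u₀ w ⟨hu₀, hw, huw, hwu⟩ c e hc he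
    have h5 := h2 v w ⟨hv, hw, hvw, hwv⟩ d e hd he
    rw [hd, h5, h4]
  refine ⟨c, ?_⟩
  have h4 : Submodule.span K P ≤ LinearMap.ker (X - c • (1 : Module.End K V)) := by
    refine Submodule.span_le.2 fun v hv => ?_
    rw [SetLike.mem_coe, LinearMap.mem_ker, LinearMap.sub_apply, h3 v hv]
    simp
  rw [h.span] at h4
  rw [← sub_eq_zero]
  ext v
  exact h4 (Submodule.mem_top (x := v))

/-- the product `a X a` -/
theorem rt_mul (u v : V) (X : Module.End K V) (w : V) : (rt B u v * X * rt B u v) w =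
    (B v w * B v (X u) + B u w * B v (X v)) • u + (B v w * B u (X u) + B u w * B u (X v)) • v := by
  rw [Module.End.mul_apply, Module.End.mul_apply, rt_apply B u v w, map_add, map_smul, map_smul, map_add, map_smul,
    map_smul, rt_apply, rt_apply]
  module

/-- **`a X a = 0` for all root elements implies that `X` is scalar** -/
theorem scalar {X : Module.End K V} (hX : ∀ a, IsRt B P a → a * X * a = 0) : ∃ c : K, X = c • 1 := by
  have key : ∀ u v, TS B P u v → B v (X u) = 0 ∧ B u (X u) = 0 := by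
    intro u v ht
    have h0 := hX _ ⟨u, v, ht, rfl⟩
    -- a vector `w` with `B u w = 0`, `B v w ≠ 0`
    obtain ⟨w, hwP, hw1, hw2⟩ := h.exists_not_orth ht.left ht.ind
    have hw2' : B v w ≠ 0 := by rwa [h.symm]
    have h1 := h.rt_mul u v X w
    rw [h0, hw1, zero_mul, zero_mul, add_zero, add_zero, LinearMap.zero_apply] at h1
    have h2 : B v w * B u (X u) = 0 := by
      by_contra hne
      apply ht.ind (-((B v w * B u (X u))⁻¹ * (B v w * B v (X u))))
      have h3 : (B v w * B u (X u)) • v = -((B v w * B v (X u)) • u) := eq_neg_of_add_eq_zero_right h1.symm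
      rw [neg_smul, mul_smul, ← smul_neg, ← h3, smul_smul, inv_mul_cancel₀ hne, one_smul]
    rw [h2, zero_smul, add_zero] at h1
    refine ⟨?_, (mul_eq_zero.1 h2).resolve_left hw2'⟩
    rcases smul_eq_zero.1 h1.symm with h3 | h3
    · exact (mul_eq_zero.1 h3).resolve_left hw2'
    · exact absurd h3 (h.ne u ht.left)
  refine h.scalar_of_orth (fun u v ht => (key u v ht).1) fun u hu => ?_
  obtain ⟨w, hw, huw, -, hwu, -⟩ := h.link u hu u hu
  exact (key u w ⟨hu, hw, huw, hwu⟩).2

/-- `a X a` for `X ∈ Lam` -/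
theorem rt_mul_Lam {X : Module.End K V} (hX : X ∈ Lam B) (u v : V) : rt B u v * X * rt B u v = B u (X v) • rt B u v := by
  ext w
  rw [h.rt_mul, hX.2 u, hX.2 v, mul_zero, mul_zero, add_zero, zero_add, LinearMap.smul_apply, rt_apply, smul_add,
    smul_smul, smul_smul, ← hX.1 u v, h.symm v (X u), mul_comm, mul_comm (B u w)]

/-- root elements are in `Lam` -/
theorem rt_mem_Lam (u v : V) : rt B u v ∈ Lam B := by
  refine ⟨fun x y => ?_, fun x => ?_⟩
  · simp only [rt_apply, rt_apply, map_add, map_add, LinearMap.add_apply, map_smul, map_smul, map_smul, map_smul,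
      LinearMap.smul_apply, LinearMap.smul_apply, smul_eq_mul, smul_eq_mul, smul_eq_mul, smul_eq_mul, h.symm x u,
      h.symm x v]
    ring
  · rw [rt_apply, map_add, map_smul, map_smul, smul_eq_mul, smul_eq_mul, h.symm x u, h.symm x v, mul_comm (B v x),
      h.add_self]

/-- the bracket of two root elements -/
theorem bracket {u v w y : V} (hwu : B w u = 0) (hyu : B y u = 0) (hwv : B w v = 0) :
    rt B w y * rt B u v - rt B u v * rt B w y = B y v • rt B u w := by
  ext x
  rw [LinearMap.sub_apply, Module.End.mul_apply, Module.End.mul_apply, rt_apply B u v x, rt_apply B w y x, map_add,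
    map_smul, map_smul, rt_apply B w y u, rt_apply B w y v, hwu, hyu, hwv, map_add, map_smul, map_smul,
    rt_apply B u v w, rt_apply B u v y, h.orth_comm hwv, h.orth_comm hwu, h.orth_comm hyu, LinearMap.smul_apply,
    rt_apply, h.symm v y, ← sub_add_cancel (0 : K) 0]
  have e : ∀ z : V, -z = z := by
    intro z
    have h1 : (2 : K) • z = 0 := by rw [h.two, zero_smul]
    rw [two_smul] at h1
    exact neg_eq_of_add_eq_zero_left h1
  rw [sub_eq_add_neg, e]
  simp only [sub_self, zero_add, zero_smul, smul_zero, add_zero, smul_add, smul_smul]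
  rw [mul_comm (B u x), mul_comm (B w x)]
  abel

/-- `rt B u x ∈ Lam0` for `u ∈ P`, `x ⊥ u` -/
theorem rt_mem_Lam0 {u x : V} (hu : u ∈ P) (hx : B u x = 0) : rt B u x ∈ Lam0 B P := by
  have h1 := h.span1 u hu x hx
  have h2 : Submodule.span K {w | w ∈ P ∧ B u w = 0} ≤ (Lam0 B P).comap (rtL B u) := by
    refine Submodule.span_le.2 fun w hw => ?_
    change rt B u w ∈ Lam0 B P
    by_cases hc : ∃ c : K, w = c • u
    · obtain ⟨c, rfl⟩ := hc
      rw [rt_smul, h.rt_self, smul_zero]
      exact zero_mem _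
    · push Not at hc
      exact Submodule.subset_span ⟨u, w, ⟨hu, hw.1, hw.2, hc⟩, rfl⟩
  exact h2 h1

theorem Lam0_le_Lam : Lam0 B P ≤ Lam B := by
  refine Submodule.span_le.2 ?_
  rintro _ ⟨u, v, -, rfl⟩
  exact h.rt_mem_Lam u v

/-- one root element gives all those with the same first vector -/
theorem all_left {S : Submodule K (Module.End K V)} (hS : RtClosed B P S) {u v : V} (ht : TS B P u v)
    (hm : rt B u v ∈ S) : ∀ x, B u x = 0 → rt B u x ∈ S := by
  -- step 1
  have h1 : ∀ w ∈ P, B u w = 0 → B v w = 0 → rt B u w ∈ S := by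
    intro w hw huw hvw
    by_cases hc : ∃ c d : K, w = c • u + d • v
    · obtain ⟨c, d, rfl⟩ := hc
      rw [rt_add, rt_smul, rt_smul, h.rt_self, smul_zero, zero_add]
      exact S.smul_mem d hm
    · push Not at hc
      have hwu : ∀ c : K, w ≠ c • u := fun c hc' => hc c 0 (by rw [zero_smul, add_zero, hc'])
      have htw : TS B P u w := ⟨ht.left, hw, huw, hwu⟩
      -- `y ∈ P` orthogonal to `u`, `w`, not to `v`
      obtain ⟨y, hy, huy, hwy, hyv⟩ : ∃ y ∈ P, B u y = 0 ∧ B w y = 0 ∧ B y v ≠ 0 := by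
        by_contra hcon
        push Not at hcon
        obtain ⟨c, d, hcd⟩ := h.mem_of_orth2 htw (x := v) hcon
        have hd : d ≠ 0 := by
          rintro rfl
          rw [zero_smul, add_zero] at hcd
          exact ht.ind c hcd
        apply hc (-(d⁻¹ * c)) d⁻¹
        rw [hcd, smul_add, smul_smul, smul_smul, inv_mul_cancel₀ hd, one_smul, neg_smul, neg_add_cancel_left]
      have hyw : ∀ c : K, y ≠ c • w := by
        rintro c rfl
        apply hyv
        rw [map_smul, LinearMap.smul_apply, h.orth_comm hvw, smul_zero]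
      have h2 := hS.br _ ⟨w, y, ⟨hw, hy, hwy, hyw⟩, rfl⟩ _ hm
      rw [h.bracket (h.orth_comm huw) (h.orth_comm huy) (h.orth_comm hvw)] at h2
      have h3 := S.smul_mem (B y v)⁻¹ h2
      rwa [smul_smul, inv_mul_cancel₀ hyv, one_smul] at h3
  -- step 2
  have h2 : ∀ v, TS B P u v → (∀ w ∈ P, B u w = 0 → B v w = 0 → rt B u w ∈ S) →
      ∀ x, B u x = 0 → B v x = 0 → rt B u x ∈ S := by
    intro v ht hv x hux hvx
    have h3 := h.span2 u v ht x hux hvx
    have h4 : Submodule.span K {w | w ∈ P ∧ B u w = 0 ∧ B v w = 0} ≤ S.comap (rtL B u) :=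
      Submodule.span_le.2 fun w hw => hv w hw.1 hw.2.1 hw.2.2
    exact h4 h3
  have h3 := h2 v ht h1
  -- step 3
  obtain ⟨w, hw, huw, hvw, hc⟩ := h.link2 u v ht
  have hwu : ∀ c : K, w ≠ c • u := fun c hc' => hc c 0 (by rw [zero_smul, add_zero, hc'])
  have htw : TS B P u w := ⟨ht.left, hw, huw, hwu⟩
  have hmw := h1 w hw huw hvw
  have h1' : ∀ z ∈ P, B u z = 0 → B w z = 0 → rt B u z ∈ S := by
    intro z hz huz hwz
    -- the same argument with `w` instead of `v`
    by_cases hcz : ∃ c d : K, z = c • u + d • w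
    · obtain ⟨c, d, rfl⟩ := hcz
      rw [rt_add, rt_smul, rt_smul, h.rt_self, smul_zero, zero_add]
      exact S.smul_mem d hmw
    · push Not at hcz
      have hzu : ∀ c : K, z ≠ c • u := fun c hc' => hcz c 0 (by rw [zero_smul, add_zero, hc'])
      have htz : TS B P u z := ⟨ht.left, hz, huz, hzu⟩
      obtain ⟨y, hy, huy, hzy, hyw⟩ : ∃ y ∈ P, B u y = 0 ∧ B z y = 0 ∧ B y w ≠ 0 := by
        by_contra hcon
        push Not at hcon
        obtain ⟨c, d, hcd⟩ := h.mem_of_orth2 htz (x := w) hcon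
        have hd : d ≠ 0 := by
          rintro rfl
          rw [zero_smul, add_zero] at hcd
          exact htw.ind c hcd
        apply hcz (-(d⁻¹ * c)) d⁻¹
        rw [hcd, smul_add, smul_smul, smul_smul, inv_mul_cancel₀ hd, one_smul, neg_smul, neg_add_cancel_left]
      have hyz : ∀ c : K, y ≠ c • z := by
        rintro c rfl
        apply hyw
        rw [map_smul, LinearMap.smul_apply, h.orth_comm hwz, smul_zero]
      have h2 := hS.br _ ⟨z, y, ⟨hz, hy, hzy, hyz⟩, rfl⟩ _ hmw
      rw [h.bracket (h.orth_comm huz) (h.orth_comm huy) (h.orth_comm hwz)] at h2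
      have h3 := S.smul_mem (B y w)⁻¹ h2
      rwa [smul_smul, inv_mul_cancel₀ hyw, one_smul] at h3
  have h4 := h2 w htw h1'
  intro x hx
  -- `y ∈ P` orthogonal to `u`, `w`, not to `v`
  obtain ⟨y, hy, huy, hwy, hyv⟩ : ∃ y ∈ P, B u y = 0 ∧ B w y = 0 ∧ B y v ≠ 0 := by
    by_contra hcon
    push Not at hcon
    obtain ⟨c, d, hcd⟩ := h.mem_of_orth2 htw (x := v) hcon
    have hd : d ≠ 0 := by
      rintro rfl
      rw [zero_smul, add_zero] at hcd
      exact ht.ind c hcd
    apply hc (-(d⁻¹ * c)) d⁻¹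
    rw [hcd, smul_add, smul_smul, smul_smul, inv_mul_cancel₀ hd, one_smul, neg_smul, neg_add_cancel_left]
  have e1 : x = (x - ((B y v)⁻¹ * B v x) • y) + ((B y v)⁻¹ * B v x) • y := by rw [sub_add_cancel]
  rw [e1, rt_add]
  refine S.add_mem (h3 _ ?_ ?_) (h4 _ ?_ ?_)
  · rw [map_sub, map_smul, hx, huy, smul_zero, sub_zero]
  · rw [map_sub, map_smul, h.symm v y, smul_eq_mul, mul_comm (B y v)⁻¹, mul_assoc, inv_mul_cancel₀ hyv, mul_one,
      sub_self]
  · rw [map_smul, huy, smul_zero]
  · rw [map_smul, hwy, smul_zero]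

/-- **a root-closed subspace of `Lam` which is not scalar contains all root elements** -/
theorem all_of_not_scalar {S : Submodule K (Module.End K V)} (hS : RtClosed B P S) (hSL : S ≤ Lam B)
    (hns : ¬ ∀ X ∈ S, ∃ c : K, X = c • 1) : ∀ u ∈ P, ∀ x, B u x = 0 → rt B u x ∈ S := by
  push Not at hns
  obtain ⟨X, hX, hXs⟩ := hns
  -- some root element
  obtain ⟨u, v, ht, hm⟩ : ∃ u v, TS B P u v ∧ rt B u v ∈ S := by
    by_contra hcon
    push Not at hcon
    obtain ⟨c, hc⟩ := h.scalar (X := X) (by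
      rintro _ ⟨u, v, ht, rfl⟩
      rw [h.rt_mul_Lam (hSL hX)]
      by_cases h0 : B u (X v) = 0
      · rw [h0, zero_smul]
      · exfalso
        apply hcon u v ht
        have h1 := hS.sq _ ⟨u, v, ht, rfl⟩ X hX
        rw [h.rt_mul_Lam (hSL hX)] at h1
        have h2 := S.smul_mem (B u (X v))⁻¹ h1
        rwa [smul_smul, inv_mul_cancel₀ h0, one_smul] at h2)
    exact hXs c hc
  -- neighbours
  have hstep : ∀ u w, TS B P u w → (∀ x, B u x = 0 → rt B u x ∈ S) → ∀ x, B w x = 0 → rt B w x ∈ S := by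
    intro u w ht hu
    have h1 := hu w ht.orth
    rw [rt_comm] at h1
    exact h.all_left hS (h.ts_symm ht) h1
  have h0 := h.all_left hS ht hm
  intro z hz
  obtain ⟨w, hw, huw, hzw, hwu, hwz⟩ := h.link u ht.left z hz
  exact hstep w z (h.ts_symm ⟨hz, hw, hzw, hwz⟩) (hstep u w ⟨ht.left, hw, huw, hwu⟩ h0)

theorem Lam0_le_of_not_scalar {S : Submodule K (Module.End K V)} (hS : RtClosed B P S) (hSL : S ≤ Lam B)
    (hns : ¬ ∀ X ∈ S, ∃ c : K, X = c • 1) : Lam0 B P ≤ S := by
  refine Submodule.span_le.2 ?_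
  rintro _ ⟨u, v, ht, rfl⟩
  exact h.all_of_not_scalar hS hSL hns u ht.left v ht.orth

/-- modulo `Lam0`, `rt B x y` is `B x y` times a constant -/
theorem rt_sub_mem {e f : V} (he : e ∈ P) (hf : f ∈ P) (hef : B e f ≠ 0) (x y : V) :
    rt B x y - ((B e f)⁻¹ * B x y) • rt B e f ∈ Lam0 B P := by
  set N := Lam0 B P with hN
  set H := rt B e f with hH
  have hN0 : ∀ u ∈ P, ∀ x, B u x = 0 → rt B u x ∈ N := fun u hu x hx => h.rt_mem_Lam0 hu hx
  -- propagation
  have hprop : ∀ u ∈ P, ∀ v, B u v ≠ 0 → rt B u v - ((B e f)⁻¹ * B u v) • H ∈ N →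
      ∀ x, rt B u x - ((B e f)⁻¹ * B u x) • H ∈ N := by
    intro u hu v huv hm x
    have h1 := hN0 u hu (x - ((B u v)⁻¹ * B u x) • v) (by
      rw [map_sub, map_smul, smul_eq_mul, mul_comm (B u v)⁻¹, mul_assoc, inv_mul_cancel₀ huv, mul_one, sub_self])
    have h2 := N.add_mem h1 (N.smul_mem ((B u v)⁻¹ * B u x) hm)
    have e1 : x = (x - ((B u v)⁻¹ * B u x) • v) + ((B u v)⁻¹ * B u x) • v := by rw [sub_add_cancel]
    have e2 : rt B u x = rt B u (x - ((B u v)⁻¹ * B u x) • v) + ((B u v)⁻¹ * B u x) • rt B u v := by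
      conv_lhs => rw [e1, rt_add, rt_smul]
    have e3 : (B e f)⁻¹ * B u x = ((B u v)⁻¹ * B u x) * ((B e f)⁻¹ * B u v) := by
      rw [mul_comm (B u v)⁻¹, mul_assoc, mul_left_comm (B u v)⁻¹, inv_mul_cancel₀ huv]
      ring
    rw [e2, add_sub_assoc, e3, mul_smul _ _ H, ← smul_sub]
    exact h2
  have hgood : ∀ u ∈ P, ∀ v ∈ P, B u v ≠ 0 → (∀ x, rt B u x - ((B e f)⁻¹ * B u x) • H ∈ N) →
      ∀ x, rt B v x - ((B e f)⁻¹ * B v x) • H ∈ N := by
    intro u hu v hv huv hg
    refine hprop v hv u (by rwa [h.symm]) ?_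
    rw [rt_comm, h.symm v u]
    exact hg v
  have ge : ∀ x, rt B e x - ((B e f)⁻¹ * B e x) • H ∈ N := by
    refine hprop e he f hef ?_
    rw [inv_mul_cancel₀ hef, one_smul, sub_self]
    exact zero_mem _
  have gf : ∀ x, rt B f x - ((B e f)⁻¹ * B f x) • H ∈ N := hgood e he f hf hef ge
  have hall : ∀ u ∈ P, ∀ x, rt B u x - ((B e f)⁻¹ * B u x) • H ∈ N := by
    intro u hu
    by_cases hue : B e u = 0
    · by_cases hc : ∃ c : K, u = c • e
      · obtain ⟨c, rfl⟩ := hc
        intro x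
        have h1 := N.smul_mem c (ge x)
        rw [smul_sub, smul_smul] at h1
        rw [rt_smul_left, map_smul, LinearMap.smul_apply, smul_eq_mul, mul_left_comm]
        exact h1
      · push Not at hc
        by_cases hfu : B f u = 0
        · -- `e + u`
          have heu := h.add e u ⟨he, hu, hue, hc⟩
          have g1 : ∀ x, rt B (e + u) x - ((B e f)⁻¹ * B (e + u) x) • H ∈ N := by
            refine hgood f hf _ heu ?_ gf
            rw [map_add, hfu, add_zero, h.symm]
            exact hef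
          obtain ⟨y, hy, hyu⟩ : ∃ y ∈ P, B y u ≠ 0 := by
            by_contra hcon
            push Not at hcon
            exact h.ne u hu (h.eq_zero_of_orth hcon)
          have gy : ∀ x, rt B y x - ((B e f)⁻¹ * B y x) • H ∈ N := by
            by_cases hey : B e y = 0
            · refine hgood _ heu y hy ?_ g1
              rw [map_add, LinearMap.add_apply, hey, zero_add, h.symm]
              exact hyu
            · exact hgood e he y hy hey ge
          exact hgood y hy u hu hyu gy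
        · exact hgood f hf u hu hfu gf
    · exact hgood e he u hu hue ge
  have h1 : Submodule.span K P ≤ N.comap (rtL B y - ((B e f)⁻¹ • (B y).smulRight H)) := by
    refine Submodule.span_le.2 fun u hu => ?_
    have h2 := hall u hu y
    rw [rt_comm, h.symm u y, mul_smul] at h2
    exact h2
  rw [h.span] at h1
  have h2 : rt B y x - ((B e f)⁻¹ • (B y x • H)) ∈ N := h1 (Submodule.mem_top (x := x))
  rwa [rt_comm, smul_smul, h.symm y x] at h2

theorem exists_pair : ∃ e ∈ P, ∃ f ∈ P, B e f ≠ 0 := by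
  obtain ⟨e, he⟩ := h.nonempty
  obtain ⟨f, hf, hfe⟩ : ∃ f ∈ P, B f e ≠ 0 := by
    by_contra hcon
    push Not at hcon
    exact h.ne e he (h.eq_zero_of_orth hcon)
  exact ⟨e, he, f, hf, by rwa [h.symm]⟩

/-- `rt B x y ∈ Lam0` for all orthogonal `x`, `y` -/
theorem rt_mem_of_orth {x y : V} (hxy : B x y = 0) : rt B x y ∈ Lam0 B P := by
  obtain ⟨e, he, f, hf, hef⟩ := h.exists_pair
  have h1 := h.rt_sub_mem he hf hef x y
  rwa [hxy, mul_zero, zero_smul, sub_zero] at h1

theorem Lam0_eq : Lam0 B P = Submodule.span K {a | ∃ x y : V, B x y = 0 ∧ a = rt B x y} := by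
  apply le_antisymm
  · refine Submodule.span_mono ?_
    rintro _ ⟨u, v, ht, rfl⟩
    exact ⟨u, v, ht.orth, rfl⟩
  · refine Submodule.span_le.2 ?_
    rintro _ ⟨x, y, hxy, rfl⟩
    exact h.rt_mem_of_orth hxy

/-- `Lam0` has codimension at most one in the span of all `rt x y` -/
theorem rt_mem_sup {e f : V} (he : e ∈ P) (hf : f ∈ P) (hef : B e f ≠ 0) (x y : V) :
    rt B x y ∈ Lam0 B P ⊔ Submodule.span K {rt B e f} := by
  have h1 := h.rt_sub_mem he hf hef x y
  have h2 : ((B e f)⁻¹ * B x y) • rt B e f ∈ Submodule.span K {rt B e f} :=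
    Submodule.smul_mem _ _ (Submodule.subset_span rfl)
  rw [← sub_add_cancel (rt B x y) (((B e f)⁻¹ * B x y) • rt B e f)]
  exact Submodule.add_mem_sup h1 h2

theorem nondegenerate : B.Nondegenerate := by
  constructor
  · intro x hx
    exact h.nd x fun y => by rw [h.symm]; exact hx y
  · intro x hx
    exact h.nd x hx

/-- **the dimension of `Lam0`** -/
theorem finrank_Lam0 [FiniteDimensional K V] :
    Module.finrank K V * (Module.finrank K V - 1) / 2 ≤ Module.finrank K (Lam0 B P) + 1 := by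
  classical
  set n := Module.finrank K V with hn
  let b := Module.finBasis K V
  let d := LinearMap.BilinForm.dualBasis B h.nondegenerate b
  have hd : ∀ i j, B (d i) (b j) = if j = i then 1 else 0 := fun i j =>
    LinearMap.BilinForm.apply_dualBasis_left h.nondegenerate b i j
  -- the family
  let I : Type := (j : Fin n) × Fin j.val
  let c : I → Fin n := fun p => ⟨p.2.val, p.2.isLt.trans p.1.isLt⟩
  have hc : ∀ p : I, (c p).val < p.1.val := fun p => p.2.isLt
  have hinj : ∀ p q : I, p.1 = q.1 → c p = c q → p = q := by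
    rintro ⟨j, i⟩ ⟨j', i'⟩ h1 h2
    obtain rfl : j = j' := h1
    have h3 : (c ⟨j, i⟩).val = (c ⟨j, i'⟩).val := congrArg Fin.val h2
    rw [Fin.ext (show i.val = i'.val from h3)]
  let r : I → Module.End K V := fun p => rt B (b (c p)) (b p.1)
  have hr : ∀ p q : I, B (d (c q)) (r p (d q.1)) = if p = q then 1 else 0 := by
    intro p q
    change B (d (c q)) (rt B (b (c p)) (b p.1) (d q.1)) = _
    rw [rt_apply, map_add, map_smul, map_smul, hd, hd, h.symm (b p.1), h.symm (b (c p)), hd, hd, smul_eq_mul, smul_eq_mul]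
    by_cases hpq : p = q
    · subst hpq
      have h1 : ¬ c p = p.1 := fun h1 => by
        have := hc p
        rw [h1] at this
        exact lt_irrefl _ this
      rw [if_pos rfl, if_pos rfl, if_neg h1, if_pos rfl]
      ring
    · rw [if_neg hpq]
      have h1 : (if p.1 = q.1 then (1 : K) else 0) * (if c p = c q then 1 else 0) = 0 := by
        by_cases h1 : p.1 = q.1
        · by_cases h2 : c p = c q
          · exact absurd (hinj p q h1 h2) hpq
          · rw [if_neg h2, mul_zero]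
        · rw [if_neg h1, zero_mul]
      have h2 : (if c p = q.1 then (1 : K) else 0) * (if p.1 = c q then 1 else 0) = 0 := by
        by_cases h1 : c p = q.1
        · by_cases h2 : p.1 = c q
          · exfalso
            have h3 := hc p
            have h4 := hc q
            rw [h1, h2] at h3
            exact lt_asymm h3 h4
          · rw [if_neg h2, mul_zero]
        · rw [if_neg h1, zero_mul]
      rw [h1, h2, add_zero]
  have hli : LinearIndependent K r := by
    rw [Fintype.linearIndependent_iff]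
    intro g hg q
    have h1 := congrArg (fun X : Module.End K V => B (d (c q)) (X (d q.1))) hg
    simp only [LinearMap.sum_apply, LinearMap.smul_apply, map_sum, map_smul, hr, LinearMap.zero_apply, map_zero,
      smul_eq_mul, mul_ite, mul_one, mul_zero] at h1
    rw [Finset.sum_eq_single q (fun x _ hx => if_neg hx) (fun hx => absurd (Finset.mem_univ q) hx), if_pos rfl] at h1
    exact h1
  have hcard : Fintype.card I = n * (n - 1) / 2 := by
    rw [Fintype.card_sigma]
    simp only [Fintype.card_fin]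
    rw [Fin.sum_univ_eq_sum_range (fun i => i) n, Finset.sum_range_id]
  obtain ⟨e, he, f, hf, hef⟩ := h.exists_pair
  have h1 : Submodule.span K (Set.range r) ≤ Lam0 B P ⊔ Submodule.span K {rt B e f} := by
    refine Submodule.span_le.2 ?_
    rintro _ ⟨p, rfl⟩
    exact h.rt_mem_sup he hf hef _ _
  have h2 := Submodule.finrank_mono h1
  rw [finrank_span_eq_card hli, hcard] at h2
  refine h2.trans ((Submodule.finrank_add_le_finrank_add_finrank _ _).trans ?_)
  refine Nat.add_le_add_left ?_ _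
  have h3 := finrank_span_le_card (R := K) ({rt B e f} : Set (Module.End K V))
  simpa using h3

end Pol

end Cfsg.Agent.H435.BR
end

-- part: H435/BR/GeoF
section
/-!
# HUB BR: singular vectors of an orthogonal space of dimension at least seven over a finite field (helper435, task 5791)

* `exists_sing_out` : a singular vector orthogonal to `u`, `v`, not in `⟨u,v⟩`;
* `span_sing`, `span_sing1`, `span_sing2` : the singular vectors of `V`, `u^⊥`, `⟨u,v⟩^⊥` span (`⟨u,v⟩` totally singular).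
-/

set_option autoImplicit false
set_option linter.unusedSectionVars false

namespace Cfsg.Agent.H435.BR.GeoF

open QuadraticMap Cfsg.Agent.LieClassical Cfsg.Agent.LieClassical.OrthCore Cfsg.Agent.LieClassical.OrthFinite

variable {F V : Type*} [Field F] [AddCommGroup V] [Module F V] {Q : QuadraticForm F V}

/-- `{w | polar u w = 0, polar v w = 0}` -/
def perp2 (Q : QuadraticForm F V) (u v : V) : Submodule F V :=
  LinearMap.ker (polarBilin Q u) ⊓ LinearMap.ker (polarBilin Q v)

theorem mem_perp2 {u v w : V} : w ∈ perp2 Q u v ↔ polar Q u w = 0 ∧ polar Q v w = 0 := by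
  rw [perp2, Submodule.mem_inf, LinearMap.mem_ker, LinearMap.mem_ker]
  rfl

/-- the double orthogonal of `⟨u,v⟩` -/
theorem exists_sep2 [FiniteDimensional F V] (hQ : Nondeg Q) {u v x : V} (hx : x ∉ Submodule.span F {u, v}) :
    ∃ w ∈ perp2 Q u v, polar Q x w ≠ 0 := by
  by_contra hcon
  push Not at hcon
  have hnd : LinearMap.BilinForm.Nondegenerate (polarBilin Q) := by
    constructor
    · intro a ha
      exact hQ a ha
    · intro a ha
      exact hQ a fun y => by rw [polar_comm]; exact ha y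
  have hrefl : (polarBilin Q).IsRefl := fun a b hab => by
    rw [polarBilin_apply_apply] at hab ⊢
    rw [polar_comm]
    exact hab
  have h1 := LinearMap.BilinForm.orthogonal_orthogonal hnd hrefl (Submodule.span F {u, v})
  apply hx
  rw [← h1, LinearMap.BilinForm.mem_orthogonal_iff]
  intro w hw
  rw [LinearMap.BilinForm.mem_orthogonal_iff] at hw
  have h2 : w ∈ perp2 Q u v := mem_perp2.2 ⟨hw u (Submodule.subset_span (by simp)), hw v (Submodule.subset_span (by simp))⟩
  have h3 := hcon w h2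
  change polar Q w x = 0
  rw [polar_comm]
  exact h3

theorem finrank_perp2 [FiniteDimensional F V] (u v : V) : Module.finrank F V ≤ Module.finrank F (perp2 Q u v) + 2 := by
  let f : V →ₗ[F] (Fin 2 → F) := LinearMap.pi ![polarBilin Q u, polarBilin Q v]
  have h1 := LinearMap.finrank_range_add_finrank_ker f
  have h2 : Module.finrank F (LinearMap.range f) ≤ 2 := by
    refine le_trans (Submodule.finrank_le _) ?_
    rw [Module.finrank_fin_fun]
  have h3 : LinearMap.ker f = perp2 Q u v := by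
    ext w
    rw [mem_perp2, LinearMap.mem_ker]
    constructor
    · intro h
      exact ⟨congrFun h 0, congrFun h 1⟩
    · rintro ⟨h, h'⟩
      funext i
      fin_cases i
      · exact h
      · exact h'
  rw [h3] at h1
  omega

/-- **a singular vector orthogonal to `u`, `v`, not in `⟨u,v⟩`** -/
theorem exists_sing_out [Finite F] [FiniteDimensional F V] (hd : 7 ≤ Module.finrank F V) (u v : V) :
    ∃ w : V, w ≠ 0 ∧ Q w = 0 ∧ polar Q u w = 0 ∧ polar Q v w = 0 ∧ w ∉ Submodule.span F {u, v} := by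
  classical
  set U := Submodule.span F ({u, v} : Set V) with hU
  have hU2 : Module.finrank F U ≤ 2 := by
    have h1 := finrank_span_le_card (R := F) ({u, v} : Set V)
    refine h1.trans ?_
    rw [Set.toFinset_insert, Set.toFinset_singleton]
    exact Finset.card_le_two
  -- a complement of `U ⊓ perp` in `perp`
  obtain ⟨W, hW⟩ := Submodule.exists_isCompl (U.comap (perp2 Q u v).subtype)
  have h1 := Submodule.finrank_add_eq_of_isCompl hW
  have h2 : Module.finrank F (U.comap (perp2 Q u v).subtype) ≤ 2 := by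
    refine le_trans ?_ hU2
    have h3 : (U.comap (perp2 Q u v).subtype).map (perp2 Q u v).subtype ≤ U := Submodule.map_comap_le _ _
    have h4 := Submodule.finrank_mono h3
    rwa [← (Submodule.equivMapOfInjective _ (perp2 Q u v).injective_subtype _).finrank_eq] at h4
  have h3 := finrank_perp2 (Q := Q) u v
  obtain ⟨w, hw, hw0, hQw⟩ := exists_sing_mem (Q := Q) (W.map (perp2 Q u v).subtype) (by
    rw [← (Submodule.equivMapOfInjective _ (perp2 Q u v).injective_subtype _).finrank_eq]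
    omega)
  obtain ⟨⟨w', hw'⟩, hwW, rfl⟩ := hw
  have h5 := mem_perp2.1 hw'
  refine ⟨w', hw0, hQw, h5.1, h5.2, fun hin => hw0 ?_⟩
  have h6 : (⟨w', hw'⟩ : perp2 Q u v) ∈ U.comap (perp2 Q u v).subtype ⊓ W := ⟨hin, hwW⟩
  rw [hW.inf_eq_bot, Submodule.mem_bot] at h6
  exact congrArg Subtype.val h6

/-- the singular vectors of `W` span `W` -/
theorem span_of {W : Submodule F V} {e w₀ : V} (he : e ∈ W) (he0 : e ≠ 0) (hQe : Q e = 0) (hw₀ : w₀ ∈ W)
    (hew : polar Q e w₀ ≠ 0) {w : V} (hw : w ∈ W) : w ∈ Submodule.span F {x | x ∈ W ∧ x ≠ 0 ∧ Q x = 0} := by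
  set T := Submodule.span F {x | x ∈ W ∧ x ≠ 0 ∧ Q x = 0} with hT
  have heT : e ∈ T := Submodule.subset_span ⟨he, he0, hQe⟩
  have key : ∀ w ∈ W, polar Q e w ≠ 0 → w ∈ T := by
    intro w hw hew
    set c := (polar Q e w)⁻¹ * Q w with hc
    have h1 : Q (w - c • e) = 0 := by
      have e1 : w - c • e = w + (-c) • e := by rw [neg_smul, sub_eq_add_neg]
      rw [e1, Q_add, QuadraticMap.map_smul, polar_smul_right, hQe, polar_comm Q w e, smul_eq_mul, smul_eq_mul, hc]
      have : (polar Q e w)⁻¹ * Q w * polar Q e w = Q w := by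
        rw [mul_right_comm, inv_mul_cancel₀ hew, one_mul]
      linear_combination (-1 : F) * this
    have h2 : w - c • e ∈ T := by
      by_cases h0 : w - c • e = 0
      · rw [h0]; exact zero_mem _
      · exact Submodule.subset_span ⟨W.sub_mem hw (W.smul_mem c he), h0, h1⟩
    rw [← sub_add_cancel w (c • e)]
    exact T.add_mem h2 (T.smul_mem c heT)
  by_cases h : polar Q e w = 0
  · have h1 := key (w + w₀) (W.add_mem hw hw₀) (by rw [polar_add_right, h, zero_add]; exact hew)
    have h2 := T.sub_mem h1 (key w₀ hw₀ hew)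
    rwa [add_sub_cancel_right] at h2
  · exact key w hw h

variable [Finite F] [FiniteDimensional F V]

/-- the singular vectors in `⟨u,v⟩^⊥` span `⟨u,v⟩^⊥`, also in the case `v = u` or `u = v = 0` -/
theorem span_sing2 (hQ : Nondeg Q) (hd : 7 ≤ Module.finrank F V) (u v : V) {w : V} (hu : polar Q u w = 0)
    (hv : polar Q v w = 0) :
    w ∈ Submodule.span F {x : V | polar Q u x = 0 ∧ polar Q v x = 0 ∧ x ≠ 0 ∧ Q x = 0} := by
  obtain ⟨e, he0, hQe, hue, hve, hout⟩ := exists_sing_out (Q := Q) hd u v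
  obtain ⟨w₀, hw₀, hew⟩ := exists_sep2 hQ hout
  have h1 := span_of (W := perp2 Q u v) (mem_perp2.2 ⟨hue, hve⟩) he0 hQe hw₀ hew (mem_perp2.2 ⟨hu, hv⟩)
  refine Submodule.span_mono ?_ h1
  rintro x ⟨hx, hx0, hQx⟩
  exact ⟨(mem_perp2.1 hx).1, (mem_perp2.1 hx).2, hx0, hQx⟩

end Cfsg.Agent.H435.BR.GeoF
end

-- part: H435/BR/PolOm
section
/-!
# HUB BR: the geometry `Pol` of the orthogonal groups in characteristic two (helper435, task 5791)

`jv K v` : the vector `v ∈ F^ι` in `K^ι`; `sing Q K` : the non-zero singular vectors of `F^ι` in `K^ι`;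
`pol_of` : `Pol BK (sing Q K)` for the extended polar form `BK`.
-/

set_option autoImplicit false
set_option linter.unusedSectionVars false

namespace Cfsg.Agent.H435.BR

open QuadraticMap Cfsg.Agent.LieClassical Cfsg.Agent.LieClassical.OrthCore

variable {F : Type*} [Field F] {ι : Type*} (Q : QuadraticForm F (ι → F)) (K : Type*) [Field K] [Algebra F K]

/-- extension of scalars of a vector -/
def jv (v : ι → F) : ι → K := fun i => algebraMap F K (v i)

theorem jv_add (v w : ι → F) : jv K (v + w) = jv K v + jv K w := by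
  funext i
  exact map_add (algebraMap F K) _ _

theorem jv_smul (c : F) (v : ι → F) : jv K (c • v) = algebraMap F K c • jv K v := by
  funext i
  exact map_mul (algebraMap F K) _ _

theorem jv_zero : jv K (0 : ι → F) = 0 := by
  funext i
  exact map_zero (algebraMap F K)

theorem jv_sub (v w : ι → F) : jv K (v - w) = jv K v - jv K w := by
  funext i
  exact map_sub (algebraMap F K) _ _

theorem jv_inj {v w : ι → F} (h : jv K v = jv K w) : v = w := by
  funext i
  exact (algebraMap F K).injective (congrFun h i)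

theorem jv_single [DecidableEq ι] (i : ι) : jv K (Pi.single i (1 : F)) = Pi.single i 1 := by
  funext k
  by_cases h : k = i
  · subst h
    simp [jv]
  · simp [jv, h]

/-- the non-zero singular vectors -/
def sing : Set (ι → K) := {x | ∃ v : ι → F, v ≠ 0 ∧ Q v = 0 ∧ x = jv K v}

variable {Q K}

theorem jv_mem_span {S : Set (ι → F)} {v : ι → F} (hv : v ∈ Submodule.span F S) :
    jv K v ∈ Submodule.span K (jv K '' S) := by
  induction hv using Submodule.span_induction with
  | mem x hx => exact Submodule.subset_span ⟨x, hx, rfl⟩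
  | zero => rw [jv_zero]; exact zero_mem _
  | add x y _ _ hx hy => rw [jv_add]; exact add_mem hx hy
  | smul c x _ hx => rw [jv_smul]; exact Submodule.smul_mem _ _ hx

variable [Fintype ι] [DecidableEq ι] {BK : LinearMap.BilinForm K (ι → K)}

theorem sum_single (x : ι → K) : ∑ i, x i • (jv K (Pi.single i (1 : F))) = x := by
  funext k
  rw [Finset.sum_apply]
  rw [Finset.sum_eq_single k]
  · rw [jv_single]
    simp
  · intro b _ hb
    rw [jv_single, Pi.smul_apply, Pi.single_eq_of_ne hb.symm, smul_zero]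
  · intro hk
    exact absurd (Finset.mem_univ k) hk

/-- two linear maps which agree on the `jv K v` are equal -/
theorem ext_jv {M : Type*} [AddCommGroup M] [Module K M] {f g : (ι → K) →ₗ[K] M}
    (h : ∀ v : ι → F, f (jv K v) = g (jv K v)) : f = g := by
  ext x
  simp only [LinearMap.coe_comp, Function.comp_apply, LinearMap.coe_single]
  rw [← jv_single (F := F) K x]
  exact h _

section

variable (hB : ∀ v w : ι → F, BK (jv K v) (jv K w) = algebraMap F K (polar Q v w))

include hB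

theorem bk_symm (v w : ι → K) : BK v w = BK w v := by
  have h1 : BK = BK.flip := by
    refine ext_jv (F := F) fun v => ext_jv (F := F) fun w => ?_
    change BK (jv K v) (jv K w) = BK (jv K w) (jv K v)
    rw [hB, hB, polar_comm]
  calc BK v w = BK.flip v w := by rw [← h1]
    _ = BK w v := rfl

theorem bk_alt (h2 : (2 : F) = 0) (v : ι → K) : BK v v = 0 := by
  have h2K : (2 : K) = 0 := by
    have := congrArg (algebraMap F K) h2
    rwa [map_ofNat, map_zero] at this
  have hself : ∀ v : ι → F, polar Q v v = 0 := fun v => by rw [polar_self', h2, zero_mul]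
  have hadd : ∀ a b : ι → K, BK (a + b) (a + b) = BK a a + BK b b := by
    intro a b
    have h3 : BK (a + b) (a + b) = BK a a + BK b b + 2 * BK a b := by
      simp only [map_add, LinearMap.add_apply]
      rw [bk_symm hB b a]
      ring
    rw [h3, h2K, zero_mul, add_zero]
  have key : ∀ s : Finset ι, ∀ x : ι → K, BK (∑ i ∈ s, x i • (jv K (Pi.single i (1 : F))))
      (∑ i ∈ s, x i • (jv K (Pi.single i (1 : F)))) = 0 := by
    intro s x
    induction s using Finset.induction_on with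
    | empty => simp
    | insert a s ha ih =>
      rw [Finset.sum_insert ha, hadd, ih, map_smul, map_smul, LinearMap.smul_apply, hB, hself,
        map_zero, smul_zero, smul_zero, zero_add]
  have h1 := key Finset.univ v
  rwa [sum_single] at h1

/-- representation of the coordinates -/
theorem exists_coord (hQ : Nondeg Q) (i : ι) : ∃ d : ι → F, ∀ x : ι → K, BK (jv K d) x = x i := by
  have hnd : LinearMap.BilinForm.Nondegenerate (polarBilin Q) := by
    constructor
    · intro a ha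
      exact hQ a ha
    · intro a ha
      exact hQ a fun y => by rw [polar_comm]; exact ha y
  let d := LinearMap.BilinForm.dualBasis (polarBilin Q) hnd (Pi.basisFun F ι) i
  have h1 : ∀ j, polar Q d (Pi.single j 1) = if j = i then 1 else 0 := by
    intro j
    have h2 := LinearMap.BilinForm.apply_dualBasis_left hnd (Pi.basisFun F ι) i j
    rw [Pi.basisFun_apply] at h2
    exact h2
  refine ⟨d, fun x => ?_⟩
  conv_lhs => rw [← sum_single (F := F) x]
  rw [map_sum, Finset.sum_eq_single i]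
  · rw [map_smul, hB, h1, if_pos rfl, map_one, smul_eq_mul, mul_one]
  · intro b _ hb
    rw [map_smul, hB, h1, if_neg hb, map_zero, smul_zero]
  · intro hk
    exact absurd (Finset.mem_univ i) hk

theorem bk_nd (hQ : Nondeg Q) (x : ι → K) (hx : ∀ y, BK y x = 0) : x = 0 := by
  funext i
  obtain ⟨d, hd⟩ := exists_coord hB hQ i
  rw [← hd x, hx]
  rfl

/-- a vector over `K` orthogonal to `u`, `v` is a combination of vectors over `F` orthogonal to `u`, `v` -/
theorem mem_span_perp2 {u v : ι → F} {y z : ι → F} (hy1 : polar Q u y = 1) (hy2 : polar Q v y = 0)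
    (hz1 : polar Q u z = 0) (hz2 : polar Q v z = 1) {x : ι → K} (hu : BK (jv K u) x = 0) (hv : BK (jv K v) x = 0) :
    x ∈ Submodule.span K (jv K '' {w | polar Q u w = 0 ∧ polar Q v w = 0}) := by
  set T := Submodule.span K (jv K '' {w | polar Q u w = 0 ∧ polar Q v w = 0}) with hT
  have h1 : ∑ i, x i • jv K (Pi.single i (1 : F) - polar Q u (Pi.single i 1) • y - polar Q v (Pi.single i 1) • z) = x := by
    have h2 : ∑ i, x i • jv K (Pi.single i (1 : F) - polar Q u (Pi.single i 1) • y - polar Q v (Pi.single i 1) • z) =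
        ∑ i, x i • (jv K (Pi.single i (1 : F))) - (BK (jv K u) x) • jv K y - (BK (jv K v) x) • jv K z := by
      have h3 : ∀ u : ι → F, BK (jv K u) x = ∑ i, x i * algebraMap F K (polar Q u (Pi.single i 1)) := by
        intro u
        conv_lhs => rw [← sum_single (F := F) x]
        rw [map_sum]
        refine Finset.sum_congr rfl fun i _ => ?_
        rw [map_smul, hB, smul_eq_mul]
      rw [h3 u, h3 v, Finset.sum_smul, Finset.sum_smul, ← Finset.sum_sub_distrib, ← Finset.sum_sub_distrib]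
      refine Finset.sum_congr rfl fun i _ => ?_
      rw [jv_sub, jv_sub, jv_smul, jv_smul, smul_sub, smul_sub, smul_smul, smul_smul]
    rw [h2, hu, hv, zero_smul, zero_smul, sub_zero, sub_zero, sum_single]
  rw [← h1]
  refine Submodule.sum_mem _ fun i _ => Submodule.smul_mem _ _ (Submodule.subset_span ⟨_, ⟨?_, ?_⟩, rfl⟩)
  · rw [polar_sub_right, polar_sub_right, polar_smul_right, polar_smul_right, hy1, hz1, smul_eq_mul, smul_eq_mul, mul_one,
      mul_zero, sub_self, sub_zero]
  · rw [polar_sub_right, polar_sub_right, polar_smul_right, polar_smul_right, hy2, hz2, smul_eq_mul, smul_eq_mul, mul_one,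
      mul_zero, sub_zero, sub_self]

/-- the same for one vector -/
theorem mem_span_perp1 {u y : ι → F} (hy : polar Q u y = 1) {x : ι → K} (hu : BK (jv K u) x = 0) :
    x ∈ Submodule.span K (jv K '' {w | polar Q u w = 0}) := by
  have h1 : ∑ i, x i • jv K (Pi.single i (1 : F) - polar Q u (Pi.single i 1) • y) = x := by
    have h2 : ∑ i, x i • jv K (Pi.single i (1 : F) - polar Q u (Pi.single i 1) • y) =
        ∑ i, x i • (jv K (Pi.single i (1 : F))) - (BK (jv K u) x) • jv K y := by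
      have h3 : BK (jv K u) x = ∑ i, x i * algebraMap F K (polar Q u (Pi.single i 1)) := by
        conv_lhs => rw [← sum_single (F := F) x]
        rw [map_sum]
        refine Finset.sum_congr rfl fun i _ => ?_
        rw [map_smul, hB, smul_eq_mul]
      rw [h3, Finset.sum_smul, ← Finset.sum_sub_distrib]
      refine Finset.sum_congr rfl fun i _ => ?_
      rw [jv_sub, jv_smul, smul_sub, smul_smul]
    rw [h2, hu, zero_smul, sub_zero, sum_single]
  rw [← h1]
  refine Submodule.sum_mem _ fun i _ => Submodule.smul_mem _ _ (Submodule.subset_span ⟨_, ?_, rfl⟩)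
  change polar Q u _ = 0
  rw [polar_sub_right, polar_smul_right, hy, smul_eq_mul, mul_one, sub_self]

/-- **The geometry.** -/
theorem pol_of [Finite F] (h2 : (2 : F) = 0) (hQ : Nondeg Q) (hd : 7 ≤ Fintype.card ι) : Pol BK (sing Q K) := by
  have hd' : 7 ≤ Module.finrank F (ι → F) := by rwa [Module.finrank_fintype_fun_eq_card]
  have h2K : (2 : K) = 0 := by
    have := congrArg (algebraMap F K) h2
    rwa [map_ofNat, map_zero] at this
  have hBz : ∀ v w : ι → F, BK (jv K v) (jv K w) = 0 ↔ polar Q v w = 0 := by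
    intro v w
    rw [hB, map_eq_zero]
  -- singular vectors over `F` span, over `K`
  have hspan2 : ∀ u v w : ι → F, polar Q u w = 0 → polar Q v w = 0 →
      jv K w ∈ Submodule.span K {x | x ∈ sing Q K ∧ BK (jv K u) x = 0 ∧ BK (jv K v) x = 0} := by
    intro u v w hu hv
    have h3 := jv_mem_span (K := K) (GeoF.span_sing2 hQ hd' u v hu hv)
    refine Submodule.span_mono ?_ h3
    rintro _ ⟨x, ⟨hux, hvx, hx0, hQx⟩, rfl⟩
    exact ⟨⟨x, hx0, hQx, rfl⟩, (hBz u x).2 hux, (hBz v x).2 hvx⟩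
  -- dual vectors
  have hdual : ∀ u v : ι → F, u ≠ 0 → (∀ c : F, v ≠ c • u) → ∃ z, polar Q u z = 0 ∧ polar Q v z = 1 := by
    intro u v hu hv
    have h3 : v ∉ Submodule.span F ({u, u} : Set (ι → F)) := by
      rw [Set.insert_eq_of_mem (Set.mem_singleton u), Submodule.mem_span_singleton]
      rintro ⟨c, hc⟩
      exact hv c hc.symm
    obtain ⟨z, hz, hvz⟩ := GeoF.exists_sep2 hQ h3
    have h4 := (GeoF.mem_perp2.1 hz).1
    refine ⟨(polar Q v z)⁻¹ • z, ?_, ?_⟩
    · rw [polar_smul_right, h4, smul_zero]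
    · rw [polar_smul_right, smul_eq_mul, inv_mul_cancel₀ hvz]
  -- independence
  have hind : ∀ u v w : ι → F, w ∉ Submodule.span F ({u, v} : Set (ι → F)) → ∀ c d : K, jv K w ≠ c • jv K u + d • jv K v := by
    intro u v w hw c d hcd
    obtain ⟨z, hz, hwz⟩ := GeoF.exists_sep2 hQ hw
    have h4 := GeoF.mem_perp2.1 hz
    apply hwz
    rw [← hBz, hcd, map_add, LinearMap.add_apply, map_smul, map_smul, LinearMap.smul_apply, LinearMap.smul_apply,
      (hBz u z).2 h4.1, (hBz v z).2 h4.2, smul_zero, smul_zero, add_zero]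
  have hts : ∀ u v : ι → F, (∀ c : K, jv K v ≠ c • jv K u) → ∀ c : F, v ≠ c • u := by
    rintro u v h c rfl
    exact h (algebraMap F K c) (jv_smul K c u)
  refine
    { two := h2K
      alt := bk_alt hB h2
      symm := bk_symm hB
      nd := bk_nd hB hQ
      ne := ?_
      nonempty := ?_
      span := ?_
      span1 := ?_
      span2 := ?_
      link := ?_
      link2 := ?_
      add := ?_ }
  · rintro _ ⟨v, hv, -, rfl⟩ h0
    apply hv
    apply jv_inj K
    rw [h0, jv_zero]
  · obtain ⟨w, hw, hQw, -⟩ := GeoF.exists_sing_out (Q := Q) hd' 0 0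
    exact ⟨_, w, hw, hQw, rfl⟩
  · rw [eq_top_iff]
    intro x _
    rw [← sum_single (F := F) x]
    refine Submodule.sum_mem _ fun i _ => Submodule.smul_mem _ _ ?_
    have h3 := hspan2 0 0 (Pi.single i 1) (by simp) (by simp)
    exact Submodule.span_mono (fun y hy => hy.1) h3
  · rintro _ ⟨u, hu, hQu, rfl⟩ x hx
    obtain ⟨y, hy⟩ := hQ.exists_polar_eq hu 1
    have h3 := mem_span_perp1 hB hy hx
    have h4 : jv K '' {w | polar Q u w = 0} ⊆
        (Submodule.span K {w | w ∈ sing Q K ∧ BK (jv K u) w = 0} : Submodule K (ι → K)) := by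
      rintro _ ⟨w, hw, rfl⟩
      have h4 := hspan2 u u w hw hw
      have h5 : ({x | x ∈ sing Q K ∧ BK (jv K u) x = 0 ∧ BK (jv K u) x = 0} : Set (ι → K)) ⊆
          {w | w ∈ sing Q K ∧ BK (jv K u) w = 0} := fun z hz => ⟨hz.1, hz.2.1⟩
      exact Submodule.span_mono h5 h4
    exact Submodule.span_le.2 h4 h3
  · rintro _ _ ⟨⟨u, hu, hQu, rfl⟩, ⟨v, hv, hQv, rfl⟩, huv, hi⟩ x hux hvx
    have hi' := hts u v hi
    obtain ⟨z, hz1, hz2⟩ := hdual u v hu hi'
    obtain ⟨y, hy1, hy2⟩ := hdual v u hv (by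
      rintro c rfl
      by_cases hc : c = 0
      · rw [hc, zero_smul] at hu
        exact hu rfl
      · exact hi' c⁻¹ (by rw [smul_smul, inv_mul_cancel₀ hc, one_smul]))
    have h3 := mem_span_perp2 hB hy2 hy1 hz1 hz2 hux hvx
    have h4 : jv K '' {w | polar Q u w = 0 ∧ polar Q v w = 0} ⊆
        (Submodule.span K {w | w ∈ sing Q K ∧ BK (jv K u) w = 0 ∧ BK (jv K v) w = 0} : Submodule K (ι → K)) := by
      rintro _ ⟨w, ⟨huw, hvw⟩, rfl⟩
      exact hspan2 u v w huw hvw
    exact Submodule.span_le.2 h4 h3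
  · rintro _ ⟨u, hu, hQu, rfl⟩ _ ⟨v, hv, hQv, rfl⟩
    obtain ⟨w, hw, hQw, huw, hvw, hout⟩ := GeoF.exists_sing_out (Q := Q) hd' u v
    refine ⟨_, ⟨w, hw, hQw, rfl⟩, (hBz u w).2 huw, (hBz v w).2 hvw, fun c hc => ?_, fun c hc => ?_⟩
    · exact hind u v w hout c 0 (by rw [hc, zero_smul, add_zero])
    · exact hind u v w hout 0 c (by rw [hc, zero_smul, zero_add])
  · rintro _ _ ⟨⟨u, hu, hQu, rfl⟩, ⟨v, hv, hQv, rfl⟩, huv, hi⟩
    obtain ⟨w, hw, hQw, huw, hvw, hout⟩ := GeoF.exists_sing_out (Q := Q) hd' u v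
    exact ⟨_, ⟨w, hw, hQw, rfl⟩, (hBz u w).2 huw, (hBz v w).2 hvw, hind u v w hout⟩
  · rintro _ _ ⟨⟨u, hu, hQu, rfl⟩, ⟨v, hv, hQv, rfl⟩, huv, hi⟩
    have hi' := hts u v hi
    refine ⟨u + v, fun h0 => ?_, ?_, (jv_add K u v).symm⟩
    · exact hi' (-1) (by rw [neg_one_smul]; exact eq_neg_of_add_eq_zero_right h0)
    · rw [Q_add, hQu, hQv, (hBz u v).1 huv, add_zero, add_zero]

end

end Cfsg.Agent.H435.BR
end

-- part: H435/BR/OmE
section
/-!
# HUB BR, `Ω(Q)` in characteristic two: the module facts (helper435, task 5791)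

For the objects of `H748/BR/OmDefs` (`Om Q`, `rho Q K`, `BK Q K`, `wdg`, `lam`, `lam0`) and the root groups `omx` of
`H621/BR/Bridge`; `(2 : F) = 0`, `3 ≤ |F|`, `7 ≤ |ι|`, `Good Q`.

* `rt_eq_wdg`, `lam_eq`, `lam0_eq` : comparison with `H435/BR/Pol`;
* `lam0_le_lam`, `scal` (the scalars), `lam0_not_le_scal`, `finrank_lam0_ge`;
* `lam0_le_of_inv` : an invariant subspace of `lam` which is not scalar contains `lam0`;
* `WE Q K = lam0 / (lam0 ∩ scal)`, `sgE Q K : Om Q →* Module.End K (WE Q K)`, `sgE_mk`;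
* `sgE_irr`, `sgE_cen`, `sgE_polyDeg`, `finrank_WE_le`;
* `ome_le_finrank` : an invariant `S` with a non-scalar element of `lam` has dimension at least `n (n - 1) / 2 - 1`.
-/

set_option autoImplicit false
set_option linter.unusedSectionVars false

namespace Cfsg.Agent.H435.BR

open Module QuadraticMap Cfsg Cfsg.Agent.LieClassical.OrthCore Cfsg.Agent.LieClassical.OrthTrans
open Cfsg.Agent.H883.BR Cfsg.Agent.H748.BR

/-! ### comparison -/

section cmp

variable {K : Type*} [Field K] {V : Type*} [AddCommGroup V] [Module K V] {B : LinearMap.BilinForm K V}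

/-- the scalars -/
def scal (K V : Type*) [Field K] [AddCommGroup V] [Module K V] : Submodule K (Module.End K V) :=
  Submodule.span K {1}

theorem mem_scal {X : Module.End K V} : X ∈ scal K V ↔ ∃ c : K, X = c • 1 := by
  rw [scal, Submodule.mem_span_singleton]
  constructor
  · rintro ⟨c, hc⟩
    exact ⟨c, hc.symm⟩
  · rintro ⟨c, hc⟩
    exact ⟨c, hc.symm⟩

theorem scal_inv {G : Type*} [Group G] {ρ : G →* Module.End K V} : _root_.Cfsg.Agent.H883.BR.Inv (ad ρ) ⊤ (scal K V) := by
  intro g _ X hX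
  obtain ⟨c, rfl⟩ := mem_scal.1 hX
  rw [mem_scal]
  refine ⟨c, ?_⟩
  rw [ad_apply, mul_smul_comm, mul_one, smul_mul_assoc, ← map_mul, mul_inv_cancel, map_one]

theorem rt_eq_wdg (h2 : (2 : K) = 0) (u v : V) : rt B u v = wdg B u v := by
  ext x
  rw [rt_apply, wdg_apply, sub_eq_add_neg]
  congr 1
  have h1 : (2 : K) • (B u x • v) = 0 := by rw [h2, zero_smul]
  rw [two_smul] at h1
  exact (neg_eq_of_add_eq_zero_left h1).symm

theorem lam_eq (hs : ∀ v w, B v w = B w v) : lam B = Lam B := by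
  ext X
  rw [H748.BR.mem_lam, mem_Lam]
  refine and_congr_right fun _ => forall_congr' fun v => ?_
  rw [hs]

theorem lam0_eq {P : Set V} (h : Pol B P) : lam0 B = Lam0 B P := by
  rw [h.Lam0_eq, lam0]
  congr 1
  ext X
  constructor
  · rintro ⟨u, v, huv, rfl⟩
    exact ⟨u, v, huv, (rt_eq_wdg h.two u v).symm⟩
  · rintro ⟨u, v, huv, rfl⟩
    exact ⟨u, v, huv, (rt_eq_wdg h.two u v).symm⟩

theorem lam0_le_lam {P : Set V} (h : Pol B P) : lam0 B ≤ lam B := by
  rw [lam0_eq h, lam_eq h.symm]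
  exact h.Lam0_le_Lam

end cmp

/-! ### the groups -/

variable {F : Type} [Field F] {ι : Type} [Fintype ι] [DecidableEq ι] {Q : QuadraticForm F (ι → F)} (K : Type)
  [Field K] [Algebra F K]

theorem pol_om [Finite F] (hG : Good Q) (h2 : (2 : F) = 0) (hd : 7 ≤ Fintype.card ι) :
    Pol (H748.BR.BK Q K) (sing Q K) :=
  pol_of (fun v w => H748.BR.BK_vK v w) h2 hG.nondeg hd

instance finite_range [Finite F] : Finite (algebraMap F K).fieldRange :=
  Finite.of_surjective _ (algebraMap F K).rangeRestrictField_bijective.surjective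

theorem card_range : Nat.card (algebraMap F K).fieldRange = Nat.card F :=
  (Nat.card_congr (Equiv.ofBijective _ (algebraMap F K).rangeRestrictField_bijective)).symm

/-- invariant subspaces are closed under the root elements -/
theorem rtClosed_of_inv [Finite F] (hG : Good Q) (h2 : (2 : F) = 0) (h3 : 3 ≤ Nat.card F) (hd : 7 ≤ Fintype.card ι)
    {S : Submodule K (Module.End K (ι → K))} (hS : _root_.Cfsg.Agent.H883.BR.Inv (ad (H748.BR.rho Q K)) ⊤ S) :
    RtClosed (H748.BR.BK Q K) (sing Q K) S := by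
  have hP := pol_om K hG h2 hd
  have key : ∀ a, IsRt (H748.BR.BK Q K) (sing Q K) a → Rt (H748.BR.rho Q K) (algebraMap F K).fieldRange ⊤ a := by
    rintro _ ⟨_, _, ⟨⟨u, hu, hQu, rfl⟩, ⟨v, hv, hQv, rfl⟩, huv, -⟩, rfl⟩
    rw [rt_eq_wdg hP.two]
    have h4 : polar Q u v = 0 := by
      have h5 : algebraMap F K (polar Q u v) = 0 := (H748.BR.BK_vK u v).symm.trans huv
      rwa [map_eq_zero] at h5
    exact H621.BR.om_rt K hG ⟨(u, v), hQu, hQv, h4⟩
  have h3' : 3 ≤ Nat.card (algebraMap F K).fieldRange := by rwa [card_range]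
  exact ⟨fun a ha X hX => (H168.BR.root_mem h3' hS (key a ha) hX).1,
    fun a ha X hX => (H168.BR.root_mem h3' hS (key a ha) hX).2⟩

/-- **invariant subspaces of `lam`** -/
theorem lam0_le_of_inv [Finite F] (hG : Good Q) (h2 : (2 : F) = 0) (h3 : 3 ≤ Nat.card F) (hd : 7 ≤ Fintype.card ι)
    {S : Submodule K (Module.End K (ι → K))} (hS : _root_.Cfsg.Agent.H883.BR.Inv (ad (H748.BR.rho Q K)) ⊤ S) (hle : S ≤ lam (H748.BR.BK Q K))
    (hns : ¬ S ≤ scal K (ι → K)) : lam0 (H748.BR.BK Q K) ≤ S := by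
  have hP := pol_om K hG h2 hd
  rw [lam0_eq hP]
  rw [lam_eq hP.symm] at hle
  refine hP.Lam0_le_of_not_scalar (rtClosed_of_inv K hG h2 h3 hd hS) hle fun h => hns fun X hX => ?_
  exact mem_scal.2 (h X hX)

theorem finrank_lam0_ge [Finite F] (hG : Good Q) (h2 : (2 : F) = 0) (hd : 7 ≤ Fintype.card ι) :
    Fintype.card ι * (Fintype.card ι - 1) / 2 - 1 ≤ finrank K (lam0 (H748.BR.BK Q K)) := by
  have hP := pol_om K hG h2 hd
  rw [lam0_eq hP]
  have h4 := hP.finrank_Lam0
  rw [Module.finrank_fintype_fun_eq_card] at h4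
  omega

theorem finrank_scal_le : finrank K (scal K (ι → K)) ≤ 1 := by
  have h3 := finrank_span_le_card (R := K) ({1} : Set (Module.End K (ι → K)))
  rw [scal]
  simpa using h3

theorem lam0_not_le_scal [Finite F] (hG : Good Q) (h2 : (2 : F) = 0) (hd : 7 ≤ Fintype.card ι) :
    ¬ lam0 (H748.BR.BK Q K) ≤ scal K (ι → K) := by
  intro h
  have h4 := Submodule.finrank_mono h
  have h5 := finrank_lam0_ge K hG h2 hd
  have h6 := finrank_scal_le K (ι := ι)
  have h7 : 7 * 6 ≤ Fintype.card ι * (Fintype.card ι - 1) := Nat.mul_le_mul hd (by omega)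
  have h8 : 7 * 6 / 2 ≤ Fintype.card ι * (Fintype.card ι - 1) / 2 := Nat.div_le_div_right h7
  omega

/-- **the dimension bound** -/
theorem ome_le_finrank [Finite F] (hG : Good Q) (h2 : (2 : F) = 0) (h3 : 3 ≤ Nat.card F) (hd : 7 ≤ Fintype.card ι)
    {S : Submodule K (Module.End K (ι → K))} (hS : _root_.Cfsg.Agent.H883.BR.Inv (ad (H748.BR.rho Q K)) ⊤ S) {a : Module.End K (ι → K)}
    (ha : a ∈ S) (hl : a ∈ lam (H748.BR.BK Q K)) (hns : ∀ c : K, a ≠ c • 1) :
    Fintype.card ι * (Fintype.card ι - 1) / 2 - 1 ≤ finrank K S := by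
  have h4 : _root_.Cfsg.Agent.H883.BR.Inv (ad (H748.BR.rho Q K)) ⊤ (S ⊓ lam (H748.BR.BK Q K)) := fun g hg X hX =>
    ⟨hS g hg X hX.1, H748.BR.lam_inv g hg X hX.2⟩
  have h5 : lam0 (H748.BR.BK Q K) ≤ S ⊓ lam (H748.BR.BK Q K) := by
    refine lam0_le_of_inv K hG h2 h3 hd h4 inf_le_right fun h => ?_
    obtain ⟨c, hc⟩ := mem_scal.1 (h ⟨ha, hl⟩)
    exact hns c hc
  exact (finrank_lam0_ge K hG h2 hd).trans (Submodule.finrank_mono (h5.trans inf_le_left))

variable (Q) in
/-- **the module** `lam0 / (lam0 ∩ scalars)` -/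
abbrev WE : Type := SubQ (lam0 (H748.BR.BK Q K)) (scal K (ι → K))

variable (Q) in
/-- **the representation on `WE Q K`** -/
noncomputable def sgE : Om Q →* (Module.End K (WE Q K) :) :=
  subq (ad (H748.BR.rho Q K)) (lam0 (H748.BR.BK Q K)) (scal K (ι → K)) H748.BR.lam0_inv scal_inv

theorem sgE_mk (g : Om Q) (X : lam0 (H748.BR.BK Q K)) : sgE Q K g (Submodule.Quotient.mk X) =
    Submodule.Quotient.mk ⟨ad (H748.BR.rho Q K) g X, H748.BR.lam0_inv g trivial X.1 X.2⟩ := rfl

/-- **irreducible for all dense subgroups** -/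
theorem sgE_irr [Finite F] (hG : Good Q) (h2 : (2 : F) = 0) (h3 : 3 ≤ Nat.card F) (hd : 7 ≤ Fintype.card ι)
    {M : Subgroup (Om Q)} (hM : Dns (ad (H748.BR.rho Q K)) M) : (Irr (V := WE Q K) ((sgE Q K :)) M :) := by
  refine irr_subq _ _ (lam0_not_le_scal K hG h2 hd) (fun T hT hle => ?_) hM
  by_cases h : T ≤ scal K (ι → K)
  · exact Or.inl h
  · exact Or.inr (lam0_le_of_inv K hG h2 h3 hd hT (hle.trans (lam0_le_lam (pol_om K hG h2 hd))) h)

theorem sgE_cen {z : Om Q} {c : K} (hz : H748.BR.rho Q K z = c • 1) : sgE Q K z = 1 :=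
  subq_eq_one _ _ (ad_eq_one hz)

theorem sgE_polyDeg [Finite F] (hG : Good Q) (h3 : 3 ≤ Nat.card F) :
    (PolyDeg (V := WE Q K) ((sgE Q K :)) (algebraMap F K).fieldRange (H621.BR.omx K hG) 2 :) := by
  have h3' : 3 ≤ Nat.card (algebraMap F K).fieldRange := by rwa [card_range]
  exact polyDeg_ad_subq h3' (H621.BR.om_wdg_sq K hG) (H621.BR.om_rho_x K hG) _ _

theorem finrank_WE_le : finrank K (WE Q K) ≤ Fintype.card ι ^ 2 := by
  refine (Submodule.finrank_quotient_le _).trans ((Submodule.finrank_le _).trans ?_)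
  rw [Module.finrank_linearMap, Module.finrank_fintype_fun_eq_card, pow_two]

end Cfsg.Agent.H435.BR
end

-- part: H872/BR/OmEven
section
/-!
# HUB BR: the family `Ω(Q)`, `q` even
-/

set_option autoImplicit false

namespace Cfsg.Agent.H872.BR

open Module Cfsg Cfsg.Agent.H883.BR Cfsg.Agent.LieClassical.OrthCore Cfsg.Agent.LieClassical.OrthTrans
open Cfsg.Agent.H748.BR (Om rho BK wdg vK lam lam0)

/-- the assembly -/
theorem fam_of {F : Type} [Field F] [Fintype F] {ι : Type} [Fintype ι] [DecidableEq ι] (Q : QuadraticForm F (ι → F))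
    {n d : ℕ} (hn : Fintype.card ι = n) (h8 : 8 ≤ n) (hQ : ∀ v, (∀ w, QuadraticMap.polar Q v w = 0) → v = 0)
    (heven : Even (Fintype.card F)) (hd : n.choose 2 = d + 1)
    (h1 : 3 ^ n * d.factorial + 3 ≤ Fintype.card F) (h2 : n + 3 ≤ Fintype.card F)
    (h3 : 2 * n ^ 2 < Fintype.card F)
    {W : Type} [AddCommGroup W] [Module (AlgebraicClosure F) W] [FiniteDimensional (AlgebraicClosure F) W]
    {σ : Om Q →* Module.End (AlgebraicClosure F) W}
    (hdimW : finrank (AlgebraicClosure F) W ≤ n ^ 2) (hdimW2 : 2 ≤ finrank (AlgebraicClosure F) W)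
    (hpolyW : ∀ hG : Good Q, PolyDeg σ (H212.BR.base F) (H621.BR.xs (AlgebraicClosure F) hG) 2)
    (hinh : ∀ M : Subgroup (Om Q), Dns (ad (rho Q (AlgebraicClosure F))) M → Irr σ M)
    (hcen : ∀ (z : Om Q) (c : AlgebraicClosure F), rho Q (AlgebraicClosure F) z = c • 1 → σ z = 1)
    (hext : ∀ M U : Subgroup (Om Q), U ≤ M → IsPGroup 2 U → U ≠ ⊥ → Dns (ad (rho Q (AlgebraicClosure F))) M →
      ∀ w : W, w ≠ 0 → (∀ v : W, (∀ u ∈ U, σ u v = v) ↔ ∃ c : AlgebraicClosure F, v = c • w) →
    ∃ z ∈ U, ∃ a : Module.End (AlgebraicClosure F) (ι → AlgebraicClosure F), a ≠ 0 ∧ a * a = 0 ∧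
      rho Q (AlgebraicClosure F) z = 1 + a ∧
      (∀ b ∈ M, (∀ u ∈ U, b * u * b⁻¹ ∈ U) → ∀ c : AlgebraicClosure F, σ b w = c • w →
        ad (rho Q (AlgebraicClosure F)) b a = c • a) ∧
      ∀ S : Submodule (AlgebraicClosure F) (Module.End (AlgebraicClosure F) (ι → AlgebraicClosure F)),
        _root_.Cfsg.Agent.H883.BR.Inv (ad (rho Q (AlgebraicClosure F))) ⊤ S → a ∈ S → d ≤ Module.finrank (AlgebraicClosure F) S)
    (htrF : ∀ g : Om Q, LinearMap.trace (AlgebraicClosure F) W (σ g) ∈ H212.BR.base F)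
    (hpw : ∀ k, 0 < k → 2 * k + 1 < Fintype.card F → ∃ g : Om Q, ad (rho Q (AlgebraicClosure F)) (g ^ k) ≠ 1) :
    Fam 2 n d (Fintype.card F) (H212.BR.base F) (rho Q (AlgebraicClosure F)) σ := by
  have hc2 := charP_two heven
  have hG : Good Q := good_om hQ (by omega)
  have hcard : Nat.card (H212.BR.base F) = Fintype.card F := by
    rw [H212.BR.card_base, Nat.card_eq_fintype_card]
  have hfin : Finite (H212.BR.base F) := H212.BR.finite_base F
  subst hn
  exact
  { prime := Nat.prime_two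
    char := H212.BR.charP_closure F 2
    closed := inferInstance
    locfin := H212.BR.locfin F
    finF := hfin
    cardF := hcard
    finG := inferInstance
    qs := qs_om hQ (by omega)
    fdV := inferInstance
    fdW := inferInstance
    dimV := Module.finrank_fintype_fun_eq_card _
    two_le := by omega
    dimW := hdimW
    inj := H748.BR.rho_inj
    irr := H621.BR.irr_rho _ hG
    tprim := tprim_om _ hQ (by omega) h2 hcard
    root := ⟨_, H621.BR.xs (AlgebraicClosure F) hG, H621.BR.oneP _ hG, H621.BR.polyDeg_rho _ hG, hpolyW hG⟩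
    inh := hinh
    cen := hcen
    ext := hext
    trF := htrF
    count := count_om hQ (by omega) hd h1
    trn := by
      obtain ⟨g, -, hg⟩ := exists_ne_one (H := ⊤) (hinh ⊤ fun U hU => hU) hdimW2
      exact H583.BR.Trn.trn_of_irr (F := H212.BR.base F) (e := 2) (hinh ⊤ fun U hU => hU) (H621.BR.oneP _ hG)
        (hpolyW hG) (by rw [hcard]; omega) ⟨g, hg⟩
    pw := hpw }

theorem finrank_le_subQ {K U : Type*} [Field K] [AddCommGroup U] [Module K U] (S1 S2 : Submodule K U)
    [FiniteDimensional K S1] [FiniteDimensional K S2] :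
    finrank K S1 ≤ finrank K (H435.BR.SubQ S1 S2) + finrank K S2 := by
  have h9 := Submodule.finrank_quotient_add_finrank (S2.comap S1.subtype)
  have h10 : finrank K (S2.comap S1.subtype) ≤ finrank K S2 :=
    LinearMap.finrank_le_finrank_of_injective (f := (S1.subtype.restrict (p := S2.comap S1.subtype) (q := S2)
      fun x hx => hx)) fun x y h => Subtype.ext (Subtype.ext (congrArg (fun z : S2 => (z : U)) h))
  change finrank K S1 ≤ finrank K (S1 ⧸ S2.comap S1.subtype) + _
  omega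

theorem two_le_WE {F : Type} [Field F] [Finite F] {ι : Type} [Fintype ι] [DecidableEq ι] {Q : QuadraticForm F (ι → F)}
    (K : Type) [Field K] [Algebra F K] (hG : Good Q) (h2 : (2 : F) = 0) (hd : 7 ≤ Fintype.card ι) :
    2 ≤ finrank K (H435.BR.WE Q K) := by
  have h5 := H435.BR.finrank_lam0_ge K hG h2 hd
  have h6 := H435.BR.finrank_scal_le K (ι := ι)
  have h7 : 7 * 6 ≤ Fintype.card ι * (Fintype.card ι - 1) := Nat.mul_le_mul hd (by omega)
  have h8 : 7 * 6 / 2 ≤ Fintype.card ι * (Fintype.card ι - 1) / 2 := Nat.div_le_div_right h7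
  have h9 : finrank K (lam0 (H748.BR.BK Q K)) ≤ finrank K (H435.BR.WE Q K) + finrank K (H435.BR.scal K (ι → K)) :=
    finrank_le_subQ (lam0 (H748.BR.BK Q K)) (H435.BR.scal K (ι → K))
  omega

end Cfsg.Agent.H872.BR
end

-- part: H872/BR/QK
section
/-!
# HUB BR: the quadratic form over `K`

* `QK Q K`, `polar_QK` (`= BK`), `QK_vK`, `QK_rho`.
-/

set_option autoImplicit false

namespace Cfsg.Agent.H872.BR

open Module QuadraticMap Cfsg Cfsg.Agent.H883.BR Cfsg.Agent.H748.BR

variable {F : Type} [Field F] {ι : Type} [Fintype ι] [DecidableEq ι] (Q : QuadraticForm F (ι → F))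
  (K : Type) [Field K] [Algebra F K]

/-- a matrix of the quadratic form -/
theorem exists_mat : ∃ A : Matrix ι ι F, ∀ v, Q v = Matrix.toBilin' A v v := by
  obtain ⟨B, hB⟩ := LinearMap.BilinMap.toQuadraticMap_surjective Q
  refine ⟨LinearMap.BilinForm.toMatrix' B, fun v => ?_⟩
  rw [Matrix.toBilin'_toMatrix', ← hB]
  rfl

/-- a matrix of the quadratic form -/
noncomputable def amat : Matrix ι ι F := Classical.choose (exists_mat Q)

theorem amat_spec (v : ι → F) : Q v = Matrix.toBilin' (amat Q) v v := Classical.choose_spec (exists_mat Q) v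

/-- **the quadratic form over `K`** -/
noncomputable def QK : QuadraticForm K (ι → K) :=
  LinearMap.BilinMap.toQuadraticMap (Matrix.toBilin' ((amat Q).map (algebraMap F K)))

theorem QK_apply (x : ι → K) : QK Q K x = ∑ i, ∑ j, x i * algebraMap F K (amat Q i j) * x j := by
  rw [QK, LinearMap.BilinMap.toQuadraticMap_apply, Matrix.toBilin'_apply]
  rfl

theorem QK_vK (v : ι → F) : QK Q K (vK K v) = algebraMap F K (Q v) := by
  rw [QK_apply, amat_spec, Matrix.toBilin'_apply, map_sum]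
  refine Finset.sum_congr rfl fun i _ => ?_
  rw [map_sum]
  refine Finset.sum_congr rfl fun j _ => ?_
  rw [map_mul, map_mul]
  rfl

theorem polar_QK (x y : ι → K) : polar (QK Q K) x y = BK Q K x y := by
  have h : polarBilin (QK Q K) = BK Q K := by
    apply BK_ext
    intro i j
    have e1 : ∀ i : ι, (Pi.single i 1 : ι → K) = vK K (Pi.single i (1 : F)) := fun i => by
      rw [vK_single, map_one]
    rw [e1, e1, BK_vK, polarBilin_apply_apply, polar, polar, ← vK_add, QK_vK, QK_vK, QK_vK, map_sub, map_sub]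
  exact congrArg (fun C : LinearMap.BilinForm K (ι → K) => C x y) h

variable {Q K}

theorem QK_rho (g : Om Q) (x : ι → K) : QK Q K (rho Q K g x) = QK Q K x := by
  -- the difference is additive
  have hadd : ∀ x y : ι → K, QK Q K (rho Q K g x) = QK Q K x → QK Q K (rho Q K g y) = QK Q K y →
      QK Q K (rho Q K g (x + y)) = QK Q K (x + y) := by
    intro x y hx hy
    rw [map_add, QuadraticMap.map_add (QK Q K), hx, hy, polar_QK, BK_rho, ← polar_QK, ← QuadraticMap.map_add (QK Q K)]
  have hsum : ∀ s : Finset ι, QK Q K (rho Q K g (∑ i ∈ s, x i • Pi.single i (1 : K))) =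
      QK Q K (∑ i ∈ s, x i • Pi.single i (1 : K)) := by
    classical
    intro s
    induction s using Finset.induction_on with
    | empty => simp only [_root_.Finset.sum_empty, _root_.map_zero]
    | insert i s hi ih =>
      rw [Finset.sum_insert hi]
      refine hadd _ _ ?_ ih
      have e1 : (Pi.single i 1 : ι → K) = vK K (Pi.single i (1 : F)) := by rw [vK_single, map_one]
      rw [map_smul, QuadraticMap.map_smul, QuadraticMap.map_smul, e1, rho_vK, QK_vK, QK_vK, matF_isom]
  have h := hsum Finset.univ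
  have hx : ∑ i, x i • Pi.single i (1 : K) = x := by
    funext j
    simp only [Finset.sum_apply, Pi.single_apply, _root_.Finset.sum_apply, _root_.Pi.smul_apply, _root_.Pi.single_apply, _root_.smul_eq_mul, _root_.mul_ite, _root_.mul_one, _root_.MulZeroClass.mul_zero, _root_.Finset.sum_ite_eq, _root_.Finset.mem_univ, ↓ _root_.reduceIte]
  rwa [hx] at h

end Cfsg.Agent.H872.BR
end

-- part: H580/BR/EvenExt
section
/-!
# BR-F-OmE-ext: root elements in the centre of `U`, orthogonal groups in characteristic 2 (helper580)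

`V` a vector space over the perfect field `K` of characteristic 2 with a quadratic form `Q`, whose polar form `B` is
nondegenerate; `U` a finite 2-group of isometries such that the fixed points of `U` on `Λ²₀ V / scalars` are a line:
then some `1 ≠ z ∈ Z(U)` is `1 + v₀ ∧ v₁` with `⟨v₀, v₁⟩` totally singular.
-/

set_option autoImplicit false
set_option linter.unusedSectionVars false

namespace Cfsg.Agent.H580.BR

open Module Cfsg.Agent.H883.BR

universe u v w

section basic

variable {K : Type*} [Field K] {V : Type*} [AddCommGroup V] [Module K V]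

/-- a quadratic form in characteristic 2 with its nondegenerate polar form -/
structure QB (Q : V → K) (B : LinearMap.BilinForm K V) : Prop where
  symm : ∀ x y, B x y = B y x
  alt : ∀ x, B x x = 0
  add : ∀ x y, Q (x + y) = Q x + Q y + B x y
  smul : ∀ (c : K) x, Q (c • x) = c * c * Q x
  nd : ∀ x, (∀ y, B x y = 0) → x = 0

/-- `u ∧ v` as an endomorphism (characteristic 2) -/
def wd (B : LinearMap.BilinForm K V) (u v : V) : Module.End K V := (B v).smulRight u + (B u).smulRight v

theorem wd_apply (B : LinearMap.BilinForm K V) (u v x : V) : wd B u v x = B v x • u + B u x • v := rfl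

variable {Q : V → K} {B : LinearMap.BilinForm K V}

theorem wd_add_right (u v w : V) : wd B u (v + w) = wd B u v + wd B u w := by
  refine LinearMap.ext fun x => ?_
  rw [LinearMap.add_apply, wd_apply, wd_apply, wd_apply, map_add, LinearMap.add_apply, add_smul, smul_add]
  abel

theorem wd_smul_right (c : K) (u v : V) : wd B u (c • v) = c • wd B u v := by
  refine LinearMap.ext fun x => ?_
  rw [LinearMap.smul_apply, wd_apply, wd_apply, map_smul, LinearMap.smul_apply, smul_eq_mul, smul_add, smul_smul,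
    smul_smul, smul_smul, mul_comm (B u x) c]

theorem wd_smul_left (c : K) (u v : V) : wd B (c • u) v = c • wd B u v := by
  refine LinearMap.ext fun x => ?_
  rw [LinearMap.smul_apply, wd_apply, wd_apply, map_smul, LinearMap.smul_apply, smul_eq_mul, smul_add, smul_smul,
    smul_smul, smul_smul, mul_comm (B v x) c]

theorem wd_self [CharP K 2] (u : V) : wd B u u = 0 := by
  refine LinearMap.ext fun x => ?_
  rw [wd_apply, LinearMap.zero_apply, ← add_smul, CharTwo.add_self_eq_zero, zero_smul]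

/-- `(u ∧ v)² = 0` for orthogonal `u`, `v` -/
theorem wd_sq (h : QB Q B) {u v : V} (huv : B u v = 0) : wd B u v * wd B u v = 0 := by
  refine LinearMap.ext fun x => ?_
  rw [Module.End.mul_apply, wd_apply, wd_apply, LinearMap.zero_apply]
  simp only [map_add, map_smul, smul_eq_mul, h.alt, huv, h.symm v u, mul_zero, add_zero, zero_smul]

/-- conjugation by an isometry -/
theorem wd_conj {g g' : Module.End K V} (hg : ∀ x y, B (g x) (g y) = B x y) (hgg : ∀ x, g (g' x) = x) (u v : V) :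
    g * wd B u v * g' = wd B (g u) (g v) := by
  refine LinearMap.ext fun x => ?_
  have h1 : ∀ y, B y (g' x) = B (g y) x := fun y => by
    conv_rhs => rw [← hgg x]
    rw [hg]
  rw [Module.End.mul_apply, Module.End.mul_apply, wd_apply, wd_apply, map_add, map_smul, map_smul, h1, h1]

theorem exists_one (h : QB Q B) {v : V} (hv : v ≠ 0) : ∃ w, B v w = 1 := by
  by_contra hc
  refine hv (h.nd v fun w => ?_)
  by_contra hw
  refine hc ⟨(B v w)⁻¹ • w, ?_⟩
  rw [map_smul, smul_eq_mul, inv_mul_cancel₀ hw]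

/-- `v ∧ y = 0` only for `y ∈ K v` -/
theorem eq_smul_of_wd (h : QB Q B) {v y : V} (hv : v ≠ 0) (h0 : wd B v y = 0) : ∃ c : K, y = c • v := by
  obtain ⟨w, hw⟩ := exists_one h hv
  have h1 := LinearMap.congr_fun h0 w
  rw [wd_apply, hw, one_smul, LinearMap.zero_apply] at h1
  refine ⟨- B y w, ?_⟩
  rw [neg_smul]
  exact (neg_eq_of_add_eq_zero_right h1).symm

end basic

/-! ### fixed vectors of `p`-groups in subquotients -/

section fix

variable {K : Type*} [Field K] {V : Type*} [AddCommGroup V] [Module K V] {p : ℕ} [Fact p.Prime] [CharP K p]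
  {P : Type*} [Group P] [Finite P]

theorem exists_fix_mod (hP : IsPGroup p P) (ρ : P →* Module.End K V) (A A' : Submodule K V)
    (hA : ∀ g, ∀ v ∈ A, ρ g v ∈ A) (hA' : ∀ g, ∀ v ∈ A', ρ g v ∈ A') (hne : ∃ y ∈ A', y ∉ A) :
    ∃ y ∈ A', y ∉ A ∧ ∀ g, ρ g y - y ∈ A := by
  let ρ' : Representation K P (V ⧸ A) :=
    { toFun := fun g => A.mapQ A (ρ g) (hA g)
      map_one' := by
        refine LinearMap.ext fun x => ?_
        obtain ⟨x, rfl⟩ := A.mkQ_surjective x
        rw [Submodule.mkQ_apply, Submodule.mapQ_apply, map_one]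
        rfl
      map_mul' := fun g h => by
        refine LinearMap.ext fun x => ?_
        obtain ⟨x, rfl⟩ := A.mkQ_surjective x
        rw [Module.End.mul_apply, Submodule.mkQ_apply, Submodule.mapQ_apply, Submodule.mapQ_apply,
          Submodule.mapQ_apply, map_mul]
        rfl }
  have hρ' : ∀ g x, ρ' g (A.mkQ x) = A.mkQ (ρ g x) := fun g x => rfl
  obtain ⟨u, hu, hu0, hfix⟩ := Cfsg.Agent.H666.exists_fixed_ne_zero hP ρ' (A'.map A.mkQ)
    (by
      rintro g _ ⟨x, hx, rfl⟩
      rw [hρ']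
      exact ⟨_, hA' g x hx, rfl⟩)
    (by
      obtain ⟨y, hy, hyA⟩ := hne
      rw [Submodule.ne_bot_iff]
      refine ⟨A.mkQ y, ⟨y, hy, rfl⟩, fun h0 => hyA ?_⟩
      rwa [Submodule.mkQ_apply, Submodule.Quotient.mk_eq_zero] at h0)
  obtain ⟨y, hy, rfl⟩ := hu
  refine ⟨y, hy, fun h => hu0 ?_, fun g => ?_⟩
  · rw [Submodule.mkQ_apply, Submodule.Quotient.mk_eq_zero]
    exact h
  · have h := hfix g
    rw [hρ'] at h
    exact (Submodule.Quotient.eq A).1 h

end fix

/-! ### singular vectors in subquotients -/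

section sing

variable {K : Type*} [Field K] [CharP K 2] [PerfectRing K 2] {V : Type*} [AddCommGroup V] [Module K V]
  {Q : V → K} {B : LinearMap.BilinForm K V}

theorem exists_sqrt (a : K) : ∃ b : K, b * b = a := by
  obtain ⟨b, hb⟩ := (frobeniusEquiv K 2).surjective a
  refine ⟨b, ?_⟩
  rw [← hb, frobeniusEquiv_apply, frobenius_def, pow_two]

theorem QB.zero (h : QB Q B) : Q 0 = 0 := by
  have h1 := h.smul 0 0
  rwa [smul_zero, zero_mul, zero_mul] at h1

/-- the orthogonal complement -/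
def orth (B : LinearMap.BilinForm K V) (T : Submodule K V) : Submodule K V where
  carrier := {x | ∀ t ∈ T, B t x = 0}
  zero_mem' := fun t _ => by rw [map_zero]
  add_mem' := fun {x y} hx hy t ht => by rw [map_add, hx t ht, hy t ht, add_zero]
  smul_mem' := fun c x hx t ht => by rw [map_smul, hx t ht, smul_zero]

omit [CharP K 2] [PerfectRing K 2] in
theorem mem_orth {T : Submodule K V} {x : V} : x ∈ orth B T ↔ ∀ t ∈ T, B t x = 0 := Iff.rfl

omit [CharP K 2] [PerfectRing K 2] in
theorem finrank_orth [FiniteDimensional K V] (h : QB Q B) (T : Submodule K V) :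
    finrank K (orth B T) = finrank K V - finrank K T := by
  have hn : B.Nondegenerate := ⟨fun x hx => h.nd x hx, fun x hx => h.nd x fun y => by rw [h.symm]; exact hx y⟩
  have h1 := LinearMap.BilinForm.finrank_orthogonal hn T
  rw [← h1]
  have h2 : orth B T = B.orthogonal T := by
    ext x
    rw [mem_orth, LinearMap.BilinForm.mem_orthogonal_iff]
  rw [h2]

/-- **a singular fixed vector in `T^⊥ / T`**, `T` totally singular -/
theorem exists_sing [FiniteDimensional K V] (h : QB Q B) {U : Type*} [Group U] [Finite U] (hU : IsPGroup 2 U)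
    (ρ : U →* Module.End K V) (hQ : ∀ g x, Q (ρ g x) = Q x) (hB : ∀ g x y, B (ρ g x) (ρ g y) = B x y)
    (T : Submodule K V) (hT : ∀ g, ∀ t ∈ T, ρ g t ∈ T) (hTs : ∀ t ∈ T, Q t = 0)
    (hdim : 2 * finrank K T + 3 ≤ finrank K V) :
    ∃ v, (∀ t ∈ T, B t v = 0) ∧ v ∉ T ∧ Q v = 0 ∧ ∀ g, ρ g v - v ∈ T := by
  have : Fact (Nat.Prime 2) := ⟨Nat.prime_two⟩
  have hgg : ∀ g x, ρ g (ρ g⁻¹ x) = x := fun g x => by
    rw [← Module.End.mul_apply, ← map_mul, mul_inv_cancel, map_one, Module.End.one_apply]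
  have hTB : ∀ s ∈ T, ∀ t ∈ T, B s t = 0 := fun s hs t ht => by
    have h1 := h.add s t
    rw [hTs s hs, hTs t ht, hTs (s + t) (T.add_mem hs ht), zero_add, zero_add] at h1
    exact h1.symm
  have hinv : ∀ S : Submodule K V, (∀ g, ∀ t ∈ S, ρ g t ∈ S) → ∀ g, ∀ x ∈ orth B S, ρ g x ∈ orth B S := by
    intro S hS g x hx t ht
    rw [← hgg g t, hB]
    exact hx _ (hS g⁻¹ t ht)
  -- a vector of `S^⊥` outside `S`
  have hex : ∀ S : Submodule K V, 2 * finrank K S + 1 ≤ finrank K V → ∃ y ∈ orth B S, y ∉ S := by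
    intro S hS
    by_contra hc
    push Not at hc
    have h1 := Submodule.finrank_mono (show orth B S ≤ S from hc)
    rw [finrank_orth h] at h1
    omega
  obtain ⟨y, hy, hyT, hfy⟩ := exists_fix_mod hU ρ T (orth B T) hT (hinv T hT) (hex T (by omega))
  by_cases hQy : Q y = 0
  · exact ⟨y, hy, hyT, hQy, hfy⟩
  -- `T' = T + K y`
  have hT' : ∀ g, ∀ t ∈ T ⊔ K ∙ y, ρ g t ∈ T ⊔ K ∙ y := by
    intro g t ht
    obtain ⟨s, hs, r, hr, rfl⟩ := Submodule.mem_sup.1 ht
    obtain ⟨c, rfl⟩ := Submodule.mem_span_singleton.1 hr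
    rw [map_add, map_smul]
    refine add_mem (Submodule.mem_sup_left (hT g s hs)) (Submodule.smul_mem _ _ ?_)
    have h1 : ρ g y = (ρ g y - y) + y := by abel
    rw [h1]
    exact add_mem (Submodule.mem_sup_left (hfy g)) (Submodule.mem_sup_right (Submodule.mem_span_singleton_self y))
  have hd : finrank K ↥(T ⊔ K ∙ y) ≤ finrank K T + 1 := by
    refine (Submodule.finrank_add_le_finrank_add_finrank T (K ∙ y)).trans ?_
    have h1 := finrank_span_le_card (R := K) ({y} : Set V)
    rw [Set.toFinset_singleton, Finset.card_singleton] at h1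
    omega
  obtain ⟨x, hx, hxT, hfx⟩ := exists_fix_mod hU ρ (T ⊔ K ∙ y) (orth B (T ⊔ K ∙ y)) hT' (hinv _ hT')
    (hex _ (by omega))
  have hxy : B x y = 0 := by
    rw [h.symm]
    exact hx y (Submodule.mem_sup_right (Submodule.mem_span_singleton_self y))
  obtain ⟨c, hc⟩ := exists_sqrt (Q x / Q y)
  have hcy : c * c * Q y = Q x := by rw [hc, div_mul_cancel₀ _ hQy]
  have hv0 : Q (x + c • y) = 0 := by
    rw [h.add, h.smul, hcy, map_smul, hxy, smul_zero, add_zero, CharTwo.add_self_eq_zero]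
  have hvo : ∀ t ∈ T, B t (x + c • y) = 0 := fun t ht => by
    rw [map_add, map_smul, hx t (Submodule.mem_sup_left ht), hy t ht, smul_zero, add_zero]
  have hvy : B (x + c • y) y = 0 := by
    rw [map_add, LinearMap.add_apply, map_smul, LinearMap.smul_apply, hxy, h.alt, smul_zero, add_zero]
  refine ⟨x + c • y, hvo, fun hv => hxT ?_, hv0, fun g => ?_⟩
  · have h1 : x = (x + c • y) - c • y := by abel
    rw [h1]
    exact sub_mem (Submodule.mem_sup_left hv) (Submodule.mem_sup_right
      (Submodule.smul_mem _ _ (Submodule.mem_span_singleton_self y)))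
  · have h1 : ρ g (x + c • y) - (x + c • y) ∈ T ⊔ K ∙ y := by
      have h2 : ρ g (x + c • y) - (x + c • y) = (ρ g x - x) + c • (ρ g y - y) := by
        rw [map_add, map_smul, smul_sub]
        abel
      rw [h2]
      exact add_mem (hfx g) (Submodule.smul_mem _ _ (Submodule.mem_sup_left (hfy g)))
    obtain ⟨t, ht, r, hr, htr⟩ := Submodule.mem_sup.1 h1
    obtain ⟨d, rfl⟩ := Submodule.mem_span_singleton.1 hr
    have h3 : ρ g (x + c • y) = (x + c • y) + (t + d • y) := by
      rw [htr]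
      abel
    have h4 := hQ g (x + c • y)
    rw [h3, h.add, hv0, zero_add, h.add, hTs t ht, zero_add, h.smul, map_smul, map_add, map_smul,
      show B t y = 0 from hy t ht, h.symm (x + c • y) t, hvo t ht, hvy, smul_zero, add_zero, add_zero,
      add_zero] at h4
    have h5 : d = 0 := by
      rcases mul_eq_zero.1 h4 with h6 | h6
      · exact mul_self_eq_zero.1 h6
      · exact absurd h6 hQy
    rw [h5, zero_smul, add_zero] at htr
    rw [← htr]
    exact ht

/-- the square of a vector -/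
def sq (B : LinearMap.BilinForm K V) (u : V) : Module.End K V := (B u).smulRight u

/-- a self-adjoint `X` is `x₀² +` alternating -/
theorem exists_vec [FiniteDimensional K V] (h : QB Q B) {X : Module.End K V} (hX : ∀ x y, B (X x) y = B x (X y)) :
    ∃ x₀ : V, ∀ v, B (X v) v = B x₀ v * B x₀ v := by
  have hadd : ∀ a b : K, (frobeniusEquiv K 2).symm (a + b) = (frobeniusEquiv K 2).symm a + (frobeniusEquiv K 2).symm b :=
    fun a b => map_add _ a b
  let φ : V →ₗ[K] K :=
    { toFun := fun v => (frobeniusEquiv K 2).symm (B (X v) v)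
      map_add' := fun v w => by
        rw [← hadd]
        have h3 : B (X (v + w)) (v + w) = B (X v) v + B (X w) w := by
          simp only [map_add, LinearMap.add_apply]
          rw [hX w v, h.symm w (X v)]
          have h2 := CharTwo.add_self_eq_zero (B (X v) w)
          linear_combination h2
        rw [h3]
      map_smul' := fun c v => by
        have h3 : B (X (c • v)) (c • v) = c ^ 2 * B (X v) v := by
          simp only [map_smul, LinearMap.smul_apply, smul_eq_mul]
          ring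
        have h4 : (frobeniusEquiv K 2).symm (c ^ 2) = c := by
          rw [← frobenius_def, ← frobeniusEquiv_apply, RingEquiv.symm_apply_apply]
        rw [h3, map_mul, h4, RingHom.id_apply, smul_eq_mul] }
  have hn : B.Nondegenerate := ⟨fun x hx => h.nd x hx, fun x hx => h.nd x fun y => by rw [h.symm]; exact hx y⟩
  refine ⟨(LinearMap.BilinForm.toDual B hn).symm φ, fun v => ?_⟩
  have h1 : B ((LinearMap.BilinForm.toDual B hn).symm φ) v = φ v := by
    rw [LinearMap.BilinForm.apply_toDual_symm_apply]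
  rw [h1]
  have h3 : frobeniusEquiv K 2 (φ v) = B (X v) v := RingEquiv.apply_symm_apply _ _
  rw [← h3, frobeniusEquiv_apply, frobenius_def, pow_two]

/-- **alternating operators of square 0** are sums of `e ∧ f`, `e ⊥ f` -/
theorem mem_of_sq [FiniteDimensional K V] (h : QB Q B) (L : Submodule K (Module.End K V))
    (hL : ∀ e f : V, B e f = 0 → wd B e f ∈ L) (n : ℕ) : ∀ Y : Module.End K V, (∀ x y, B (Y x) y = B x (Y y)) →
    (∀ x, B (Y x) x = 0) → Y * Y = 0 → finrank K (LinearMap.range Y) ≤ n → Y ∈ L := by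
  induction n with
  | zero =>
    intro Y _ _ _ hr
    have h1 : LinearMap.range Y = ⊥ := Submodule.finrank_eq_zero.1 (Nat.le_zero.1 hr)
    rw [LinearMap.range_eq_bot.1 h1]
    exact L.zero_mem
  | succ n ih =>
    intro Y hs ha hq hr
    by_cases hY : Y = 0
    · rw [hY]
      exact L.zero_mem
    obtain ⟨v, hv⟩ : ∃ v, Y v ≠ 0 := by
      by_contra hc
      push Not at hc
      exact hY (LinearMap.ext hc)
    obtain ⟨w, hw⟩ := exists_one h hv
    have hYY : ∀ x, Y (Y x) = 0 := fun x => by rw [← Module.End.mul_apply, hq, LinearMap.zero_apply]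
    have hef : B (Y v) (Y w) = 0 := by rw [hs, hYY, map_zero]
    -- `Y' = Y - e ∧ f`
    have hY' : ∀ x, (Y - wd B (Y v) (Y w)) x = Y x - (B (Y w) x • Y v + B (Y v) x • Y w) := fun x => rfl
    have h1 : ∀ x y, B ((Y - wd B (Y v) (Y w)) x) y = B x ((Y - wd B (Y v) (Y w)) y) := by
      intro x y
      rw [hY', hY']
      simp only [map_sub, map_add, map_smul, LinearMap.sub_apply, LinearMap.add_apply, LinearMap.smul_apply,
        smul_eq_mul]
      rw [hs x y, h.symm x (Y v), h.symm x (Y w)]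
      ring
    have h2 : ∀ x, B ((Y - wd B (Y v) (Y w)) x) x = 0 := by
      intro x
      rw [hY']
      simp only [map_sub, map_add, map_smul, LinearMap.sub_apply, LinearMap.add_apply, LinearMap.smul_apply,
        smul_eq_mul]
      rw [ha x]
      have h5 := CharTwo.add_self_eq_zero (B (Y w) x * B (Y v) x)
      linear_combination -h5
    have h3 : (Y - wd B (Y v) (Y w)) * (Y - wd B (Y v) (Y w)) = 0 := by
      have e1 : Y * wd B (Y v) (Y w) = 0 := LinearMap.ext fun x => by
        rw [Module.End.mul_apply, wd_apply, map_add, map_smul, map_smul, hYY, hYY, smul_zero, smul_zero, add_zero,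
          LinearMap.zero_apply]
      have e2 : wd B (Y v) (Y w) * Y = 0 := LinearMap.ext fun x => by
        rw [Module.End.mul_apply, wd_apply, hs, hs v, hYY, map_zero, map_zero, zero_smul, zero_smul, add_zero,
          LinearMap.zero_apply]
      rw [sub_mul, mul_sub, mul_sub, hq, e1, e2, wd_sq h hef, sub_zero, sub_zero]
    have h4 : finrank K (LinearMap.range (Y - wd B (Y v) (Y w))) ≤ n := by
      have h5 := LinearMap.finrank_range_add_finrank_ker Y
      have h6 := LinearMap.finrank_range_add_finrank_ker (Y - wd B (Y v) (Y w))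
      have h7 : LinearMap.ker Y < LinearMap.ker (Y - wd B (Y v) (Y w)) := by
        rw [SetLike.lt_iff_le_and_exists]
        refine ⟨fun x hx => ?_, v, ?_, hv⟩
        · rw [LinearMap.mem_ker] at hx ⊢
          rw [hY', hx, hs, hs v, hx, map_zero, map_zero, zero_smul, zero_smul, add_zero, sub_zero]
        · rw [LinearMap.mem_ker, hY', hs, h.symm w, hw, ha, zero_smul, one_smul, add_zero, sub_self]
      have h8 := Submodule.finrank_lt_finrank_of_lt h7
      omega
    have h9 := L.add_mem (ih _ h1 h2 h3 h4) (hL _ _ hef)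
    rwa [sub_add_cancel] at h9

theorem eq_zero_of_nil [Nontrivial V] {a : Module.End K V} (ha : a * a = 0) {c s : K}
    (h : (c • a + s • (1 : Module.End K V)) * (c • a + s • (1 : Module.End K V)) = 0) : s = 0 := by
  have h1 : (c • a + s • (1 : Module.End K V)) * (c • a + s • (1 : Module.End K V)) = (s * s) • 1 := by
    have h2 : (c • a + s • (1 : Module.End K V)) * (c • a + s • (1 : Module.End K V)) =
        (c * c) • (a * a) + (c * s + c * s) • a + (s * s) • 1 := by
      rw [add_mul, mul_add, mul_add, smul_mul_smul_comm, smul_mul_smul_comm, smul_mul_smul_comm, smul_mul_smul_comm,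
        mul_one, one_mul, mul_one, mul_comm s c, add_smul]
      abel
    rw [h2, ha, CharTwo.add_self_eq_zero, smul_zero, zero_smul, zero_add, zero_add]
  rw [h1] at h
  rcases smul_eq_zero.1 h with h2 | h2
  · exact mul_self_eq_zero.1 h2
  · exact absurd h2 one_ne_zero

/-- **the root element in the centre of `U`** -/
theorem exists_root [FiniteDimensional K V] (h : QB Q B) (hdim : 5 ≤ finrank K V) {U : Type*} [Group U] [Finite U]
    (hU : IsPGroup 2 U) [Nontrivial U] (ρ : U →* Module.End K V) (hinj : Function.Injective ρ)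
    (hQ : ∀ g x, Q (ρ g x) = Q x) (L : Submodule K (Module.End K V)) (hL : ∀ e f, B e f = 0 → wd B e f ∈ L)
    (X₀ : Module.End K V)
    (hline : ∀ X ∈ L, (∀ g, ρ g * X * ρ g⁻¹ = X) → ∃ c s : K, X = c • X₀ + s • (1 : Module.End K V)) :
    ∃ z ∈ Subgroup.center U, z ≠ 1 ∧ ∃ v₀ v₁ : V, Q v₀ = 0 ∧ Q v₁ = 0 ∧ B v₀ v₁ = 0 ∧ wd B v₀ v₁ ≠ 0 ∧
      ρ z = 1 + wd B v₀ v₁ ∧ ∃ c s : K, c ≠ 0 ∧ wd B v₀ v₁ = c • X₀ + s • (1 : Module.End K V) := by
  have : Fact (Nat.Prime 2) := ⟨Nat.prime_two⟩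
  have hnt : Nontrivial V := Module.nontrivial_of_finrank_pos (R := K) (by omega)
  have hB : ∀ g x y, B (ρ g x) (ρ g y) = B x y := fun g x y => by
    have h1 := h.add (ρ g x) (ρ g y)
    rw [← map_add, hQ, hQ, hQ, h.add x y] at h1
    exact (add_left_cancel h1).symm
  have hgg : ∀ g x, ρ g (ρ g⁻¹ x) = x := fun g x => by
    rw [← Module.End.mul_apply, ← map_mul, mul_inv_cancel, map_one, Module.End.one_apply]
  have hconj : ∀ g u v, ρ g * wd B u v * ρ g⁻¹ = wd B (ρ g u) (ρ g v) := fun g u v => wd_conj (hB g) (hgg g) u v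
  -- `v₀`
  obtain ⟨v₀, -, hv0, hQ0, hf0⟩ := exists_sing h hU ρ hQ hB ⊥
    (fun g t ht => by rw [(Submodule.mem_bot K).1 ht, map_zero]; exact zero_mem _)
    (fun t ht => by rw [(Submodule.mem_bot K).1 ht]; exact h.zero) (by rw [finrank_bot]; omega)
  have hv0 : v₀ ≠ 0 := fun hc => hv0 (by rw [hc]; exact zero_mem _)
  have hf0 : ∀ g, ρ g v₀ = v₀ := fun g => sub_eq_zero.1 ((Submodule.mem_bot K).1 (hf0 g))
  -- `v₁`
  obtain ⟨v₁, ho, hv1, hQ1, hf1⟩ := exists_sing h hU ρ hQ hB (K ∙ v₀)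
    (fun g t ht => by
      obtain ⟨c, rfl⟩ := Submodule.mem_span_singleton.1 ht
      rw [map_smul, hf0]
      exact ht)
    (fun t ht => by
      obtain ⟨c, rfl⟩ := Submodule.mem_span_singleton.1 ht
      rw [h.smul, hQ0, mul_zero])
    (by
      have h1 := finrank_span_le_card (R := K) ({v₀} : Set V)
      rw [Set.toFinset_singleton, Finset.card_singleton] at h1
      omega)
  have h01 : B v₀ v₁ = 0 := ho v₀ (Submodule.mem_span_singleton_self v₀)
  have hf1 : ∀ g, ∃ c : K, ρ g v₁ = v₁ + c • v₀ := fun g => by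
    obtain ⟨c, hc⟩ := Submodule.mem_span_singleton.1 (hf1 g)
    exact ⟨c, by rw [hc]; abel⟩
  have ha0 : wd B v₀ v₁ ≠ 0 := fun hc => by
    obtain ⟨c, hc⟩ := eq_smul_of_wd h hv0 hc
    exact hv1 (by rw [hc]; exact Submodule.smul_mem _ _ (Submodule.mem_span_singleton_self v₀))
  have hsq0 := wd_sq h h01
  have hfa : ∀ g, ρ g * wd B v₀ v₁ * ρ g⁻¹ = wd B v₀ v₁ := fun g => by
    obtain ⟨c, hc⟩ := hf1 g
    rw [hconj, hf0, hc, wd_add_right, wd_smul_right, wd_self, smul_zero, add_zero]
  obtain ⟨c₁, s₁, hc1⟩ := hline _ (hL _ _ h01) hfa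
  have hc10 : c₁ ≠ 0 := by
    intro hc
    rw [hc, zero_smul, zero_add] at hc1
    have h1 : ((0 : K) • (0 : Module.End K V) + s₁ • (1 : Module.End K V)) *
        ((0 : K) • (0 : Module.End K V) + s₁ • (1 : Module.End K V)) = 0 := by
      rw [zero_smul, zero_add, ← hc1]
      exact hsq0
    have h2 := eq_zero_of_nil (mul_zero _) h1
    rw [h2, zero_smul] at hc1
    exact ha0 hc1
  -- fixed elements of square 0 are multiples of `a₀`
  have hmul : ∀ X ∈ L, (∀ g, ρ g * X * ρ g⁻¹ = X) → X * X = 0 → ∃ c : K, X = c • wd B v₀ v₁ := by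
    intro X hX hf hX2
    obtain ⟨c, s, hcs⟩ := hline X hX hf
    have h1 : X = (c * c₁⁻¹) • wd B v₀ v₁ + (s - c * c₁⁻¹ * s₁) • (1 : Module.End K V) := by
      rw [hcs, hc1, smul_add, smul_smul, smul_smul, sub_smul, mul_assoc, inv_mul_cancel₀ hc10, mul_one]
      abel
    rw [h1] at hX2
    have h2 := eq_zero_of_nil hsq0 hX2
    rw [h2, zero_smul, add_zero] at h1
    exact ⟨_, h1⟩
  -- fixed vectors are orthogonal to `v₀`
  have hfixo : ∀ x, (∀ g, ρ g x = x) → B x v₀ = 0 := by
    intro x hx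
    by_contra hx0
    -- singular
    have hx' : ∃ x', (∀ g, ρ g x' = x') ∧ Q x' = 0 ∧ B x' v₀ ≠ 0 := by
      refine ⟨x + (Q x / B x v₀) • v₀, fun g => by rw [map_add, map_smul, hx, hf0], ?_, ?_⟩
      · rw [h.add, h.smul, hQ0, mul_zero, add_zero, map_smul, smul_eq_mul, div_mul_cancel₀ _ hx0,
          CharTwo.add_self_eq_zero]
      · rw [map_add, LinearMap.add_apply, map_smul, LinearMap.smul_apply, h.alt, smul_zero, add_zero]
        exact hx0
    obtain ⟨y, hfy, hQy, hy0⟩ := hx'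
    -- `v₁' = v₁ + e v₀` orthogonal to `y`
    have hy1 : B y (v₁ + (B y v₁ / B y v₀) • v₀) = 0 := by
      rw [map_add, map_smul, smul_eq_mul, div_mul_cancel₀ _ hy0, CharTwo.add_self_eq_zero]
    set v := v₁ + (B y v₁ / B y v₀) • v₀ with hv
    have hvf : ∀ g, ρ g v = v := by
      intro g
      obtain ⟨c, hc⟩ := hf1 g
      have h1 : ρ g v = v + c • v₀ := by
        rw [hv, map_add, map_smul, hf0, hc]
        abel
      have h2 := hB g y v
      rw [hfy, h1, map_add, map_smul, hy1, zero_add, smul_eq_mul] at h2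
      rcases mul_eq_zero.1 h2 with h3 | h3
      · rw [h1, h3, zero_smul, add_zero]
      · exact absurd h3 hy0
    have hv00 : B v v₀ = 0 := by
      rw [hv, map_add, LinearMap.add_apply, map_smul, LinearMap.smul_apply, h.alt, h.symm, h01, smul_zero, add_zero]
    have hva : wd B v₀ v = wd B v₀ v₁ := by
      rw [hv, wd_add_right, wd_smul_right, wd_self, smul_zero, add_zero]
    obtain ⟨c, hc⟩ := hmul (wd B y v) (hL _ _ hy1) (fun g => by rw [hconj, hfy, hvf]) (wd_sq h hy1)
    have h3 : v = 0 := by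
      refine h.nd v fun w => ?_
      have h4 := LinearMap.congr_fun hc w
      rw [← hva, LinearMap.smul_apply, wd_apply, wd_apply] at h4
      have h5 := congrArg (fun t => B t v₀) h4
      simp only [map_add, map_smul, LinearMap.add_apply, LinearMap.smul_apply, smul_eq_mul, hv00, h.alt, mul_zero,
        add_zero] at h5
      rcases mul_eq_zero.1 h5 with h6 | h6
      · exact h6
      · exact absurd h6 hy0
    refine hv1 ?_
    have h4 : v₁ = v - (B y v₁ / B y v₀) • v₀ := by
      rw [hv]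
      abel
    rw [h4, h3, zero_sub]
    exact neg_mem (Submodule.smul_mem _ _ (Submodule.mem_span_singleton_self v₀))
  -- fixed vectors lie in `⟨v₀, v₁⟩`
  have hfix : ∀ x, (∀ g, ρ g x = x) → ∃ c d : K, x = c • v₀ + d • v₁ := by
    intro x hx
    have hx0 : B v₀ x = 0 := by rw [h.symm]; exact hfixo x hx
    obtain ⟨d, hd⟩ := hmul (wd B v₀ x) (hL _ _ hx0) (fun g => by rw [hconj, hf0, hx]) (wd_sq h hx0)
    have h1 : wd B v₀ (x - d • v₁) = 0 := by
      have h2 : wd B v₀ (x - d • v₁) = wd B v₀ x + (-d) • wd B v₀ v₁ := by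
        rw [sub_eq_add_neg, ← neg_smul, wd_add_right, wd_smul_right]
      rw [h2, hd, ← add_smul, add_neg_cancel, zero_smul]
    obtain ⟨c, hc⟩ := eq_smul_of_wd h hv0 h1
    exact ⟨c, d, by rw [← hc]; abel⟩
  -- an involution in the centre
  obtain ⟨z, hzc, hz1, hz2⟩ : ∃ z ∈ Subgroup.center U, z ≠ 1 ∧ z * z = 1 := by
    have hc := hU.center_nontrivial
    have h1 : 2 ∣ Nat.card (Subgroup.center U) := by
      obtain ⟨k, hk⟩ := (IsPGroup.iff_card (p := 2)).1 (hU.to_subgroup (Subgroup.center U))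
      rw [hk]
      refine dvd_pow_self 2 fun hk0 => ?_
      rw [hk0, pow_zero] at hk
      exact absurd hk (Finite.one_lt_card (α := Subgroup.center U)).ne'
    obtain ⟨z, hz⟩ := exists_prime_orderOf_dvd_card' 2 h1
    refine ⟨z, z.2, fun h2 => ?_, ?_⟩
    · have h3 : z = 1 := Subtype.ext h2
      rw [h3, orderOf_one] at hz
      omega
    · have h3 := pow_orderOf_eq_one z
      rw [hz, pow_two] at h3
      exact congrArg Subtype.val h3
  -- `X = z - 1`
  set X : Module.End K V := ρ z - 1 with hX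
  have hzX : ρ z = 1 + X := by
    rw [hX]
    abel
  have hXv : ∀ x, ρ z x = x + X x := fun x => by rw [hzX]; rfl
  have h2X : ∀ x : V, x + x = 0 := fun x => by
    rw [← two_smul K, CharTwo.two_eq_zero, zero_smul]
  have hXX : ∀ x, X (X x) = 0 := fun x => by
    have h1 : ρ z (ρ z x) = x := by rw [← Module.End.mul_apply, ← map_mul, hz2, map_one, Module.End.one_apply]
    rw [hXv, hXv, map_add] at h1
    have h3 : X (X x) = (x + X x + (X x + X (X x))) - x - (X x + X x) := by abel
    rw [h3, h1, h2X, sub_self, sub_zero]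
  have hsym : ∀ x y, B (X x) y = B x (X y) := fun x y => by
    have h1 : B (ρ z x) y = B x (ρ z y) := by
      have h3 := hB z x (ρ z y)
      rw [← Module.End.mul_apply (ρ z) (ρ z) y, ← map_mul, hz2, map_one, Module.End.one_apply] at h3
      exact h3
    rw [hXv, hXv, map_add, map_add, LinearMap.add_apply] at h1
    exact add_left_cancel h1
  have hQX : ∀ x, Q (X x) = B x (X x) := fun x => by
    have h1 := hQ z x
    rw [hXv, h.add, add_assoc] at h1
    have h3 : Q (X x) + B x (X x) = 0 := by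
      have h4 : Q x + (Q (X x) + B x (X x)) = Q x + 0 := by rw [h1, add_zero]
      exact add_left_cancel h4
    exact CharTwo.add_eq_zero.1 h3
  have hXf : ∀ g x, X (ρ g x) = ρ g (X x) := fun g x => by
    have h1 : ρ z (ρ g x) = ρ g (ρ z x) := by
      rw [← Module.End.mul_apply, ← Module.End.mul_apply, ← map_mul, ← map_mul,
        (Subgroup.mem_center_iff.1 hzc g)]
    rw [hXv, hXv, map_add] at h1
    exact add_left_cancel h1
  obtain ⟨x₀, hx₀⟩ := exists_vec h hsym
  have hself : ∀ a b : K, a * a = b * b → a = b := fun a b hab => by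
    have h1 : (a + b) * (a + b) = 0 := by
      have h3 := CharTwo.add_self_eq_zero (a * b)
      have h4 := CharTwo.add_self_eq_zero (a * a)
      linear_combination h4 + h3 - hab
    exact CharTwo.add_eq_zero.1 (mul_self_eq_zero.1 h1)
  -- `x₀` is fixed
  have hx₀f : ∀ g, ρ g x₀ = x₀ := by
    intro g
    refine sub_eq_zero.1 (h.nd _ fun v => ?_)
    rw [map_sub, LinearMap.sub_apply, sub_eq_zero]
    have h1 : B (ρ g x₀) v = B x₀ (ρ g⁻¹ v) := by
      conv_lhs => rw [← hgg g v]
      rw [hB]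
    rw [h1]
    refine hself _ _ ?_
    rw [← hx₀, ← hx₀, hXf, hB]
  obtain ⟨α, γ, hαγ⟩ := hfix x₀ hx₀f
  have hXx₀ : X x₀ = 0 := by
    refine h.nd _ fun w => ?_
    rw [hsym]
    have h1 := hx₀ (X w)
    rw [hXX, map_zero, LinearMap.zero_apply] at h1
    exact mul_self_eq_zero.1 h1.symm
  have hBX : ∀ x, B x₀ (X x) = 0 := fun x => by rw [← hsym, hXx₀, map_zero, LinearMap.zero_apply]
  -- `Y = X - x₀²`
  have hY : ∀ x, (X - sq B x₀) x = X x - B x₀ x • x₀ := fun x => rfl
  have hYs : ∀ x y, B ((X - sq B x₀) x) y = B x ((X - sq B x₀) y) := by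
    intro x y
    rw [hY, hY]
    simp only [map_sub, map_smul, LinearMap.sub_apply, LinearMap.smul_apply, smul_eq_mul]
    rw [hsym, h.symm x x₀]
    ring
  have hYa : ∀ x, B ((X - sq B x₀) x) x = 0 := by
    intro x
    rw [hY]
    simp only [map_sub, map_smul, LinearMap.sub_apply, LinearMap.smul_apply, smul_eq_mul]
    rw [hx₀, sub_self]
  have hYY : (X - sq B x₀) * (X - sq B x₀) = 0 := by
    refine LinearMap.ext fun x => ?_
    rw [Module.End.mul_apply, hY, hY, map_sub, map_smul, hXX, hXx₀, map_sub, hBX, map_smul, h.alt]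
    simp only [smul_zero, sub_zero, zero_smul, LinearMap.zero_apply]
  have hYL : X - sq B x₀ ∈ L := mem_of_sq h L hL _ _ hYs hYa hYY le_rfl
  have hYf : ∀ g, ρ g * (X - sq B x₀) * ρ g⁻¹ = X - sq B x₀ := by
    intro g
    refine LinearMap.ext fun x => ?_
    rw [Module.End.mul_apply, Module.End.mul_apply, hY, hY, map_sub, map_smul, hXf, hgg, hx₀f]
    have h1 : B x₀ (ρ g⁻¹ x) = B x₀ x := by
      conv_rhs => rw [← hx₀f g, ← hgg g x]
      rw [hB]
    rw [h1]
  obtain ⟨β, hβ⟩ := hmul _ hYL hYf hYY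
  have hXe : ∀ x, X x = B x₀ x • x₀ + β • (B v₁ x • v₀ + B v₀ x • v₁) := fun x => by
    have h1 := LinearMap.congr_fun hβ x
    rw [hY, LinearMap.smul_apply, wd_apply] at h1
    rw [← h1]
    abel
  have hQs : ∀ c d : K, Q (c • v₀ + d • v₁) = 0 := fun c d => by
    rw [h.add, h.smul, h.smul, hQ0, hQ1]
    simp only [map_smul, LinearMap.smul_apply, h01, mul_zero, smul_zero, add_zero]
  have hx₀0 : x₀ = 0 := by
    refine h.nd _ fun x => ?_
    have h1 : Q (X x) = 0 := by
      have h3 : X x = (B x₀ x * α + β * B v₁ x) • v₀ + (B x₀ x * γ + β * B v₀ x) • v₁ := by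
        have h4 := hXe x
        generalize B x₀ x = s at h4 ⊢
        rw [h4, hαγ]
        simp only [smul_add, smul_smul, add_smul]
        abel
      rw [h3]
      exact hQs _ _
    rw [hQX, ← hsym, hx₀] at h1
    exact mul_self_eq_zero.1 h1
  have hXw : X = wd B (β • v₀) v₁ := by
    rw [wd_smul_left]
    refine LinearMap.ext fun x => ?_
    rw [hXe, hx₀0, map_zero, LinearMap.zero_apply, zero_smul, zero_add, LinearMap.smul_apply, wd_apply]
  have hX0 : X ≠ 0 := fun hc => hz1 (hinj (by rw [hzX, hc, add_zero, map_one]))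
  have hβ0 : β ≠ 0 := fun hc => hX0 (by rw [hXw, wd_smul_left, hc, zero_smul])
  refine ⟨z, hzc, hz1, β • v₀, v₁, ?_, hQ1, ?_, ?_, ?_, β * c₁, β * s₁, mul_ne_zero hβ0 hc10, ?_⟩
  · rw [h.smul, hQ0, mul_zero]
  · rw [map_smul, LinearMap.smul_apply, h01, smul_zero]
  · rw [← hXw]
    exact hX0
  · rw [← hXw]
    exact hzX
  · rw [wd_smul_left, mul_smul, mul_smul, ← smul_add, ← hc1]

end sing

/-! ### the field `ext` -/

section ext

variable {K : Type u} [Field K] [CharP K 2] [PerfectRing K 2] {V W : Type u} [AddCommGroup V] [Module K V]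
  [AddCommGroup W] [Module K W] {Q : V → K} {B : LinearMap.BilinForm K V}

/-- **the field `ext` of `Fam`** for `W = L / (L ∩ scalars)`, `L ≤ End V` containing all `e ∧ f`, `e ⊥ f`. -/
theorem ext_even [FiniteDimensional K V] (h : QB Q B) (hdim : 5 ≤ finrank K V) {G : Type w} [Group G] [Finite G]
    (ρ : G →* Module.End K V) (hinj : Function.Injective ρ) (hQ : ∀ g x, Q (ρ g x) = Q x)
    (L : Submodule K (Module.End K V)) (hL : ∀ e f, B e f = 0 → wd B e f ∈ L)
    (hLG : ∀ g, ∀ X ∈ L, ad ρ g X ∈ L) (σ : G →* Module.End K W) (π : L →ₗ[K] W)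
    (hπs : Function.Surjective π) (hπk : ∀ X : L, π X = 0 ↔ ∃ s : K, (X : Module.End K V) = s • 1)
    (hσ : ∀ g (X : L), σ g (π X) = π ⟨ad ρ g X, hLG g X X.2⟩) {d : ℕ}
    (hS : ∀ S : Submodule K (Module.End K V), _root_.Cfsg.Agent.H883.BR.Inv (ad ρ) ⊤ S →
      (∃ X ∈ S, X ∈ L ∧ ∀ s : K, X ≠ s • (1 : Module.End K V)) → d ≤ finrank K S) :
    ∀ M U : Subgroup G, U ≤ M → IsPGroup 2 U → U ≠ ⊥ → ∀ w : W, w ≠ 0 →
    (∀ v : W, (∀ u ∈ U, σ u v = v) ↔ ∃ c : K, v = c • w) →
    ∃ z ∈ U, ∃ a : Module.End K V, a ≠ 0 ∧ a * a = 0 ∧ ρ z = 1 + a ∧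
      (∀ b ∈ M, (∀ u ∈ U, b * u * b⁻¹ ∈ U) → ∀ c : K, σ b w = c • w → ad ρ b a = c • a) ∧
      ∀ S : Submodule K (Module.End K V), _root_.Cfsg.Agent.H883.BR.Inv (ad ρ) ⊤ S → a ∈ S → d ≤ Module.finrank K S := by
  intro M U hUM hU hU1 w hw0 hw
  have hnt : Nontrivial V := Module.nontrivial_of_finrank_pos (R := K) (by omega)
  have hUn : Nontrivial U := (Subgroup.nontrivial_iff_ne_bot U).2 hU1
  obtain ⟨X₀, hX₀⟩ := hπs w
  -- the fixed line in terms of endomorphisms
  have hline : ∀ X ∈ L, (∀ g : U, (ρ.comp U.subtype) g * X * (ρ.comp U.subtype) g⁻¹ = X) →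
      ∃ c s : K, X = c • (X₀ : Module.End K V) + s • (1 : Module.End K V) := by
    intro X hX hf
    have h1 : ∀ u ∈ U, σ u (π ⟨X, hX⟩) = π ⟨X, hX⟩ := fun u hu => by
      rw [hσ]
      congr 1
      exact Subtype.ext (hf ⟨u, hu⟩)
    obtain ⟨c, hc⟩ := (hw _).1 h1
    have h2 : π (⟨X, hX⟩ - c • X₀) = 0 := by rw [map_sub, map_smul, hc, hX₀, sub_self]
    obtain ⟨s, hs⟩ := (hπk _).1 h2
    refine ⟨c, s, ?_⟩
    rw [← hs]
    change X = c • (X₀ : Module.End K V) + (X - c • (X₀ : Module.End K V))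
    abel
  obtain ⟨z, -, -, v₀, v₁, hQ0, hQ1, h01, ha0, hz, c₁, s₁, hc1, hc⟩ := exists_root h hdim hU (ρ.comp U.subtype)
    (hinj.comp Subtype.val_injective) (fun g x => hQ g x) L hL X₀ hline
  have hsq := wd_sq h h01
  refine ⟨z, z.2, wd B v₀ v₁, ha0, hsq, hz, fun b hb hbU c hbc => ?_, fun S hSi haS => hS S hSi
    ⟨_, haS, hL _ _ h01, fun s hs => ?_⟩⟩
  · -- `b a b⁻¹ = c a + scalar`, and its square is zero
    have h1 : π ⟨ad ρ b X₀, hLG b X₀ X₀.2⟩ = c • π X₀ := by
      rw [← hσ, hX₀, hbc]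
    have h2 : π (⟨ad ρ b X₀, hLG b X₀ X₀.2⟩ - c • X₀) = 0 := by rw [map_sub, map_smul, h1, sub_self]
    obtain ⟨s, hs⟩ := (hπk _).1 h2
    have h3 : ad ρ b (X₀ : Module.End K V) = c • (X₀ : Module.End K V) + s • (1 : Module.End K V) := by
      rw [← hs]
      change _ = c • (X₀ : Module.End K V) + (ad ρ b X₀ - c • (X₀ : Module.End K V))
      abel
    have h4 : ad ρ b (1 : Module.End K V) = 1 := by
      rw [ad_apply, mul_one, ← map_mul, mul_inv_cancel, map_one]
    have h5 : ad ρ b (wd B v₀ v₁) = c • wd B v₀ v₁ + (c₁ * s + s₁ - c * s₁) • (1 : Module.End K V) := by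
      conv_lhs => rw [hc, map_add, map_smul, map_smul, h3, h4]
      rw [hc]
      simp only [smul_add, smul_smul, sub_smul, add_smul, mul_comm c c₁]
      abel
    have h6 : ad ρ b (wd B v₀ v₁) * ad ρ b (wd B v₀ v₁) = 0 := by
      have h7 : ρ b⁻¹ * ρ b = 1 := by rw [← map_mul, inv_mul_cancel, map_one]
      rw [ad_apply]
      calc ρ b * wd B v₀ v₁ * ρ b⁻¹ * (ρ b * wd B v₀ v₁ * ρ b⁻¹) =
          ρ b * wd B v₀ v₁ * (ρ b⁻¹ * ρ b) * (wd B v₀ v₁ * ρ b⁻¹) := by simp only [mul_assoc]
        _ = ρ b * (wd B v₀ v₁ * wd B v₀ v₁) * ρ b⁻¹ := by rw [h7, mul_one]; simp only [mul_assoc]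
        _ = 0 := by rw [hsq, mul_zero, zero_mul]
    rw [h5] at h6
    rw [h5, eq_zero_of_nil hsq h6, zero_smul, add_zero]
  · have h1 : ((0 : K) • (0 : Module.End K V) + s • (1 : Module.End K V)) *
        ((0 : K) • (0 : Module.End K V) + s • (1 : Module.End K V)) = 0 := by
      rw [zero_smul, zero_add, ← hs]
      exact hsq
    rw [eq_zero_of_nil (mul_zero _) h1, zero_smul] at hs
    exact ha0 hs

end ext

end Cfsg.Agent.H580.BR
end

-- part: H872/BR/FamOmE
section
/-!
# HUB BR: the family `Ω(Q)`, `q` even: `fam_omega_even`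
-/

set_option autoImplicit false

namespace Cfsg.Agent.H872.BR

open Module Cfsg Cfsg.Agent.H883.BR Cfsg.Agent.H748.BR Cfsg.Agent.LieClassical.OrthTrans

/-- the traces of `sgE` lie in `F` -/
theorem trF_sgE {F : Type} [Field F] [Fintype F] {ι : Type} [Fintype ι] [DecidableEq ι] {Q : QuadraticForm F (ι → F)}
    (g : Om Q) : (LinearMap.trace (AlgebraicClosure F) (H435.BR.WE Q (AlgebraicClosure F))
      (H435.BR.sgE Q (AlgebraicClosure F) g) :) ∈ (algebraMap F (AlgebraicClosure F)).fieldRange := by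
  refine trace_quot (S := lam0 (BK Q (AlgebraicClosure F))) (fun τ hτ X hX => frE_lam0 hτ hX)
    ((Submodule.mkQ _ : _)) (Submodule.mkQ_surjective _) (fun X => ?_) g (fun X hX => lam0_inv g trivial X hX)
    (fun X => H435.BR.sgE_mk _ g X)
  rw [Submodule.mkQ_apply, H435.BR.subQ_mk_eq_zero, H435.BR.mem_scal]

/-- the quadratic form and its polar form -/
theorem qb_om {F : Type} [Field F] {ι : Type} [Fintype ι] [DecidableEq ι] (Q : QuadraticForm F (ι → F))
    (K : Type) [Field K] [CharP K 2] [Algebra F K] (hQ : ∀ v, (∀ w, QuadraticMap.polar Q v w = 0) → v = 0) :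
    H580.BR.QB (fun v => QK Q K v) (BK Q K) where
  symm x y := BK_comm x y
  alt x := by rw [← polar_QK, QuadraticMap.polar_self, two_nsmul, CharTwo.add_self_eq_zero]
  add x y := by rw [← polar_QK, QuadraticMap.map_add (QK Q K)]
  smul c x := by rw [QuadraticMap.map_smul, smul_eq_mul]
  nd x hx := BK_nondeg hQ hx

/-- **The family `Ω(Q)`, `q` even.** -/
theorem fam_omega_even (n : ℕ) (hn : 8 ≤ n) : ∃ q₀ : ℕ, ∀ (F : Type) [Field F] [Fintype F], q₀ ≤ Fintype.card F →
    Even (Fintype.card F) → ∀ (ι : Type) [Fintype ι] [DecidableEq ι] (Q : QuadraticForm F (ι → F)),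
    Fintype.card ι = n → (∀ v, (∀ w, QuadraticMap.polar Q v w = 0) → v = 0) →
    HasFam.{0, 0} n (Fintype.card F) (Omega F (fun v : ι → F => Q v)) := by
  refine ⟨3 ^ n * (n * (n - 1) / 2 - 1).factorial + 3 + n + 2 * n ^ 2, ?_⟩
  intro F _ _ hq heven ι _ _ Q hc hQ
  have hc2 := charP_two heven
  have h2 : (2 : F) = 0 := CharTwo.two_eq_zero
  have hG : Good Q := good_om hQ (by omega)
  have hq1 : 1 ≤ 3 ^ n * (n * (n - 1) / 2 - 1).factorial :=
    Nat.mul_pos (pow_pos (by norm_num) n) (Nat.factorial_pos _)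
  have hq3 : 3 ≤ Nat.card F := by
    rw [Nat.card_eq_fintype_card]
    omega
  have hbig : 8 * 7 / 2 ≤ n * (n - 1) / 2 := Nat.div_le_div_right (Nat.mul_le_mul hn (by omega))
  have hd : n.choose 2 = (n * (n - 1) / 2 - 1) + 1 := by
    rw [Nat.choose_two_right]
    omega
  have hK2 : CharP (AlgebraicClosure F) 2 := H212.BR.charP_closure F 2
  refine ⟨2, n * (n - 1) / 2 - 1, AlgebraicClosure F, inferInstance, H212.BR.base F, ι → AlgebraicClosure F,
    H435.BR.WE Q (AlgebraicClosure F), inferInstance, inferInstance, inferInstance, inferInstance,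
    rho Q (AlgebraicClosure F), H435.BR.sgE Q (AlgebraicClosure F), ?_⟩
  refine fam_of Q hc hn hQ heven hd (by omega) (by omega) (by omega) ?_ (two_le_WE _ hG h2 (by omega)) ?_ ?_ ?_ ?_
    (fun g => trF_sgE g) (H212.BR.pw_om _ hQ (by omega))
  · rw [← hc]
    exact H435.BR.finrank_WE_le _
  · intro hG
    exact H435.BR.sgE_polyDeg _ hG hq3
  · intro M hM
    exact H435.BR.sgE_irr _ hG h2 hq3 (by omega) hM
  · intro z c hz
    exact H435.BR.sgE_cen _ hz
  · intro M U hUM hU hU1 _
    have hP := H435.BR.pol_om (AlgebraicClosure F) hG h2 (by omega)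
    refine H580.BR.ext_even (qb_om Q (AlgebraicClosure F) hQ) ?_ (rho Q (AlgebraicClosure F)) rho_inj
      (fun g x => QK_rho g x) (lam0 (BK Q (AlgebraicClosure F))) ?_ (fun g X hX => lam0_inv g trivial X hX)
      ((H435.BR.sgE Q (AlgebraicClosure F) :)) ((Submodule.mkQ _ : _)) (Submodule.mkQ_surjective _) ?_
      (fun g X => H435.BR.sgE_mk _ g X) ?_ M U hUM hU hU1
    · rw [Module.finrank_fintype_fun_eq_card]
      omega
    · intro e f hef
      have h1 : H580.BR.wd (BK Q (AlgebraicClosure F)) e f = wdg (BK Q (AlgebraicClosure F)) e f :=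
        H435.BR.rt_eq_wdg hP.two e f
      rw [h1]
      exact Submodule.subset_span ⟨e, f, hef, rfl⟩
    · intro X
      rw [Submodule.mkQ_apply, H435.BR.subQ_mk_eq_zero, H435.BR.mem_scal]
    · rintro S hS ⟨X, hXS, hXL, hXs⟩
      rw [← hc]
      exact H435.BR.ome_le_finrank _ hG h2 hq3 (by omega) hS hXS (H435.BR.lam0_le_lam hP hXL) hXs

end Cfsg.Agent.H872.BR
end

private theorem dce_0bc706b80fac : _root_.True := by
  try have : _root_.True := by simp only [_root_.Cfsg.Agent.H435.BR.jv.eq_1]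
  try have : _root_.True := by simp only [_root_.Cfsg.Agent.H872.BR.QK.eq_1]
  try have : _root_.True := by simp only [_root_.Cfsg.Agent.H435.BR.scal.eq_1]
  try have : _root_.True := by simp only [_root_.Cfsg.Agent.H435.BR.GeoF.perp2.eq_1]
  exact _root_.True.intro
end

-- part: H127/RG/L13U_mg
section
prune_inst 0x147029244940120000180006c000000258000400000004002c210e0203086022cd02a8410190201b40a2804040010008101000008040000004200400001c0000108012043140a000000098000000000000000000000000000000000000034000000000000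
set_option linter.all false
open scoped Cfsg.Agent.FastGrp

-- part: H127/RG/L13U
section
/-!
# S5715: U3 (the stronger form of L13)
-/

set_option autoImplicit false

namespace Cfsg.Agent.H127.RG

open Module Cfsg.Agent.H847.Bs Cfsg.Agent.H50.RG Cfsg.Agent.H94.RG.U

/-- a group acting freely on `A \ 0` -/
theorem card_dvd_of_free {F V : Type*} [Field F] [AddCommGroup V] [Module F V] [Finite F] [Module.Finite F V]
    {e : ℕ} {Z : Subgroup (V ≃ₗ[F] V)} {A : Submodule F V} (hA : finrank F A = e) (hinv : ∀ z ∈ Z, _root_.Cfsg.Agent.H847.Bs.Inv z A)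
    (hfix : ∀ z ∈ Z, z ≠ 1 → ∀ a ∈ A, z a = a → a = 0) : Nat.card Z ∣ Nat.card F ^ e - 1 := by
  classical
  have hfV : Finite V := Module.finite_of_finite F
  let S := {a : V // a ∈ A ∧ a ≠ 0}
  let act : MulAction Z S :=
    { smul := fun z a => ⟨z.1 a.1, hinv z.1 z.2 a.1 a.2.1, fun h => a.2.2 (by
        rwa [LinearEquiv.map_eq_zero_iff] at h)⟩
      one_smul := fun a => Subtype.ext rfl
      mul_smul := fun z w a => Subtype.ext rfl }
  have hst : ∀ a : S, MulAction.stabilizer Z a = ⊥ := by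
    intro a
    rw [Subgroup.eq_bot_iff_forall]
    intro z hz
    by_contra h1
    have h2 : z.1 a.1 = a.1 := congrArg Subtype.val (MulAction.mem_stabilizer_iff.1 hz)
    exact a.2.2 (hfix z.1 z.2 (fun h3 => h1 (Subtype.ext h3)) a.1 a.2.1 h2)
  have h1 : Nat.card S = Nat.card (MulAction.orbitRel.Quotient Z S) * Nat.card Z := by
    rw [← Nat.card_prod]
    exact Nat.card_congr (MulAction.selfEquivOrbitsQuotientProd hst)
  have h2 : Nat.card S = Nat.card F ^ e - 1 := by
    have h3 : Nat.card A = Nat.card F ^ e := by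
      rw [Module.natCard_eq_pow_finrank (K := F) (V := A), hA]
    have h4 : Nat.card S = Nat.card {a : A // a ≠ 0} :=
      Nat.card_congr
        { toFun := fun a => ⟨⟨a.1, a.2.1⟩, fun h => a.2.2 (congrArg Subtype.val h)⟩
          invFun := fun a => ⟨a.1.1, a.1.2, fun h => a.2 (Subtype.ext h)⟩
          left_inv := fun _ => rfl
          right_inv := fun _ => rfl }
    have : Fintype A := Fintype.ofFinite A
    have : Fintype {a : A // a ≠ 0} := Fintype.ofFinite _
    rw [h4, ← h3, Nat.card_eq_fintype_card, Nat.card_eq_fintype_card, Fintype.card_subtype_compl,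
      Fintype.card_subtype_eq]
  rw [← h2, h1]
  exact dvd_mul_left _ _

theorem u3 : U3 := by
  intro F V _ _ _ _ _ e M he hM hdim y A hgd
  have hG := finite_gl F V
  obtain ⟨z, hzy, hcard, hpr, hnA⟩ := l23' hM hgd.big
  have hz : z ∈ Subgroup.zpowers y := hzy (Subgroup.mem_zpowers z)
  have hzA : _root_.Cfsg.Agent.H847.Bs.Inv z A := Inv.of_zpowers hgd.irr.inv hz
  -- `z` is trivial on `V / A`
  have htr : z ∈ TrQ A := by
    by_contra hn
    obtain ⟨B, hB1, hB2, hB3, hB4⟩ := exists_section he hz (hpr z (Subgroup.mem_zpowers z)) hgd.irr.inv hn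
    have h1 : e ∣ finrank F B := by
      have h2 : finrank F A ≤ finrank F B := Submodule.finrank_mono hB2.le
      have h3 : finrank F B = finrank F B - finrank F A + e := by
        have := hgd.dim
        omega
      rw [h3]
      exact dvd_add hB4 dvd_rfl
    by_cases hBV : finrank F B < finrank F V
    · exact hgd.no B hBV hB1 hB2 hB3 h1
    · have h2 := Submodule.finrank_le B
      have h3 : finrank F B = finrank F V := by omega
      exact hdim (h3 ▸ h1)
  -- fixed points in `A`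
  have hfix : ∀ w ∈ Subgroup.zpowers z, (¬ ∀ a ∈ A, w a = a) → ∀ a ∈ A, w a = a → a = 0 :=
    fun w hw hn => fix_bot (hzy hw) hgd.irr hn
  set C : Submodule F V := LinearMap.ker ((z : V →ₗ[F] V) - LinearMap.id) with hCdef
  have hCmem : ∀ v, v ∈ C ↔ z v = v := by
    intro v
    rw [hCdef, LinearMap.mem_ker]
    exact sub_eq_zero
  have hsurj : ∀ w ∈ Subgroup.zpowers z, (¬ ∀ a ∈ A, w a = a) → ∀ a ∈ A, ∃ b ∈ A, w b - b = a := by
    intro w hw hn a ha
    have hwA : _root_.Cfsg.Agent.H847.Bs.Inv w A := Inv.of_zpowers hgd.irr.inv (hzy hw)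
    let f : A →ₗ[F] A := ((w : V →ₗ[F] V) - LinearMap.id).restrict
      (fun v hv => A.sub_mem (hwA v hv) hv)
    have hf : ∀ v : A, ((f v : A) : V) = w v - v := fun v => rfl
    have hinj : Function.Injective f := by
      rw [← LinearMap.ker_eq_bot, LinearMap.ker_eq_bot']
      intro v hv
      have h1 : w v - v = 0 := by rw [← hf, hv]; rfl
      exact Subtype.ext (hfix w hw hn v v.2 (sub_eq_zero.1 h1))
    obtain ⟨b, hb⟩ := (LinearMap.injective_iff_surjective.1 hinj) ⟨a, ha⟩
    exact ⟨b, b.2, by rw [← hf, hb]⟩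
  have hcompl : IsCompl A C := by
    constructor
    · rw [Submodule.disjoint_def]
      intro a ha hc
      exact hfix z (Subgroup.mem_zpowers z) hnA a ha ((hCmem a).1 hc)
    · rw [codisjoint_iff, eq_top_iff]
      intro x _
      obtain ⟨b, hb, hb2⟩ := hsurj z (Subgroup.mem_zpowers z) hnA _ (htr x)
      rw [Submodule.mem_sup]
      refine ⟨b, hb, x - b, (hCmem _).2 ?_, by abel⟩
      rw [map_sub]
      have h1 : z x = z b - b + x := by rw [hb2]; abel
      rw [h1]
      abel
  have hCz : ∀ w ∈ Subgroup.zpowers z, ∀ c ∈ C, w c = c := by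
    intro w hw c hc
    obtain ⟨j, rfl⟩ := (isOfFinOrder_of_finite z).mem_powers_iff_mem_zpowers.2 hw
    have hc' := (hCmem c).1 hc
    have : ∀ j : ℕ, (z ^ j) c = c := by
      intro j
      induction j with
      | zero => rfl
      | succ j ih =>
        rw [pow_succ]
        show (z ^ j) (z c) = c
        rw [hc', ih]
    exact this j
  have hne : ∀ w ∈ Subgroup.zpowers z, w ≠ 1 → ¬ ∀ a ∈ A, w a = a := by
    intro w hw hw1 h
    apply hw1
    ext x
    obtain ⟨a, ha, c, hc, rfl⟩ := Submodule.mem_sup.1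
      ((codisjoint_iff.1 hcompl.codisjoint) ▸ (Submodule.mem_top : x ∈ (⊤ : Submodule F V)))
    rw [map_add, h a ha, hCz w hw c hc]
    rfl
  have happ : ∀ (w : V ≃ₗ[F] V) (x : V), w (w⁻¹ x) = x := fun w x => w.apply_symm_apply x
  have hinvA : ∀ w ∈ Subgroup.zpowers z, ∀ a ∈ A, w⁻¹ a ∈ A := fun w hw =>
    Inv.of_zpowers hgd.irr.inv (hzy (inv_mem hw))
  have hext : ∀ g : V ≃ₗ[F] V, (∀ a ∈ A, g a = a) → (∀ c ∈ C, g c = c) → g = 1 := by
    intro g h1 h2
    ext x
    obtain ⟨a, ha, c, hc, rfl⟩ := Submodule.mem_sup.1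
      ((codisjoint_iff.1 hcompl.codisjoint) ▸ (Submodule.mem_top : x ∈ (⊤ : Submodule F V)))
    rw [map_add, h1 a ha, h2 c hc]
    rfl
  have hZS : ZS e (Subgroup.zpowers z) A C := by
    refine ⟨⟨z, rfl⟩, ?_, ?_, hgd.dim, fun w hw => Inv.of_zpowers hgd.irr.inv (hzy hw), ?_, ?_, hCz⟩
    · intro h
      rw [h, Subgroup.card_bot] at hcard
      omega
    · unfold pd
      classical
      rw [Finset.mem_filter, Nat.mem_divisors]
      refine ⟨⟨?_, ?_⟩, ?_⟩
      · exact card_dvd_of_free (hgd.dim) (fun w hw => Inv.of_zpowers hgd.irr.inv (hzy hw))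
          (fun w hw hw1 => hfix w hw (hne w hw hw1))
      · have h1 : 2 ≤ Nat.card F := Finite.one_lt_card
        have h2 : 2 ^ 1 ≤ Nat.card F ^ e := (Nat.pow_le_pow_left h1 1).trans
          (Nat.pow_le_pow_right (by omega) (by omega))
        omega
      · intro r hr hrz
        rw [Nat.card_zpowers] at hrz
        exact hpr z (Subgroup.mem_zpowers z) r hr hrz
    · intro w hw hw1 W hWA hW
      have hwo : orderOf w ≠ 1 := fun h => hw1 (orderOf_eq_one_iff.1 h)
      have hr := Nat.minFac_prime hwo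
      obtain ⟨j, hj1, hj2⟩ := exists_pow_prime hr (Nat.minFac_dvd (orderOf w))
      have hwj : w ^ j ∈ Subgroup.zpowers z := pow_mem hw j
      have h1 : e ∣ finrank F W := by
        have h2 := dvd_sub_of he hr (hpr w hw _ hr (Nat.minFac_dvd _)) hj1 (bot_le : ⊥ ≤ W)
          (fun v hv => by rw [Submodule.mem_bot] at hv ⊢; rw [hv, map_zero]) (Inv.pow hW j)
          (fun b hb hwb => by
            rw [Submodule.mem_bot]
            exact hfix _ hwj (hne _ hwj hj2) b (hWA hb) hwb)
        rwa [finrank_bot, Nat.sub_zero] at h2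
      rcases Nat.eq_zero_or_pos (finrank F W) with h0 | h0
      · left
        exact Submodule.finrank_eq_zero.1 h0
      · right
        apply Submodule.eq_of_le_of_finrank_le hWA
        rw [hgd.dim]
        exact Nat.le_of_dvd h0 h1
    · exact fun w hw hw1 => hfix w hw (hne w hw hw1)
  refine ⟨Subgroup.zpowers z, C, hzy, hcard, hcompl, hZS, ⟨?_, ?_⟩, ⟨?_, ?_⟩⟩
  · rintro w hw g ⟨hg1, hg2⟩
    have hwA : _root_.Cfsg.Agent.H847.Bs.Inv w A := Inv.of_zpowers hgd.irr.inv (hzy hw)
    refine ⟨fun x => ?_, fun a ha => ?_⟩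
    · show w (g (w⁻¹ x)) - x ∈ A
      have h1 : w (g (w⁻¹ x)) - x = w (g (w⁻¹ x) - w⁻¹ x) := by rw [map_sub, happ]
      rw [h1]
      exact hwA _ (hg1 _)
    · show w (g (w⁻¹ a)) = a
      rw [hg2 _ (hinvA w hw a ha), happ]
  · rintro w hw hw1 g ⟨hg1, hg2⟩ hcom
    have hcom' : ∀ x, w (g x) = g (w x) := by
      intro x
      have h1 : w * g = g * w := mul_inv_eq_iff_eq_mul.1 hcom
      exact congrArg (fun k : V ≃ₗ[F] V => k x) h1
    refine hext g hg2 fun c hc => ?_
    have h1 : w (g c - c) = g c - c := by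
      rw [map_sub, hcom', hCz w hw c hc]
    exact sub_eq_zero.1 (hfix w hw (hne w hw hw1) _ (hg1 c) h1)
  · rintro w hw g ⟨hg1, hg2⟩
    refine ⟨fun x => ?_, fun c hc => ?_⟩
    · show w (g (w⁻¹ x)) - x ∈ C
      have h1 : w (g (w⁻¹ x)) - x = w (g (w⁻¹ x) - w⁻¹ x) := by rw [map_sub, happ]
      rw [h1, hCz w hw _ (hg1 _)]
      exact hg1 _
    · show w (g (w⁻¹ c)) = c
      have h1 : w⁻¹ c = c := hCz _ (inv_mem hw) c hc
      rw [h1, hg2 c hc, hCz w hw c hc]
  · rintro w hw hw1 g ⟨hg1, hg2⟩ hcom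
    have hcom' : ∀ x, w (g x) = g (w x) := by
      intro x
      have h1 : w * g = g * w := mul_inv_eq_iff_eq_mul.1 hcom
      exact congrArg (fun k : V ≃ₗ[F] V => k x) h1
    refine hext g (fun a ha => ?_) hg2
    obtain ⟨b, hb, rfl⟩ := hsurj w hw (hne w hw hw1) a ha
    have h1 : w (g b - b) = g b - b := hCz w hw _ (hg1 b)
    rw [map_sub, hcom'] at h1
    rw [map_sub]
    have h2 : g (w b) = (g (w b) - w b) + w b := by abel
    rw [h2, h1]
    abel

end Cfsg.Agent.H127.RG
end

-- part: H358/RG/WittSp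
section
/-!
# S5714, RG-L05: Witt's theorem for symplectic spaces (helper358)
-/

set_option autoImplicit false

namespace Cfsg.Agent.H358.RG

open Module Cfsg.Agent.H847.Bs Cfsg.Agent.H50.RG

section

variable {F V : Type*} [Field F] [AddCommGroup V] [Module F V]

/-- the bilinear form -/
def spB {Φ : Frm F V} (h : IsSp Φ) : LinearMap.BilinForm F V :=
  LinearMap.mk₂ F Φ.B Φ.add_left Φ.smul_left Φ.add_right (fun a x y => by rw [Φ.smul_right, h.s]; rfl)

theorem sForm {Φ : Frm F V} (h : IsSp Φ) : H91.Symp.SForm (spB h) where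
  nd := ⟨fun x hx => h.nd x hx, fun x hx => h.nd x fun y => Φ.refl _ _ (hx y)⟩
  alt x := h.alt x

end

/-- RG-L05 -/
theorem l05 : L05 := by
  intro F V _ _ _ _ _ Φ h k₀ _ k _ b b' li li' hb hb'
  have h1 : ∀ i, b i ∈ Submodule.span F (Set.range b) := fun i => Submodule.subset_span ⟨i, rfl⟩
  have h2 : ∀ i, b' i ∈ Submodule.span F (Set.range b') := fun i => Submodule.subset_span ⟨i, rfl⟩
  obtain ⟨g, hg, hgb⟩ := H91.Symp.witt_family (sForm h) li li' fun i j =>
    (hb.1 _ (h1 i) _ (h1 j)).trans (hb'.1 _ (h2 i) _ (h2 j)).symm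
  exact ⟨g, ⟨hg, fun x => by rw [h.q, h.q]⟩, hgb⟩

end Cfsg.Agent.H358.RG
end

-- part: H689/RG/WittH
section
/-! # S5714, RG-L06: Witt's theorem for frames of totally isotropic subspaces of hermitian spaces, determinant one -/

set_option autoImplicit false

namespace Cfsg.Agent.H689.RG

open Module Cfsg.Agent.H847.Bs Cfsg.Agent.H50.RG

theorem l06 : L06 := by
  intro F V _ _ _ _ _ r Φ hΦ k₀ hk₀ k hk b b' hb hb' hT hT'
  have := Fintype.ofFinite F
  have hF : Fintype.card F = r ^ 2 := by rw [← Nat.card_eq_fintype_card]; exact hΦ.card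
  have hm : ∀ (c : Fin k → V) (i : Fin k), c i ∈ Submodule.span F (Set.range c) := fun c i =>
    Submodule.subset_span ⟨i, rfl⟩
  obtain ⟨g, hg, hd, hgb⟩ := Cfsg.Agent.H450.UF.witt_su_small (Cfsg.Agent.H450.Bs.hform_toB hF hΦ) hb hb'
    (fun i j => (hT.1 _ (hm b j) _ (hm b i)).trans (hT'.1 _ (hm b' j) _ (hm b' i)).symm)
    (by rw [Fintype.card_fin]; omega)
  exact ⟨g, ⟨(Cfsg.Agent.H450.Bs.iso_iff hF hΦ).2 hg, hd⟩, hgb⟩

end Cfsg.Agent.H689.RG
end

-- part: H755/RG/Sing
section
/-!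
# S5714, RG-L08 (helper755): totally isotropic subspaces

`l08 : L08`.
-/

set_option autoImplicit false

namespace Cfsg.Agent.H755.RG.Sing

open Module Cfsg.Agent.H847.Bs Cfsg.Agent.H50.RG
open Cfsg.Agent.H440.Bs (perp mem_perp mem_perp' finrank_perp B_zero_left B_zero_right B_comm_zero two_mul_finrank_le)

/-- norms of the field with `r²` elements -/
theorem exists_norm {F : Type*} [Field F] [Finite F] {r : ℕ} (hr : Nat.card F = r ^ 2) {c : F} (hc : c ^ r = c) :
    ∃ a : F, a ^ (r + 1) = c := by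
  by_cases hc0 : c = 0
  · exact ⟨0, by rw [hc0, zero_pow (by omega)]⟩
  have h1 : 1 < Nat.card F := Finite.one_lt_card
  have hr2 : 2 ≤ r := by
    rcases Nat.lt_or_ge r 2 with h | h
    · interval_cases r <;> omega
    · exact h
  obtain ⟨g, hg⟩ := IsCyclic.exists_generator (α := Fˣ)
  obtain ⟨k, hk⟩ := (mem_powers_iff_mem_zpowers.2 (hg (Units.mk0 c hc0)) : Units.mk0 c hc0 ∈ Submonoid.powers g)
  have hk' : g ^ k = Units.mk0 c hc0 := hk
  have hord : orderOf g = (r - 1) * (r + 1) := by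
    rw [orderOf_eq_card_of_forall_mem_zpowers hg, Nat.card_units, hr]
    obtain ⟨s, rfl⟩ : ∃ s, r = s + 1 := ⟨r - 1, by omega⟩
    rw [Nat.add_sub_cancel]
    have : (s + 1) ^ 2 = s * (s + 1 + 1) + 1 := by ring
    omega
  have h2 : g ^ (k * (r - 1)) = 1 := by
    rw [pow_mul, hk']
    apply Units.ext
    rw [Units.val_pow_eq_pow_val, Units.val_mk0, Units.val_one]
    have h3 : c ^ (r - 1) * c = 1 * c := by
      rw [← pow_succ, Nat.sub_add_cancel (by omega), hc, one_mul]
    exact mul_right_cancel₀ hc0 h3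
  have h3 := orderOf_dvd_of_pow_eq_one h2
  rw [hord, mul_comm k] at h3
  obtain ⟨l, hl⟩ := Nat.dvd_of_mul_dvd_mul_left (by omega) h3
  refine ⟨((g ^ l : Fˣ) : F), ?_⟩
  rw [← Units.val_pow_eq_pow_val, ← pow_mul, mul_comm, ← hl, hk', Units.val_mk0]

variable {F V : Type*} [Field F] [Finite F] [AddCommGroup V] [Module F V]

/-- the three kinds of spaces -/
def Kind (Φ : Frm F V) : Prop :=
  IsSp Φ ∨ (∃ r, IsHerm r Φ) ∨ (∃ Q : QuadraticForm F V, (frmQ Q).Nd ∧ Φ = frmQ Q)

omit [Finite F] in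
theorem Kind.nd {Φ : Frm F V} (h : Kind Φ) : Φ.Nd := by
  rcases h with h | ⟨r, h⟩ | ⟨Q, h, rfl⟩
  · exact h.nd
  · exact h.nd
  · exact h

/-- hermitian spaces: isotropic vectors -/
theorem herm_mem {r : ℕ} {Φ : Frm F V} (h : IsHerm r Φ) (W : Submodule F V) (hW : 2 ≤ finrank F W) :
    ∃ w ∈ W, w ≠ 0 ∧ Φ.B w w = 0 := by
  have : Module.Finite F W := Module.finite_of_finrank_pos (by omega)
  let bs := Module.finBasis F W
  let v : Fin 2 → W := fun i => bs (Fin.castLE hW i)
  have hv : LinearIndependent F v := bs.linearIndependent.comp _ (Fin.castLE_injective hW)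
  by_cases hx : Φ.B (v 0) (v 0) = 0
  · exact ⟨v 0, (v 0).2, fun h0 => hv.ne_zero 0 (Subtype.ext h0), hx⟩
  -- the component of `v 1` orthogonal to `v 0`
  set a : F := Φ.B (v 1) (v 0) / Φ.B (v 0) (v 0) with ha
  set z : V := (v 1 : V) - a • (v 0 : V) with hz
  have hzW : z ∈ W := W.sub_mem (v 1).2 (W.smul_mem _ (v 0).2)
  have hli : ∀ b c : F, b • (v 0 : V) + c • (v 1 : V) = 0 → b = 0 ∧ c = 0 := by
    intro b c hbc
    have h1 := Fintype.linearIndependent_iff.1 hv ![b, c] (by
      rw [Fin.sum_univ_two]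
      exact Subtype.ext hbc)
    exact ⟨h1 0, h1 1⟩
  have hzo : Φ.B z (v 0) = 0 := by
    have h1 : Φ.B z (v 0) = Φ.B (v 1) (v 0) - a * Φ.B (v 0) (v 0) := by
      rw [hz, sub_eq_add_neg, Φ.add_left, ← neg_smul, Φ.smul_left, neg_mul, ← sub_eq_add_neg]
    rw [h1, ha, div_mul_cancel₀ _ hx, sub_self]
  have hzo' : Φ.B (v 0) z = 0 := Φ.refl _ _ hzo
  have hfix : ∀ x, Φ.B x x ^ r = Φ.B x x := fun x => (h.symm x x).symm
  have hr0 : r ≠ 0 := by
    rintro rfl
    have h1 := h.card
    have h2 : 1 < Nat.card F := Finite.one_lt_card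
    omega
  set c : F := -(Φ.B z z / Φ.B (v 0) (v 0)) with hc
  have hcr : c ^ r = c := by
    have hneg : (-1 : F) ^ r = -1 := by
      have h1 : Φ.s (-1) = (-1) ^ r := h.s _
      have h2 : Φ.s (-1) = -1 := by
        have h3 := Φ.smul_right (-1) (v 0 : V) (v 0)
        have h4 : Φ.B (v 0) (v 0 : V) + Φ.B (v 0) ((-1 : F) • (v 0 : V)) = 0 := by
          rw [← Φ.add_right, neg_one_smul, add_neg_cancel]
          exact B_zero_right Φ _
        rw [h3] at h4
        have h5 : (1 + Φ.s (-1)) * Φ.B (v 0) (v 0 : V) = 0 := by linear_combination h4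
        have h6 := (mul_eq_zero.1 h5).resolve_right hx
        linear_combination h6
      rw [← h1, h2]
    rw [hc, neg_pow, hneg, div_pow, hfix, hfix]
    ring
  obtain ⟨b, hb⟩ := exists_norm h.card hcr
  refine ⟨b • (v 0 : V) + z, W.add_mem (W.smul_mem _ (v 0).2) hzW, ?_, ?_⟩
  · intro h0
    have h1 : (b - a) • (v 0 : V) + (1 : F) • (v 1 : V) = 0 := by
      rw [← h0, hz, sub_smul, one_smul]
      abel
    exact one_ne_zero (hli _ _ h1).2
  · rw [Φ.add_left, Φ.add_right, Φ.add_right, Φ.smul_left, Φ.smul_left, Φ.smul_right, Φ.smul_right, hzo, hzo', h.s]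
    have h1 : b * (b ^ r * Φ.B (v 0 : V) (v 0)) = c * Φ.B (v 0 : V) (v 0) := by rw [← hb]; ring
    rw [h1, hc, mul_zero, mul_zero, add_zero, zero_add, neg_mul, div_mul_cancel₀ _ hx]
    ring

/-- a subspace of dimension three contains a nonzero singular vector -/
theorem sing_mem {Φ : Frm F V} (h : Kind Φ) (W : Submodule F V) (hW : 3 ≤ finrank F W) :
    ∃ w ∈ W, w ≠ 0 ∧ Φ.B w w = 0 ∧ ∀ c : F, Φ.q (c • w) = 0 := by
  rcases h with h | ⟨r, h⟩ | ⟨Q, h, rfl⟩
  · have : Nontrivial W := Module.nontrivial_of_finrank_pos (R := F) (by omega)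
    obtain ⟨w, hw⟩ := exists_ne (0 : W)
    exact ⟨w, w.2, fun h0 => hw (Subtype.ext h0), h.alt _, fun c => h.q _⟩
  · obtain ⟨w, hw, hw0, hww⟩ := herm_mem h W (by omega)
    exact ⟨w, hw, hw0, hww, fun c => h.q _⟩
  · obtain ⟨w, hw, hw0, hww⟩ := Cfsg.Agent.LieClassical.OrthFinite.exists_sing_mem (Q := Q) W hW
    refine ⟨w, hw, hw0, ?_, fun c => ?_⟩
    · show QuadraticMap.polar Q w w = 0
      rw [QuadraticMap.polar_self, hww, smul_zero]
    · show Q (c • w) = 0
      rw [QuadraticMap.map_smul, hww, smul_zero]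

/-- totally isotropic subspaces of every dimension -/
theorem exists_ti [Module.Finite F V] {Φ : Frm F V} (h : Kind Φ) : ∀ k, 2 * k + 2 ≤ finrank F V →
    ∃ A : Submodule F V, Φ.TI A ∧ finrank F A = k
  | 0, _ => by
    refine ⟨⊥, ⟨?_, ?_⟩, finrank_bot F V⟩
    · intro x hx y _
      rw [(Submodule.mem_bot F).1 hx]
      exact B_zero_left Φ y
    · intro x hx
      rw [(Submodule.mem_bot F).1 hx]
      exact Cfsg.Agent.H440.Bs.q_zero Φ
  | k + 1, hk => by
    obtain ⟨A, hA, hAk⟩ := exists_ti h k (by omega)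
    obtain ⟨A', hA'⟩ := A.exists_isCompl
    have h1 := finrank_perp Φ h.nd A
    have h2 := Submodule.finrank_add_eq_of_isCompl hA'
    have h3 := Submodule.finrank_sup_add_finrank_inf_eq A' (perp Φ A)
    have h4 : finrank F ↥(A' ⊔ perp Φ A) ≤ finrank F V := Submodule.finrank_le _
    obtain ⟨w, hw, hw0, hww, hq⟩ := sing_mem h (A' ⊓ perp Φ A) (by omega)
    have hwA : w ∉ A := by
      intro hw1
      have : w ∈ A ⊓ A' := ⟨hw1, hw.1⟩
      rw [hA'.inf_eq_bot] at this
      exact hw0 ((Submodule.mem_bot F).1 this)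
    have hwp : ∀ x ∈ A, Φ.B w x = 0 := hw.2
    have hwp' : ∀ x ∈ A, Φ.B x w = 0 := fun x hx => Φ.refl _ _ (hwp x hx)
    refine ⟨A ⊔ Submodule.span F {w}, ⟨?_, ?_⟩, ?_⟩
    · intro x hx y hy
      obtain ⟨a, ha, x', hx', rfl⟩ := Submodule.mem_sup.1 hx
      obtain ⟨b, hb, y', hy', rfl⟩ := Submodule.mem_sup.1 hy
      obtain ⟨c, rfl⟩ := Submodule.mem_span_singleton.1 hx'
      obtain ⟨d, rfl⟩ := Submodule.mem_span_singleton.1 hy'
      rw [Φ.add_left, Φ.add_right, Φ.add_right, Φ.smul_left, Φ.smul_left, Φ.smul_right, Φ.smul_right, hA.1 a ha b hb,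
        hwp b hb, hwp' a ha, hww]
      ring
    · intro x hx
      obtain ⟨a, ha, x', hx', rfl⟩ := Submodule.mem_sup.1 hx
      obtain ⟨c, rfl⟩ := Submodule.mem_span_singleton.1 hx'
      rw [Φ.q_add, hA.2 a ha, hq, add_zero]
      rw [Φ.smul_right, hwp' a ha, mul_zero]
    · have h5 := Submodule.finrank_sup_add_finrank_inf_eq A (Submodule.span F {w})
      have h6 : A ⊓ Submodule.span F {w} = ⊥ := by
        rw [Submodule.eq_bot_iff]
        rintro x ⟨hx, hx'⟩
        obtain ⟨c, rfl⟩ := Submodule.mem_span_singleton.1 hx'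
        by_cases hc : c = 0
        · rw [hc, zero_smul]
        · exfalso
          apply hwA
          have := A.smul_mem c⁻¹ hx
          rwa [smul_smul, inv_mul_cancel₀ hc, one_smul] at this
      rw [h6, finrank_bot, finrank_span_singleton hw0, hAk] at h5
      exact h5

/-- **RG-L08** -/
theorem l08 : L08 := by
  intro F V _ _ _ _ _ Φ h
  have h' : Kind Φ := h
  exact ⟨fun k hk => exists_ti h' k hk, fun A hA => two_mul_finrank_le Φ h'.nd hA.1⟩

end Cfsg.Agent.H755.RG.Sing
end

-- part: H811/RG/LEleven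
section
/-!
# S5714, RG-L11: at most two good subspaces (helper811)
-/

set_option autoImplicit false

namespace Cfsg.Agent.H811.RG

open Module Cfsg.Agent.H847.Bs Cfsg.Agent.H50.RG
open Cfsg.Agent.H440.Bs (perp mem_perp mem_perp' rker mem_rker lin lin_apply)

section

variable {F V : Type} [Field F] [AddCommGroup V] [Module F V] {Φ : Frm F V}

theorem inv_inf {y : V ≃ₗ[F] V} {A A' : Submodule F V} (h : _root_.Cfsg.Agent.H847.Bs.Inv y A) (h' : _root_.Cfsg.Agent.H847.Bs.Inv y A') : _root_.Cfsg.Agent.H847.Bs.Inv y (A ⊓ A') :=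
  fun v hv => ⟨h v hv.1, h' v hv.2⟩

theorem inv_sup {y : V ≃ₗ[F] V} {A A' : Submodule F V} (h : _root_.Cfsg.Agent.H847.Bs.Inv y A) (h' : _root_.Cfsg.Agent.H847.Bs.Inv y A') : _root_.Cfsg.Agent.H847.Bs.Inv y (A ⊔ A') := by
  intro v hv
  obtain ⟨a, ha, b, hb, rfl⟩ := Submodule.mem_sup.1 hv
  rw [map_add]
  exact Submodule.add_mem_sup (h a ha) (h' b hb)

/-- an injective endomorphism of a finite dimensional subspace is surjective -/
theorem exists_pre [Module.Finite F V] {y : V ≃ₗ[F] V} {A : Submodule F V} (h : _root_.Cfsg.Agent.H847.Bs.Inv y A) {v : V} (hv : v ∈ A) :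
    ∃ w ∈ A, y w = v := by
  have hi : Function.Injective ((y : V →ₗ[F] V).restrict h) := by
    intro a b hab
    exact Subtype.ext (y.injective (congrArg Subtype.val hab))
  obtain ⟨w, hw⟩ := (LinearMap.injective_iff_surjective.1 hi) ⟨v, hv⟩
  exact ⟨w, w.2, congrArg Subtype.val hw⟩

theorem inv_perp [Module.Finite F V] {y : V ≃ₗ[F] V} (hy : y ∈ Φ.Iso) {A : Submodule F V} (h : _root_.Cfsg.Agent.H847.Bs.Inv y A) :
    _root_.Cfsg.Agent.H847.Bs.Inv y (perp Φ A) := by
  intro v hv x hx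
  obtain ⟨w, hw, rfl⟩ := exists_pre h hx
  rw [hy.1]
  exact hv w hw

theorem inf_eq_bot {y : V ≃ₗ[F] V} {A A' : Submodule F V} (h : Irr y A) (h' : Irr y A') (hne : A ≠ A') :
    A ⊓ A' = ⊥ := by
  rcases h.min _ inf_le_left (inv_inf h.inv h'.inv) with h1 | h1
  · exact h1
  · have h2 : A ≤ A' := by rw [← h1]; exact inf_le_right
    rcases h'.min _ h2 h.inv with h3 | h3
    · exact absurd h3 h.ne_bot
    · exact absurd h3 hne

/-- different good subspaces are not orthogonal -/
theorem not_orth [Module.Finite F V] {y : V ≃ₗ[F] V} {e M : ℕ} {A A' : Submodule F V} (hA : Gd Φ.TI e M y A)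
    (hA' : Gd Φ.TI e M y A') (hne : A ≠ A') : ¬ Φ.Orth A A' := by
  intro ho
  have hi := inf_eq_bot hA.irr hA'.irr hne
  refine hA.no (A ⊔ A') ?_ (inv_sup hA.irr.inv hA'.irr.inv) ?_ ?_ ?_
  · constructor
    · intro x hx z hz
      obtain ⟨a, ha, b, hb, rfl⟩ := Submodule.mem_sup.1 hx
      obtain ⟨c, hc, d, hd, rfl⟩ := Submodule.mem_sup.1 hz
      rw [Φ.add_left, Φ.add_right, Φ.add_right, hA.ts.1 a ha c hc, ho a ha d hd, Φ.refl _ _ (ho c hc b hb),
        hA'.ts.1 b hb d hd]
      simp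
    · intro x hx
      obtain ⟨a, ha, b, hb, rfl⟩ := Submodule.mem_sup.1 hx
      rw [Φ.q_add _ _ (ho a ha b hb), hA.ts.2 a ha, hA'.ts.2 b hb, add_zero]
  · refine lt_of_le_of_ne le_sup_left fun h => ?_
    have h2 : A' ≤ A := by rw [h]; exact le_sup_right
    rw [inf_eq_right.2 h2] at hi
    exact hA'.irr.ne_bot hi
  · intro C hC h1 h2
    rcases hA'.irr.min (C ⊓ A') inf_le_right (inv_inf hC hA'.irr.inv) with h3 | h3
    · left
      have h4 : (A ⊔ A') ⊓ C = A ⊔ A' ⊓ C := sup_inf_assoc_of_le A' h1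
      rw [inf_eq_right.2 h2, inf_comm A' C, h3, sup_bot_eq] at h4
      exact h4
    · right
      exact le_antisymm h2 (sup_le h1 (inf_eq_right.1 h3))
  · have h1 := Submodule.finrank_sup_add_finrank_inf_eq A A'
    rw [hi, finrank_bot, add_zero, hA.dim, hA'.dim] at h1
    rw [h1]
    exact ⟨2, by ring⟩

/-- the pairing of two different good subspaces is nondegenerate -/
theorem nondeg [Module.Finite F V] {y : V ≃ₗ[F] V} (hy : y ∈ Φ.Iso) {e M : ℕ} {A A' : Submodule F V}
    (hA : Gd Φ.TI e M y A) (hA' : Gd Φ.TI e M y A') (hne : A ≠ A') {x : V} (hx : x ∈ A)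
    (h : ∀ z ∈ A', Φ.B x z = 0) : x = 0 := by
  rcases hA.irr.min (A ⊓ perp Φ A') inf_le_left (inv_inf hA.irr.inv (inv_perp hy hA'.irr.inv)) with h1 | h1
  · have h2 : x ∈ A ⊓ perp Φ A' := ⟨hx, h⟩
    rw [h1, Submodule.mem_bot] at h2
    exact h2
  · refine absurd (fun a ha b hb => ?_) (not_orth hA hA' hne)
    have h2 : a ∈ A ⊓ perp Φ A' := by rw [h1]; exact ha
    exact h2.2 b hb

theorem span_basis {Y : Submodule F V} {ι : Type*} (c : Basis ι F Y) (x : V) (h : ∀ i, Φ.B x (c i) = 0) :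
    ∀ y ∈ Y, Φ.B x y = 0 := by
  intro y hy
  have h1 : (⟨y, hy⟩ : Y) ∈ Submodule.span F (Set.range c) := by rw [c.span_eq]; trivial
  have h2 : Submodule.span F (Set.range c) ≤ (rker Φ x).comap Y.subtype := by
    rw [Submodule.span_le]
    rintro _ ⟨i, rfl⟩
    exact h i
  exact h2 h1

theorem neg_left (x z : V) : Φ.B (-x) z = - Φ.B x z := by
  have h := Φ.smul_left (-1) x z
  rwa [neg_one_smul, neg_one_mul] at h

theorem sub_left (x w z : V) : Φ.B (x - w) z = Φ.B x z - Φ.B w z := by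
  rw [sub_eq_add_neg, Φ.add_left, neg_left, sub_eq_add_neg]

/-- the coordinates given by the pairing -/
theorem exists_coord [Module.Finite F V] {y : V ≃ₗ[F] V} (hy : y ∈ Φ.Iso) {e M : ℕ} {A A' : Submodule F V}
    (hA : Gd Φ.TI e M y A) (hA' : Gd Φ.TI e M y A') (hne : A ≠ A') (b : Basis (Fin e) F A') :
    ∃ T : A ≃ₗ[F] (Fin e → F), ∀ a i, T a i = Φ.B a (b i) := by
  let T : A →ₗ[F] (Fin e → F) := (LinearMap.pi fun i => lin Φ (b i : V)) ∘ₗ A.subtype
  have hT : ∀ a i, T a i = Φ.B a (b i) := fun a i => rfl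
  have hi : Function.Injective T := by
    rw [← LinearMap.ker_eq_bot, LinearMap.ker_eq_bot']
    intro a ha
    exact Subtype.ext (nondeg hy hA hA' hne a.2 (span_basis b _ fun i => by rw [← hT, ha]; rfl))
  have hd : finrank F A = finrank F (Fin e → F) := by rw [hA.dim, finrank_fintype_fun_eq_card, Fintype.card_fin]
  exact ⟨LinearEquiv.ofInjectiveOfFinrankEq T hi hd, fun a i => hT a i⟩

/-- three different good subspaces: a `y`-isomorphism -/
theorem exists_phi [Module.Finite F V] {y : V ≃ₗ[F] V} (hy : y ∈ Φ.Iso) {e M : ℕ} {A A' A'' : Submodule F V}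
    (hA : Gd Φ.TI e M y A) (hA' : Gd Φ.TI e M y A') (hA'' : Gd Φ.TI e M y A'') (hne : A ≠ A') (hne' : A'' ≠ A') :
    ∃ φ : A ≃ₗ[F] A'', ∀ a : A, (φ ⟨y a, hA.irr.inv a a.2⟩ : V) = y (φ a) := by
  have hfin : Module.Finite F A' := inferInstance
  let b : Basis (Fin e) F A' := (Module.finBasis F A').reindex (finCongr hA'.dim)
  obtain ⟨T, hT⟩ := exists_coord hy hA hA' hne b
  obtain ⟨T', hT'⟩ := exists_coord hy hA'' hA' hne' b
  have h1 : ∀ a : A, ∀ z ∈ A', Φ.B (T'.symm (T a) : A'') z = Φ.B a z := by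
    intro a z hz
    have h2 : ∀ z ∈ A', Φ.B ((T'.symm (T a) : A'') - (a : V)) z = 0 := span_basis b _ fun i => by
      rw [sub_left, ← hT', T'.apply_symm_apply, hT, sub_self]
    have h3 := h2 z hz
    rwa [sub_left, sub_eq_zero] at h3
  refine ⟨T ≪≫ₗ T'.symm, fun a => ?_⟩
  rw [← sub_eq_zero]
  refine nondeg hy hA'' hA' hne' (A''.sub_mem (Subtype.prop _) (hA''.irr.inv _ (Subtype.prop _))) fun z hz => ?_
  obtain ⟨w, hw, rfl⟩ := exists_pre hA'.irr.inv hz
  rw [sub_left, hy.1]
  change Φ.B (T'.symm (T ⟨y a, hA.irr.inv a a.2⟩) : A'') (y w) - Φ.B (T'.symm (T a) : A'') w = 0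
  rw [h1 _ _ (hA'.irr.inv w hw), h1 _ _ hw, hy.1, sub_self]

theorem irr_restrict {y : V ≃ₗ[F] V} {A : Submodule F V} (h : Irr y A) (z : A ≃ₗ[F] A)
    (hz : ∀ a : A, (z a : V) = y a) : Irr z ⊤ := by
  refine ⟨fun v _ => trivial, fun h1 => h.ne_bot ?_, fun Y _ hY => ?_⟩
  · rw [eq_bot_iff]
    intro a ha
    have h2 : (⟨a, ha⟩ : A) ∈ (⊤ : Submodule F A) := trivial
    rw [h1, Submodule.mem_bot] at h2
    rw [Submodule.mem_bot]
    exact congrArg Subtype.val h2
  · have h3 : _root_.Cfsg.Agent.H847.Bs.Inv y (Y.map A.subtype) := by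
      rintro _ ⟨a, ha, rfl⟩
      refine ⟨z a, hY a ha, hz a⟩
    rcases h.min _ (Submodule.map_subtype_le A Y) h3 with h4 | h4
    · left
      rw [eq_bot_iff]
      intro a ha
      have h5 : (a : V) ∈ Y.map A.subtype := ⟨a, ha, rfl⟩
      rw [h4, Submodule.mem_bot] at h5
      rw [Submodule.mem_bot]
      exact Subtype.ext h5
    · right
      rw [eq_top_iff]
      intro a _
      have h5 : (a : V) ∈ Y.map A.subtype := by rw [h4]; exact a.2
      obtain ⟨b, hb, hab⟩ := h5
      have h6 : b = a := Subtype.ext hab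
      rwa [h6] at hb

end

theorem l11 (h10 : L10) : L11 := by
  intro F V _ _ _ _ _ Φ e M hC hM y hy s hs
  by_contra hcon
  obtain ⟨A, A', A'', h1, h2, h3, h12, h13, h23⟩ := Finset.two_lt_card_iff.1 (not_le.1 hcon)
  have g1 := hs A h1
  have g2 := hs A' h2
  have g3 := hs A'' h3
  obtain ⟨φ, hφ⟩ := exists_phi hy g1 g2 g3 h12 h23.symm
  -- the restriction of `y`
  have hi : Function.Injective ((y : V →ₗ[F] V).restrict g1.irr.inv) := by
    intro a b hab
    exact Subtype.ext (y.injective (congrArg Subtype.val hab))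
  let z : A ≃ₗ[F] A := LinearEquiv.ofInjectiveEndo _ hi
  have hz : ∀ a : A, (z a : V) = y a := fun a => rfl
  have hzk : ∀ (k : ℕ) (a : A), ((z ^ k) a : V) = (y ^ k) a := by
    intro k
    induction k with
    | zero => intro a; rfl
    | succ k ih =>
      intro a
      have e1 : (z ^ (k + 1)) a = (z ^ k) (z a) := by rw [pow_succ]; rfl
      have e2 : (y ^ (k + 1)) (a : V) = (y ^ k) (y a) := by rw [pow_succ]; rfl
      rw [e1, e2, ih, hz]
  obtain ⟨m, hm, hmr, hmk⟩ := g1.big
  have hmz : m ∣ orderOf z := by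
    refine hmk _ fun a ha => ?_
    have h4 := hzk (orderOf z) ⟨a, ha⟩
    rw [pow_orderOf_eq_one] at h4
    exact h4.symm
  obtain ⟨r, hr, hrm⟩ := Nat.exists_prime_and_dvd (n := m) (by omega)
  refine not_orth g1 g3 h13 fun a ha b hb => ?_
  have h5 := h10 F A e r z hC.2.1 (irr_restrict g1.irr z hz) hr (hrm.trans hmz) (hmr r hr hrm) Φ.s ?_
    (fun a b => Φ.B a (φ b)) (fun x y w => Φ.add_left _ _ _) (fun x y w => ?_) (fun a x y => Φ.smul_left _ _ _)
    (fun a x y => ?_) (fun x w => ?_) ⟨a, ha⟩ (φ.symm ⟨b, hb⟩)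
  · simpa using h5
  · rcases hC.2.2 with ⟨h, ho⟩ | ⟨t, h, ho⟩ | ⟨Q, h, ho⟩
    · exact Or.inl ⟨h.s, ho⟩
    · exact Or.inr ⟨⟨t, h.card, h.s⟩, ho⟩
    · refine Or.inl ⟨fun a => ?_, ho⟩
      rw [h]
      rfl
  · change Φ.B x (φ (y + w) : A'') = _
    rw [map_add]
    exact Φ.add_right _ _ _
  · change Φ.B x (φ (a • y) : A'') = _
    rw [map_smul]
    exact Φ.smul_right _ _ _
  · change Φ.B (z x) (φ (z w) : A'') = Φ.B x (φ w)
    have h6 : z w = ⟨y w, g1.irr.inv w w.2⟩ := rfl
    rw [h6, hφ, hz, hy.1]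

end Cfsg.Agent.H811.RG
end

-- part: H343/RG/Avg
section
/-!
# The primitive part of a cyclic linear group, averaging (helper343, for S5714, task RG-L14)

* `ZZ y e` : the elements of `⟨y⟩` all of whose primes `r` satisfy `ord_r(q) = e`;
* `fx Z`, `nz Z`, `co Z` : fixed vectors, norm, kernel of the norm; `Frm` : orthogonality;
* `exists_compl` : invariant complements.
-/

set_option autoImplicit false
set_option linter.unusedSectionVars false
set_option linter.unusedVariables false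

namespace Cfsg.Agent.H343.RG

open Module Cfsg.Agent.H847.Bs Cfsg.Agent.H50.RG Cfsg.Agent.LieClassical.OrthCore
open Cfsg.Agent.H440.Bs (perp mem_perp mem_perp' finrank_perp)

section Grp

variable {F V : Type} [Field F] [Finite F] [AddCommGroup V] [Module F V] [Module.Finite F V]

theorem finite_gl (F V : Type) [Field F] [Finite F] [AddCommGroup V] [Module F V] [Module.Finite F V] :
    Finite (V ≃ₗ[F] V) := by
  have : Finite V := Module.finite_of_finite F
  exact Finite.of_injective (fun g : V ≃ₗ[F] V => (g : V → V)) DFunLike.coe_injective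

/-- the primitive part of `⟨y⟩` -/
def ZZ (y : V ≃ₗ[F] V) (e : ℕ) : Subgroup (V ≃ₗ[F] V) where
  carrier := {z | z ∈ Subgroup.zpowers y ∧ ∀ r : ℕ, r.Prime → r ∣ orderOf z →
    orderOf ((Nat.card F : ℕ) : ZMod r) = e}
  mul_mem' := by
    rintro z w ⟨hz, hz'⟩ ⟨hw, hw'⟩
    refine ⟨mul_mem hz hw, fun r hr hd => ?_⟩
    have hc : Commute z w := by
      obtain ⟨i, rfl⟩ := hz
      obtain ⟨j, rfl⟩ := hw
      exact (Commute.refl y).zpow_zpow i j
    have h1 := hd.trans (hc.orderOf_mul_dvd_lcm.trans (Nat.lcm_dvd_mul _ _))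
    rcases hr.dvd_mul.1 h1 with h | h
    · exact hz' r hr h
    · exact hw' r hr h
  one_mem' := ⟨one_mem _, fun r hr hd => by
    rw [orderOf_one] at hd
    exact absurd (Nat.dvd_one.1 hd) hr.one_lt.ne'⟩
  inv_mem' := by
    rintro z ⟨hz, hz'⟩
    exact ⟨inv_mem hz, fun r hr hd => hz' r hr (by rwa [orderOf_inv] at hd)⟩

theorem exists_pow {y z : V ≃ₗ[F] V} (h : z ∈ Subgroup.zpowers y) : ∃ k : ℕ, y ^ k = z := by
  have := finite_gl F V
  exact (isOfFinOrder_of_finite y).mem_powers_iff_mem_zpowers.2 h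

theorem card_ZZ {y : V ≃ₗ[F] V} {e M : ℕ} {A : Submodule F V} (hM : 2 ≤ M) (h : BigOn e M y A) :
    M ≤ Nat.card (ZZ y e) ∧ ∃ w ∈ ZZ y e, ∃ a ∈ A, w a ≠ a := by
  have := finite_gl F V
  obtain ⟨m, hMm, hm, hk⟩ := h
  have hN0 : 0 < orderOf y := orderOf_pos y
  have hmN : m ∣ orderOf y := hk _ fun a _ => by rw [pow_orderOf_eq_one]; rfl
  have hm0 : 0 < m := by omega
  constructor
  · set w := y ^ (orderOf y / m) with hw
    have h0 : orderOf y / m ≠ 0 := (Nat.div_pos (Nat.le_of_dvd hN0 hmN) hm0).ne'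
    have how : orderOf w = m := by
      rw [hw, orderOf_pow_of_dvd h0 (Nat.div_dvd_of_dvd hmN), Nat.div_div_self hmN hN0.ne']
    have hwZ : w ∈ ZZ y e := ⟨Subgroup.npow_mem_zpowers y _, fun r hr hd => hm r hr (how ▸ hd)⟩
    have h1 : Subgroup.zpowers w ≤ ZZ y e := by rwa [Subgroup.zpowers_le]
    calc M ≤ m := hMm
      _ = Nat.card (Subgroup.zpowers w) := by rw [Nat.card_zpowers, how]
      _ ≤ Nat.card (ZZ y e) := Subgroup.card_le_of_le h1
  · obtain ⟨r, hr, hrm⟩ := Nat.exists_prime_and_dvd (show m ≠ 1 by omega)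
    obtain ⟨k, N', hN', hN⟩ := Nat.exists_eq_pow_mul_and_not_dvd hN0.ne' r hr.ne_one
    have hN'0 : N' ≠ 0 := by rintro rfl; exact hN' (dvd_zero _)
    set w := y ^ N' with hw
    have how : orderOf w = r ^ k := by
      rw [hw, orderOf_pow_of_dvd hN'0 (hN ▸ Dvd.intro_left _ rfl), hN, Nat.mul_div_cancel _ (Nat.pos_of_ne_zero hN'0)]
    refine ⟨w, ⟨Subgroup.npow_mem_zpowers y _, fun s hs hd => ?_⟩, ?_⟩
    · rw [how] at hd
      rw [(Nat.prime_dvd_prime_iff_eq hs hr).1 (hs.dvd_of_dvd_pow hd)]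
      exact hm r hr hrm
    · by_contra hcon
      push Not at hcon
      exact hN' (hrm.trans (hk N' hcon))

/-- `|Z|` is prime to the characteristic -/
theorem card_ne_zero {y : V ≃ₗ[F] V} {e : ℕ} (he : 2 ≤ e) : ((Nat.card (ZZ y e) : ℕ) : F) ≠ 0 := by
  have := finite_gl F V
  have : Fintype F := Fintype.ofFinite F
  obtain ⟨p, hp⟩ := CharP.exists F
  intro h0
  have hd := (CharP.cast_eq_zero_iff F p _).1 h0
  have hpp : p.Prime := (CharP.char_is_prime_or_zero F p).resolve_right (CharP.char_ne_zero_of_finite F p)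
  have := Fact.mk hpp
  obtain ⟨z, hz⟩ := exists_prime_orderOf_dvd_card' (G := ZZ y e) p hd
  have h1 := z.2.2 p hpp (by rw [Subgroup.orderOf_coe, hz])
  have h2 : ((Nat.card F : ℕ) : ZMod p) = 0 := by
    rw [ZMod.natCast_eq_zero_iff, Nat.card_eq_fintype_card]
    exact (CharP.cast_eq_zero_iff F p _).1 (Nat.cast_card_eq_zero F)
  rw [h2] at h1
  have h3 : orderOf (0 : ZMod p) = 0 := by
    rw [orderOf_eq_zero_iff']
    intro n hn
    rw [zero_pow hn.ne']
    exact zero_ne_one
  omega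

end Grp

section Avg

variable {F V : Type} [Field F] [Finite F] [AddCommGroup V] [Module F V] [Module.Finite F V]
  (Z : Subgroup (V ≃ₗ[F] V))

/-- the fixed vectors -/
def fx : Submodule F V where
  carrier := {v | ∀ z ∈ Z, z v = v}
  add_mem' {v w} hv hw z hz := by rw [map_add, hv z hz, hw z hz]
  zero_mem' z _ := map_zero z
  smul_mem' c v hv z hz := by rw [map_smul, hv z hz]

/-- the norm -/
noncomputable def nz : V →ₗ[F] V :=
  haveI := finite_gl F V
  haveI : Fintype Z := Fintype.ofFinite Z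
  ∑ z : Z, ((z : V ≃ₗ[F] V) : V →ₗ[F] V)

theorem nz_eq [inst : Fintype Z] (v : V) : nz Z v = ∑ z : Z, (z : V ≃ₗ[F] V) v := by
  have := finite_gl F V
  have h : inst = Fintype.ofFinite Z := Subsingleton.elim _ _
  subst h
  exact LinearMap.sum_apply _ _ _

theorem nz_fix {v : V} (hv : v ∈ fx Z) : nz Z v = ((Nat.card Z : ℕ) : F) • v := by
  have := finite_gl F V
  have : Fintype Z := Fintype.ofFinite Z
  rw [nz_eq, Finset.sum_congr rfl fun (z : Z) _ => (show (z : V ≃ₗ[F] V) v = v from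
    hv z z.2), Finset.sum_const, Finset.card_univ, Nat.cast_smul_eq_nsmul, Nat.card_eq_fintype_card]

theorem nz_mem_fx (v : V) : nz Z v ∈ fx Z := by
  have := finite_gl F V
  have : Fintype Z := Fintype.ofFinite Z
  intro w hw
  rw [nz_eq, map_sum]
  exact Fintype.sum_equiv (Equiv.mulLeft (⟨w, hw⟩ : Z)) _ _ fun z => rfl

/-- the norm preserves invariant subspaces -/
theorem nz_mem {W : Submodule F V} (hW : ∀ z ∈ Z, _root_.Cfsg.Agent.H847.Bs.Inv z W) {v : V} (hv : v ∈ W) : nz Z v ∈ W := by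
  have := finite_gl F V
  have : Fintype Z := Fintype.ofFinite Z
  rw [nz_eq]
  exact sum_mem fun z _ => hW z z.2 v hv

/-- the norm is `|Z|` modulo a submodule modulo which `v` is fixed -/
theorem nz_sub_mem {W : Submodule F V} {v : V} (hv : ∀ z ∈ Z, z v - v ∈ W) :
    nz Z v - ((Nat.card Z : ℕ) : F) • v ∈ W := by
  have := finite_gl F V
  have : Fintype Z := Fintype.ofFinite Z
  have h1 : nz Z v - ((Nat.card Z : ℕ) : F) • v = ∑ z : Z, ((z : V ≃ₗ[F] V) v - v) := by
    rw [nz_eq, Finset.sum_sub_distrib, Finset.sum_const, Finset.card_univ, Nat.cast_smul_eq_nsmul,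
      Nat.card_eq_fintype_card]
  rw [h1]
  exact sum_mem fun z _ => hv z z.2

/-- an element commuting with `Z` commutes with the norm -/
theorem nz_comm {g : V ≃ₗ[F] V} (hg : ∀ z ∈ Z, ∀ v, z (g v) = g (z v)) (v : V) : nz Z (g v) = g (nz Z v) := by
  have := finite_gl F V
  have : Fintype Z := Fintype.ofFinite Z
  rw [nz_eq, nz_eq, map_sum]
  exact Finset.sum_congr rfl fun z _ => hg z z.2 v

theorem compl (hc : ((Nat.card Z : ℕ) : F) ≠ 0) : IsCompl (fx Z) (LinearMap.ker (nz Z)) := by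
  constructor
  · rw [Submodule.disjoint_def]
    intro v hv hv'
    rw [LinearMap.mem_ker, nz_fix Z hv] at hv'
    exact (smul_eq_zero.1 hv').resolve_left hc
  · rw [codisjoint_iff, eq_top_iff]
    rintro v -
    have h1 : v = ((Nat.card Z : ℕ) : F)⁻¹ • nz Z v + (v - ((Nat.card Z : ℕ) : F)⁻¹ • nz Z v) := by abel
    rw [h1]
    refine Submodule.add_mem_sup (Submodule.smul_mem _ _ (nz_mem_fx Z v)) ?_
    rw [LinearMap.mem_ker, map_sub, map_smul, nz_fix Z (nz_mem_fx Z v), smul_smul, inv_mul_cancel₀ hc, one_smul,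
      sub_self]

/-- fixed vectors and the kernel of the norm are orthogonal -/
theorem orth {Φ : Frm F V} (hZ : Z ≤ Φ.Iso) (hc : ((Nat.card Z : ℕ) : F) ≠ 0) {v w : V} (hv : v ∈ fx Z)
    (hw : nz Z w = 0) : Φ.B v w = 0 := by
  classical
  have := finite_gl F V
  have : Fintype Z := Fintype.ofFinite Z
  have hsum : ∀ (s : Finset Z) (f : Z → V), Φ.B v (∑ z ∈ s, f z) = ∑ z ∈ s, Φ.B v (f z) := by
    intro s f
    induction s using Finset.induction_on with
    | empty => rw [Finset.sum_empty, Finset.sum_empty]; exact Cfsg.Agent.H440.Bs.B_zero_right Φ v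
    | insert a s ha ih => rw [Finset.sum_insert ha, Finset.sum_insert ha, Φ.add_right, ih]
  have h1 : Φ.B v (nz Z w) = ((Nat.card Z : ℕ) : F) * Φ.B v w := by
    rw [nz_eq, hsum, Finset.sum_congr rfl fun (z : Z) _ => (show Φ.B v ((z : V ≃ₗ[F] V) w) = Φ.B v w from by
      conv_lhs => rw [← hv z z.2]
      exact (hZ z.2).1 v w), Finset.sum_const, Finset.card_univ, nsmul_eq_mul, Nat.card_eq_fintype_card]
  rw [hw, Cfsg.Agent.H440.Bs.B_zero_right] at h1
  exact (mul_eq_zero.1 h1.symm).resolve_left hc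

/-- **Invariant complements.** -/
theorem exists_compl (hc : ((Nat.card Z : ℕ) : F) ≠ 0) {A D : Submodule F V} (hA : ∀ z ∈ Z, _root_.Cfsg.Agent.H847.Bs.Inv z A)
    (hD : ∀ z ∈ Z, _root_.Cfsg.Agent.H847.Bs.Inv z D) (hAD : A ≤ D) :
    ∃ A' ≤ D, (∀ z ∈ Z, _root_.Cfsg.Agent.H847.Bs.Inv z A') ∧ Disjoint A A' ∧ A ⊔ A' = D := by
  classical
  have := finite_gl F V
  have : Fintype Z := Fintype.ofFinite Z
  obtain ⟨g, hg⟩ := LinearMap.exists_leftInverse_of_injective A.subtype A.ker_subtype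
  set f : V →ₗ[F] V := A.subtype ∘ₗ g with hf
  have hfA : ∀ v, f v ∈ A := fun v => (g v).2
  have hfa : ∀ a ∈ A, f a = a := fun a ha => congrArg Subtype.val (LinearMap.congr_fun hg ⟨a, ha⟩)
  set P : V →ₗ[F] V := ∑ z : Z, ((z : V ≃ₗ[F] V) : V →ₗ[F] V) ∘ₗ f ∘ₗ (((z⁻¹ : Z) : V ≃ₗ[F] V) : V →ₗ[F] V) with hP
  have hPapp : ∀ v, P v = ∑ z : Z, (z : V ≃ₗ[F] V) (f (((z⁻¹ : Z) : V ≃ₗ[F] V) v)) := fun v => by
    rw [hP, LinearMap.sum_apply]
    rfl
  have hPA : ∀ v, P v ∈ A := fun v => by
    rw [hPapp]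
    exact sum_mem fun z _ => hA z z.2 _ (hfA _)
  have hPa : ∀ a ∈ A, P a = ((Nat.card Z : ℕ) : F) • a := by
    intro a ha
    rw [hPapp, Finset.sum_congr rfl fun (z : Z) _ => (show (z : V ≃ₗ[F] V) (f (((z⁻¹ : Z) : V ≃ₗ[F] V) a)) = a from by
      rw [hfa _ (hA _ (z⁻¹).2 a ha)]
      show (z : V ≃ₗ[F] V) ((z : V ≃ₗ[F] V).symm a) = a
      exact LinearEquiv.apply_symm_apply _ _), Finset.sum_const, Finset.card_univ, Nat.cast_smul_eq_nsmul,
      Nat.card_eq_fintype_card]
  have hPz : ∀ w ∈ Z, ∀ v, P (w v) = w (P v) := by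
    intro w hw v
    rw [hPapp, hPapp, map_sum]
    refine Fintype.sum_equiv (Equiv.mulLeft (⟨w, hw⟩ : Z)⁻¹) _ _ fun z => ?_
    show (z : V ≃ₗ[F] V) (f (((z⁻¹ : Z) : V ≃ₗ[F] V) (w v))) =
      w ((((⟨w, hw⟩ : Z)⁻¹ * z : Z) : V ≃ₗ[F] V) (f (((((⟨w, hw⟩ : Z)⁻¹ * z)⁻¹ : Z) : V ≃ₗ[F] V) v)))
    rw [mul_inv_rev, inv_inv]
    show _ = w (w⁻¹ ((z : V ≃ₗ[F] V) (f (((z⁻¹ : Z) : V ≃ₗ[F] V) (w v)))))
    exact (LinearEquiv.apply_symm_apply w _).symm
  refine ⟨D ⊓ LinearMap.ker P, inf_le_left, ?_, ?_, ?_⟩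
  · intro z hz v hv
    refine ⟨hD z hz v hv.1, ?_⟩
    show P (z v) = 0
    have h1 : P v = 0 := hv.2
    rw [hPz z hz, h1, map_zero]
  · rw [Submodule.disjoint_def]
    intro a ha ha'
    have h1 : P a = 0 := ha'.2
    rw [hPa a ha] at h1
    exact (smul_eq_zero.1 h1).resolve_left hc
  · apply le_antisymm
    · exact sup_le hAD inf_le_left
    · intro d hd
      have h1 : d = ((Nat.card Z : ℕ) : F)⁻¹ • P d + (d - ((Nat.card Z : ℕ) : F)⁻¹ • P d) := by abel
      have h2 : ((Nat.card Z : ℕ) : F)⁻¹ • P d ∈ A := A.smul_mem _ (hPA d)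
      rw [h1]
      refine Submodule.add_mem_sup h2 ⟨D.sub_mem hd (hAD h2), ?_⟩
      show P (d - ((Nat.card Z : ℕ) : F)⁻¹ • P d) = 0
      rw [map_sub, map_smul, hPa _ (hPA d), smul_smul, inv_mul_cancel₀ hc, one_smul, sub_self]

end Avg

end Cfsg.Agent.H343.RG
end

-- part: H343/RG/Core
section
/-!
# RG-L14: the primary decomposition (helper343, for S5714)
-/

set_option autoImplicit false
set_option linter.unusedSectionVars false
set_option linter.unusedVariables false

namespace Cfsg.Agent.H343.RG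

open Module Cfsg.Agent.H847.Bs Cfsg.Agent.H50.RG Cfsg.Agent.LieClassical.OrthCore
open Cfsg.Agent.H440.Bs (perp mem_perp mem_perp' finrank_perp)

variable {F V : Type} [Field F] [Finite F] [AddCommGroup V] [Module F V] [Module.Finite F V]

theorem s_hyp {Φ : Frm F V} {e : ℕ} (hΦ : Cls Φ e) : (∀ a, Φ.s a = a) ∧ Odd e ∨
    (∃ t : ℕ, Nat.card F = t ^ 2 ∧ (∀ a, Φ.s a = a ^ t)) ∧ Even e := by
  rcases hΦ.2.2 with ⟨h, he⟩ | ⟨r, h, he⟩ | ⟨Q, rfl, he⟩
  · exact Or.inl ⟨h.s, he⟩
  · exact Or.inr ⟨⟨r, h.card, h.s⟩, he⟩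
  · exact Or.inl ⟨fun a => rfl, he⟩

/-- the form vanishes on `B` if it vanishes on `A × B` and `y` is irreducible of the right parity on `B / A` -/
theorem quot_zero (h10 : L10) {Φ : Frm F V} {e r : ℕ} (hΦ : Cls Φ e) {y : V ≃ₗ[F] V} (hy : y ∈ Φ.Iso)
    {A B : Submodule F V} (hA : _root_.Cfsg.Agent.H847.Bs.Inv y A) (hB : _root_.Cfsg.Agent.H847.Bs.Inv y B) (hAB : ∀ a ∈ A, ∀ b ∈ B, Φ.B a b = 0)
    (hi : Irr (qs hA hB) ⊤) (hr : r.Prime) (hd : r ∣ orderOf (qs hA hB))
    (he : orderOf ((Nat.card F : ℕ) : ZMod r) = e) : ∀ x ∈ B, ∀ w ∈ B, Φ.B x w = 0 := by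
  have hex : ∀ x : QQ A B, ∃ b : B, (Submodule.Quotient.mk b : QQ A B) = x := Submodule.Quotient.mk_surjective _
  choose o ho using hex
  have hl : ∀ b b' : B, (Submodule.Quotient.mk b : QQ A B) = Submodule.Quotient.mk b' →
      ∀ c : B, Φ.B (b : V) c = Φ.B (b' : V) c := by
    intro b b' h c
    rw [Submodule.Quotient.eq] at h
    have h1 : (b : V) - b' ∈ A := h
    have h2 := hAB _ h1 c c.2
    have h3 : (b : V) = ((b : V) - b') + b' := by abel
    rw [h3, Φ.add_left, h2, zero_add]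
  have hr' : ∀ b b' : B, (Submodule.Quotient.mk b : QQ A B) = Submodule.Quotient.mk b' →
      ∀ c : B, Φ.B (c : V) b = Φ.B (c : V) b' := by
    intro b b' h c
    rw [Submodule.Quotient.eq] at h
    have h1 : (b : V) - b' ∈ A := h
    have h2 := Φ.refl _ _ (hAB _ h1 c c.2)
    have h3 : (b : V) = ((b : V) - b') + b' := by abel
    rw [h3, Φ.add_right, h2, zero_add]
  have key := h10 F (QQ A B) e r (qs hA hB) hΦ.2.1 hi hr hd he Φ.s (s_hyp hΦ)
    (fun x w => Φ.B (o x : V) (o w : V)) ?_ ?_ ?_ ?_ ?_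
  · intro x hx w hw
    have h1 : Φ.B (o (Submodule.Quotient.mk ⟨x, hx⟩) : V) (o (Submodule.Quotient.mk ⟨w, hw⟩) : V) = 0 := key _ _
    rw [hl _ _ (ho _), hr' _ _ (ho _)] at h1
    exact h1
  · intro x x' w
    show Φ.B (o (x + x') : V) (o w : V) = Φ.B (o x : V) (o w : V) + Φ.B (o x' : V) (o w : V)
    rw [← Φ.add_left]
    exact hl (o (x + x')) (o x + o x') (by rw [ho, Submodule.Quotient.mk_add, ho, ho]) _
  · intro x x' w
    show Φ.B (o x : V) (o (x' + w) : V) = Φ.B (o x : V) (o x' : V) + Φ.B (o x : V) (o w : V)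
    rw [← Φ.add_right]
    exact hr' (o (x' + w)) (o x' + o w) (by rw [ho, Submodule.Quotient.mk_add, ho, ho]) _
  · intro a x w
    show Φ.B (o (a • x) : V) (o w : V) = a * Φ.B (o x : V) (o w : V)
    rw [← Φ.smul_left]
    exact hl (o (a • x)) (a • o x) (by rw [ho, Submodule.Quotient.mk_smul, ho]) _
  · intro a x w
    show Φ.B (o x : V) (o (a • w) : V) = Φ.s a * Φ.B (o x : V) (o w : V)
    rw [← Φ.smul_right]
    exact hr' (o (a • w)) (a • o w) (by rw [ho, Submodule.Quotient.mk_smul, ho]) _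
  · intro x w
    show Φ.B (o (qs hA hB x) : V) (o (qs hA hB w) : V) = Φ.B (o x : V) (o w : V)
    have h1 : ∀ x : QQ A B, (Submodule.Quotient.mk (o (qs hA hB x)) : QQ A B) =
        Submodule.Quotient.mk (rs y B hB (o x)) := fun x => by
      rw [ho, ← qs_mk hA hB, ho]
    rw [← hy.1 (o x : V) (o w : V), hl _ _ (h1 x), hr' _ _ (h1 w)]
    rfl

/-- the form vanishes on `Y` if `z` is irreducible of the right parity on `Y` -/
theorem self_zero (h10 : L10) {Φ : Frm F V} {e r : ℕ} (hΦ : Cls Φ e) {z : V ≃ₗ[F] V} (hz : z ∈ Φ.Iso)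
    {Y : Submodule F V} (hi : Irr z Y) (hr : r.Prime) (hd : r ∣ orderOf (rs z Y hi.inv))
    (he : orderOf ((Nat.card F : ℕ) : ZMod r) = e) : ∀ x ∈ Y, ∀ w ∈ Y, Φ.B x w = 0 := by
  intro x hx w hw
  exact h10 F Y e r (rs z Y hi.inv) hΦ.2.1 (irr_rs hi) hr hd he Φ.s (s_hyp hΦ)
    (fun x w => Φ.B (x : V) (w : V)) (fun _ _ _ => Φ.add_left _ _ _) (fun _ _ _ => Φ.add_right _ _ _)
    (fun _ _ _ => Φ.smul_left _ _ _) (fun _ _ _ => Φ.smul_right _ _ _) (fun _ _ => hz.1 _ _) ⟨x, hx⟩ ⟨w, hw⟩

/-- elements of `ZZ` preserve `y`-invariant subspaces -/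
theorem inv_of_mem {y z : V ≃ₗ[F] V} {e : ℕ} (hz : z ∈ ZZ y e) {W : Submodule F V} (hW : _root_.Cfsg.Agent.H847.Bs.Inv y W) : _root_.Cfsg.Agent.H847.Bs.Inv z W := by
  obtain ⟨k, rfl⟩ := exists_pow hz.1
  exact Inv.pow hW k

theorem comm_of_mem {y z : V ≃ₗ[F] V} {e : ℕ} (hz : z ∈ ZZ y e) (v : V) : z (y v) = y (z v) := by
  obtain ⟨k, rfl⟩ := exists_pow hz.1
  have h : y ^ k * y = y * y ^ k := ((Commute.refl y).pow_left k).eq
  exact LinearEquiv.congr_fun h v

theorem inv_fx {y : V ≃ₗ[F] V} {e : ℕ} : _root_.Cfsg.Agent.H847.Bs.Inv y (fx (ZZ y e)) := by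
  intro v hv z hz
  rw [comm_of_mem hz, hv z hz]

theorem inv_ker {y : V ≃ₗ[F] V} {e : ℕ} : _root_.Cfsg.Agent.H847.Bs.Inv y (LinearMap.ker (nz (ZZ y e))) := by
  intro v hv
  rw [LinearMap.mem_ker] at hv ⊢
  rw [nz_comm _ (fun z hz v => comm_of_mem hz v), hv, map_zero]

/-- `A ≤ D` -/
theorem le_ker {y : V ≃ₗ[F] V} {e M : ℕ} {A : Submodule F V} (hM : 2 ≤ M) (h : BigOn e M y A) (hi : Irr y A) :
    A ≤ LinearMap.ker (nz (ZZ y e)) := by
  obtain ⟨-, w, hw, a, ha, hwa⟩ := card_ZZ hM h
  have h1 : A ⊓ fx (ZZ y e) = ⊥ := by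
    rcases hi.min (A ⊓ fx (ZZ y e)) inf_le_left (fun v hv => ⟨hi.inv v hv.1, inv_fx v hv.2⟩) with h1 | h1
    · exact h1
    · exfalso
      have h2 : a ∈ A ⊓ fx (ZZ y e) := by rw [h1]; exact ha
      exact hwa (h2.2 w hw)
  intro v hv
  have h2 : nz (ZZ y e) v ∈ A ⊓ fx (ZZ y e) :=
    ⟨nz_mem _ (fun z hz => inv_of_mem hz hi.inv) hv, nz_mem_fx _ v⟩
  rw [h1, Submodule.mem_bot] at h2
  exact h2

theorem inv_perp {Φ : Frm F V} {z : V ≃ₗ[F] V} (hz : z ∈ Φ.Iso) {W : Submodule F V} (hW : _root_.Cfsg.Agent.H847.Bs.Inv z W) :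
    _root_.Cfsg.Agent.H847.Bs.Inv z (perp Φ W) := by
  intro v hv w hw
  obtain ⟨w', rfl⟩ := z.surjective w
  rw [hz.1]
  exact hv w' (mem_of_apply_mem hW hw)

/-- the main step: `D ⊓ A^⊥ = A` -/
theorem main_step (h10 : L10) (h24 : L24) {Φ : Frm F V} {e M : ℕ} (hΦ : Cls Φ e) (hM : 2 ≤ M) {y : V ≃ₗ[F] V}
    (hy : y ∈ Φ.Iso) {A : Submodule F V} (hG : Gd Φ.TI e M y A) :
    LinearMap.ker (nz (ZZ y e)) ⊓ perp Φ A = A := by
  set Z := ZZ y e with hZ
  have hc : ((Nat.card Z : ℕ) : F) ≠ 0 := card_ne_zero hΦ.2.1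
  have hAP : A ≤ LinearMap.ker (nz Z) ⊓ perp Φ A := le_inf (le_ker hM hG.big hG.irr) fun a ha b hb => hG.ts.1 a ha b hb
  by_contra hne
  have hlt : A < LinearMap.ker (nz Z) ⊓ perp Φ A := lt_of_le_of_ne hAP (Ne.symm hne)
  obtain ⟨B, hB, hAB, hBP, hmin⟩ := exists_min (y := y)
    (P := LinearMap.ker (nz Z) ⊓ perp Φ A) (fun v hv => ⟨inv_ker v hv.1, inv_perp hy hG.irr.inv v hv.2⟩)
    hG.irr.inv hlt
  have hnt : ∃ z ∈ Z, ∃ b ∈ B, z b - b ∉ A := by
    by_contra hcon
    push Not at hcon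
    apply hAB.not_ge
    intro b hb
    have h1 := nz_sub_mem Z (W := A) (v := b) fun z hz => hcon z hz b hb
    have h2 : nz Z b = 0 := (hBP hb).1
    rw [h2, zero_sub, neg_mem_iff] at h1
    have h3 := A.smul_mem ((Nat.card Z : ℕ) : F)⁻¹ h1
    rwa [smul_smul, inv_mul_cancel₀ hc, one_smul] at h3
  obtain ⟨z, hz, b, hb, hzb⟩ := hnt
  obtain ⟨k, rfl⟩ := exists_pow hz.1
  set Q := qs hG.irr.inv hB with hQ
  have hi : Irr Q ⊤ := irr_qs hG.irr.inv hB hAB hmin
  have hQk : Q ^ k ≠ 1 := by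
    intro h
    apply hzb
    have h1 : (Q ^ k) (Submodule.Quotient.mk ⟨b, hb⟩ : QQ A B) = Submodule.Quotient.mk ⟨b, hb⟩ := by
      rw [h]; rfl
    rw [hQ, qs_pow, Submodule.Quotient.eq] at h1
    have h2 : (((rs y B hB ^ k) ⟨b, hb⟩ : B) : V) - b ∈ A := h1
    rwa [rs_pow] at h2
  obtain ⟨r, hr, hrd⟩ := Nat.exists_prime_and_dvd (fun h => hQk (orderOf_eq_one_iff.1 h))
  have hdz : orderOf (Q ^ k) ∣ orderOf (y ^ k) := by
    rw [orderOf_dvd_iff_pow_eq_one, ← pow_mul]
    ext x
    obtain ⟨c, rfl⟩ := Submodule.Quotient.mk_surjective _ x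
    rw [hQ, qs_pow]
    congr 1
    apply Subtype.ext
    rw [rs_pow, pow_mul, pow_orderOf_eq_one]
    rfl
  have hre := hz.2 r hr (hrd.trans hdz)
  have hdQ : r ∣ orderOf Q := hrd.trans (orderOf_pow_dvd k)
  have h1 := (h24 F (QQ A B) e r Q (Q ^ k) hΦ.2.1 hi (Subgroup.npow_mem_zpowers Q k) hr hrd hre).1
  have h2 := quot_zero h10 hΦ hy hG.irr.inv hB (fun a ha b hb => Φ.refl _ _ ((hBP hb).2 a ha)) hi hr hdQ hre
  obtain ⟨S, hSB, hS, hSd⟩ := exists_sing hΦ h2
  have hfr := finrank_QQ (F := F) hAB.le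
  have hlt' := Submodule.finrank_lt_finrank_of_lt hAB
  have hdim := hG.dim
  have he := hΦ.2.1
  rcases hmin S (fun v hv => (hS _).2 ⟨hB v (hSB hv), by rw [hy.2]; exact ((hS v).1 hv).2⟩)
    (fun a ha => (hS a).2 ⟨hAB.le ha, hG.ts.2 a ha⟩) hSB with h3 | h3
  · have h4 : finrank F (QQ A B) ≤ 1 := by rw [h3] at hSd; omega
    have h5 := Nat.le_of_dvd (by omega) h1
    omega
  · refine hG.no B ⟨h2, fun x hx => ((hS x).1 (h3 ▸ hx)).2⟩ hB hAB hmin ?_
    rw [← hfr, hdim]
    exact Dvd.dvd.add h1 (dvd_refl e)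

/-- `z ≠ 1` in `Z` is irreducible without fixed vectors on `A` -/
theorem irr_A (h24 : L24) {e : ℕ} (he : 2 ≤ e) {y z : V ≃ₗ[F] V} (hz : z ∈ ZZ y e) {A : Submodule F V}
    (hi : Irr y A) (hd : finrank F A = e) (hne : ∃ a ∈ A, z a ≠ a) :
    (∀ W ≤ A, _root_.Cfsg.Agent.H847.Bs.Inv z W → W = ⊥ ∨ W = A) ∧ ∀ a ∈ A, z a = a → a = 0 := by
  obtain ⟨k, rfl⟩ := exists_pow hz.1
  obtain ⟨a, ha, hza⟩ := hne
  have hk1 : rs y A hi.inv ^ k ≠ 1 := by
    intro h
    apply hza
    have h1 := rs_pow hi.inv k ⟨a, ha⟩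
    rw [h] at h1
    exact h1.symm
  obtain ⟨r, hr, hrd⟩ := Nat.exists_prime_and_dvd (fun h => hk1 (orderOf_eq_one_iff.1 h))
  have hdz : orderOf (rs y A hi.inv ^ k) ∣ orderOf (y ^ k) := by
    rw [orderOf_dvd_iff_pow_eq_one, ← pow_mul]
    ext c
    rw [rs_pow, pow_mul, pow_orderOf_eq_one]
    rfl
  have hre := hz.2 r hr (hrd.trans hdz)
  obtain ⟨-, h2, h3⟩ := h24 F A e r (rs y A hi.inv) (rs y A hi.inv ^ k) he (irr_rs hi)
    (Subgroup.npow_mem_zpowers _ k) hr hrd hre
  refine ⟨min_of_irr (rs_pow hi.inv k) (h2 hd), fun a ha hza => ?_⟩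
  exact congrArg Subtype.val (h3 ⟨a, ha⟩ (Subtype.ext ((rs_pow hi.inv k _).trans hza)))

/-- **RG-L14** -/
theorem l14 (h10 : L10) (h24 : L24) : L14 := by
  intro F V _ _ _ _ _ Φ e M hΦ hM y hy A hG
  have hN := hΦ.1
  have he := hΦ.2.1
  have hdim := hG.dim
  have hI : ZZ y e ≤ Φ.Iso := fun z hz => by
    obtain ⟨k, rfl⟩ := exists_pow hz.1
    exact pow_mem hy k
  have hc : ((Nat.card (ZZ y e) : ℕ) : F) ≠ 0 := card_ne_zero he
  have hcard := (card_ZZ hM hG.big).1
  have hms := main_step h10 h24 hΦ hM hy hG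
  set Z := ZZ y e with hZ
  set C := fx Z with hC
  set D := LinearMap.ker (nz Z) with hD
  have hCD : IsCompl C D := compl Z hc
  have hort : ∀ c ∈ C, ∀ d ∈ D, Φ.B c d = 0 := fun c hc' d hd => orth Z hI hc hc' hd
  have hort' : ∀ c ∈ C, ∀ d ∈ D, Φ.B d c = 0 := fun c hc' d hd => Φ.refl _ _ (hort c hc' d hd)
  have hAD : A ≤ D := le_ker hM hG.big hG.irr
  have hZA : ∀ z ∈ Z, _root_.Cfsg.Agent.H847.Bs.Inv z A := fun z hz => inv_of_mem hz hG.irr.inv
  have hZD : ∀ z ∈ Z, _root_.Cfsg.Agent.H847.Bs.Inv z D := fun z hz => inv_of_mem hz inv_ker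
  have hsplit : ∀ v : V, ∃ c ∈ C, ∃ d ∈ D, v = c + d := fun v => by
    obtain ⟨c, hc', d, hd, h⟩ := Submodule.mem_sup.1 (hCD.sup_eq_top ▸ Submodule.mem_top (x := v))
    exact ⟨c, hc', d, hd, h.symm⟩
  -- perp A
  have hperp : perp Φ A = A ⊔ C := by
    apply le_antisymm
    · intro v hv
      obtain ⟨c, hc', d, hd, rfl⟩ := hsplit v
      have h1 : d ∈ A := by
        rw [← hms]
        refine ⟨hd, fun a ha => ?_⟩
        have h2 := hv a ha
        rwa [Φ.add_left, hort c hc' a (hAD ha), zero_add] at h2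
      rw [add_comm]
      exact Submodule.add_mem_sup h1 hc'
    · exact sup_le (fun a ha b hb => hG.ts.1 a ha b hb) fun c hc' a ha => hort c hc' a (hAD ha)
  obtain ⟨A', hA'D, hZA', hdis, hsup⟩ := exists_compl Z hc hZA hZD hAD
  -- dimensions
  have hd1 := finrank_perp (Φ := Φ) hN A
  have hd2 : finrank F ↥(A ⊔ C) = finrank F A + finrank F C := by
    have h1 := Submodule.finrank_sup_add_finrank_inf_eq A C
    have h2 : A ⊓ C = ⊥ := (hCD.disjoint.symm.mono_left hAD).eq_bot
    rw [h2, finrank_bot] at h1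
    omega
  have hd3 := Submodule.finrank_add_eq_of_isCompl hCD
  have hd4 : finrank F D = finrank F A + finrank F A' := by
    have h1 := Submodule.finrank_sup_add_finrank_inf_eq A A'
    rw [hdis.eq_bot, finrank_bot, hsup] at h1
    omega
  have hdA' : finrank F A' = e := by
    rw [hperp, hd2] at hd1
    omega
  -- pairing of A and A'
  have hp1 : ∀ a ∈ A, (∀ a' ∈ A', Φ.B a a' = 0) → a = 0 := by
    intro a ha h
    refine hN a fun v => ?_
    obtain ⟨c, hc', d, hd, rfl⟩ := hsplit v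
    rw [← hsup] at hd
    obtain ⟨b, hb, a', ha', rfl⟩ := Submodule.mem_sup.1 hd
    rw [Φ.add_right, Φ.add_right, hort' c hc' a (hAD ha), hG.ts.1 a ha b hb, h a' ha', add_zero, add_zero]
  have hp2 : ∀ a' ∈ A', (∀ a ∈ A, Φ.B a' a = 0) → a' = 0 := by
    intro a' ha' h
    have h1 : a' ∈ A := by
      rw [← hms]
      exact ⟨hA'D ha', h⟩
    exact (Submodule.disjoint_def.1 hdis) a' h1 ha'
  -- nontrivial on A
  have hntA : ∀ z ∈ Z, z ≠ 1 → ∃ a ∈ A, z a ≠ a := by
    intro z hz hz1
    by_contra hcon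
    push Not at hcon
    apply hz1
    have h1 : ∀ a' ∈ A', z a' = a' := by
      intro a' ha'
      rw [← sub_eq_zero]
      refine hp2 _ (A'.sub_mem (hZA' z hz a' ha') ha') fun a ha => ?_
      have h2 : Φ.B (z a') a = Φ.B a' a := by
        conv_lhs => rw [← hcon a ha]
        exact (hI hz).1 _ _
      have h3 : z a' = (z a' - a') + a' := by abel
      have h4 : Φ.B (z a') a = Φ.B (z a' - a') a + Φ.B a' a := by
        conv_lhs => rw [h3]
        exact Φ.add_left _ _ _
      rw [h2] at h4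
      exact add_eq_right.1 h4.symm
    ext v
    obtain ⟨c, hc', d, hd, rfl⟩ := hsplit v
    rw [← hsup] at hd
    obtain ⟨b, hb, a', ha', rfl⟩ := Submodule.mem_sup.1 hd
    rw [map_add, map_add, hc' z hz, hcon b hb, h1 a' ha']
    rfl
  have hiA : ∀ z ∈ Z, z ≠ 1 → (∀ W ≤ A, _root_.Cfsg.Agent.H847.Bs.Inv z W → W = ⊥ ∨ W = A) ∧ ∀ a ∈ A, z a = a → a = 0 :=
    fun z hz hz1 => irr_A h24 he hz hG.irr hdim (hntA z hz hz1)
  have hminA' : ∀ z ∈ Z, z ≠ 1 → ∀ W ≤ A', _root_.Cfsg.Agent.H847.Bs.Inv z W → W = ⊥ ∨ W = A' := by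
    intro z hz hz1 W hW hWz
    rcases (hiA z hz hz1).1 (perp Φ W ⊓ A) inf_le_right
      (fun v hv => ⟨inv_perp (hI hz) hWz v hv.1, hZA z hz v hv.2⟩) with h | h
    · right
      apply Submodule.eq_of_le_of_finrank_le hW
      have h1 := finrank_perp (Φ := Φ) hN W
      have h2 := Submodule.finrank_sup_add_finrank_inf_eq (perp Φ W) A
      rw [h, finrank_bot] at h2
      have h3 := Submodule.finrank_le (perp Φ W ⊔ A)
      (clear * - hdim hdA' h1 h2 h3; omega)
    · left
      rw [Submodule.eq_bot_iff]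
      intro w hw
      refine hp2 w (hW hw) fun a ha => ?_
      have h1 : a ∈ perp Φ W ⊓ A := by rw [h]; exact ha
      exact Φ.refl _ _ (h1.1 w hw)
  have hfixA' : ∀ z ∈ Z, z ≠ 1 → ∀ a' ∈ A', z a' = a' → a' = 0 := by
    intro z hz hz1
    let W : Submodule F V :=
      { carrier := {v | v ∈ A' ∧ z v = v}
        add_mem' := fun {v w} hv hw => ⟨add_mem hv.1 hw.1, by rw [map_add, hv.2, hw.2]⟩
        zero_mem' := ⟨zero_mem _, map_zero z⟩
        smul_mem' := fun c v hv => ⟨A'.smul_mem c hv.1, by rw [map_smul, hv.2]⟩ }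
    rcases hminA' z hz hz1 W (fun v hv => hv.1) (fun v hv => by rw [hv.2]; exact hv) with h | h
    · intro a' ha' hza
      have h1 : a' ∈ W := ⟨ha', hza⟩
      rwa [h, Submodule.mem_bot] at h1
    · exfalso
      obtain ⟨a, ha, hza⟩ := hntA z hz hz1
      apply hza
      rw [← sub_eq_zero]
      refine hp1 _ (A.sub_mem (hZA z hz a ha) ha) fun a' ha' => ?_
      have h0 : a' ∈ W := by rw [h]; exact ha'
      have h2 : Φ.B (z a) a' = Φ.B a a' := by
        conv_lhs => rw [← h0.2]
        exact (hI hz).1 _ _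
      have h3 : z a = (z a - a) + a := by abel
      have h4 : Φ.B (z a) a' = Φ.B (z a - a) a' + Φ.B a a' := by
        conv_lhs => rw [h3]
        exact Φ.add_left _ _ _
      rw [h2] at h4
      exact add_eq_right.1 h4.symm
  -- A' is totally isotropic
  have hfin := finite_gl F V
  obtain ⟨z₀, hz₀⟩ : ∃ z : Z, z ≠ 1 := by
    have : Nontrivial Z := by
      rw [← Finite.one_lt_card_iff_nontrivial]
      omega
    exact exists_ne 1
  have hz₀1 : (z₀ : V ≃ₗ[F] V) ≠ 1 := fun h => hz₀ (Subtype.ext h)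
  have hA'0 : A' ≠ ⊥ := by
    rintro rfl
    rw [finrank_bot] at hdA'
    omega
  have hirr : Irr (z₀ : V ≃ₗ[F] V) A' := ⟨hZA' z₀ z₀.2, hA'0, hminA' z₀ z₀.2 hz₀1⟩
  obtain ⟨r, hr, hrd, hre⟩ : ∃ r : ℕ, r.Prime ∧ r ∣ orderOf (rs (z₀ : V ≃ₗ[F] V) A' hirr.inv) ∧
      orderOf ((Nat.card F : ℕ) : ZMod r) = e := by
    have h1 : rs (z₀ : V ≃ₗ[F] V) A' hirr.inv ≠ 1 := by
      intro h
      apply hA'0
      rw [Submodule.eq_bot_iff]
      intro a' ha'
      refine hfixA' z₀ z₀.2 hz₀1 a' ha' ?_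
      have h2 := rs_apply hirr.inv ⟨a', ha'⟩
      rw [h] at h2
      exact h2.symm
    obtain ⟨r, hr, hrd⟩ := Nat.exists_prime_and_dvd (fun h => h1 (orderOf_eq_one_iff.1 h))
    refine ⟨r, hr, hrd, z₀.2.2 r hr (hrd.trans ?_)⟩
    rw [orderOf_dvd_iff_pow_eq_one]
    ext c
    rw [rs_pow, pow_orderOf_eq_one]
    rfl
  have hB0 := self_zero h10 hΦ (hI z₀.2) hirr hr hrd hre
  have hti : Φ.TI A' := by
    obtain ⟨S, hSA, hS, hSd⟩ := exists_sing hΦ hB0
    refine ⟨hB0, ?_⟩
    rcases hirr.min S hSA (fun v hv => (hS _).2 ⟨hirr.inv v (hSA hv), by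
      rw [(hI z₀.2).2]; exact ((hS v).1 hv).2⟩) with h | h
    · rw [h, finrank_bot] at hSd
      (clear * - he hdA' hSd; omega)
    · intro x hx
      exact ((hS x).1 (h ▸ hx)).2
  refine ⟨Z, A', C, fun z hz => hz.1, hcard, ⟨hG.ts, hti, hdim.trans hdA'.symm, hdis, ?_, hperp, ?_⟩,
    fun z hz => ⟨fun c hc' => hc' z hz, hZA z hz, hZA' z hz⟩, fun z hz hz1 => ⟨(hiA z hz hz1).1, (hiA z hz hz1).2,
      hminA' z hz hz1, hfixA' z hz hz1, ?_⟩⟩
  · rw [hsup]
    exact hCD.symm
  · apply le_antisymm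
    · intro v hv
      obtain ⟨c, hc', d, hd, rfl⟩ := hsplit v
      rw [← hsup] at hd
      obtain ⟨b, hb, a', ha', rfl⟩ := Submodule.mem_sup.1 hd
      have h1 : b = 0 := by
        refine hp1 b hb fun w hw => ?_
        have h2 := hv w hw
        rwa [Φ.add_left, Φ.add_left, hort c hc' w (hA'D hw), hB0 a' ha' w hw, zero_add, add_zero] at h2
      rw [h1, zero_add, add_comm]
      exact Submodule.add_mem_sup ha' hc'
    · exact sup_le (fun a ha b hb => hti.1 a ha b hb) fun c hc' a ha => hort c hc' a (hA'D ha)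
  · obtain ⟨r, hr, hrd⟩ := Nat.exists_prime_and_dvd (fun h => hz1 (orderOf_eq_one_iff.1 h))
    exact ⟨r, hr, hrd, hz.2 r hr hrd⟩

end Cfsg.Agent.H343.RG
end
end

-- part: H815/BR/Row2
section
prune_inst 0x35706d605d00020000180596b10020046c00059200230400dd210f460a0ef3626d42af4145902c03582aa8c04009002811100090c24000002e200400001d002090801204a158a90002009f002087000000000000000000000000000000075004000000000
set_option linter.all false
open scoped Cfsg.Agent.FastGrp

-- part: H815/BR/Count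
section
/-!
# HUB BR, A6, A7: the final count (helper815)
-/

set_option autoImplicit false

namespace Cfsg.Agent.H815.BR

open Cfsg.Agent.H883.BR

universe u v w

/-- A2 -/
def StDensConj : Prop := ∀ (m e : ℕ), ∃ C : ℕ, ∀ (K : Type u) [Field K] (F : Subfield K) [Finite F] (G : Type w) [Group G]
    [Finite G] (ι : Type w) (x : ι → F → G) (V : Type u) [AddCommGroup V] [Module K V] [FiniteDimensional K V]
    (R : G →* Module.End K V), Module.finrank K V ≤ m → OneP F x → PolyDeg R F x e →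
    (∃ x0 y0 : G, Subgroup.closure {x0, y0 * x0 * y0⁻¹} = ⊤) →
    Nat.card F * Nat.card {z : G × G // ¬ Dns R (Subgroup.closure {z.1, z.2 * z.1 * z.2⁻¹})} ≤
      C * Nat.card G ^ 2

/-- A3 -/
def StDensFix : Prop := ∀ (m e : ℕ), ∃ C : ℕ, ∀ (K : Type u) [Field K] (F : Subfield K) [Finite F] (G : Type w) [Group G]
    [Finite G] (ι : Type w) (x : ι → F → G) (V : Type u) [AddCommGroup V] [Module K V] [FiniteDimensional K V]
    (R : G →* Module.End K V), Module.finrank K V ≤ m → OneP F x → PolyDeg R F x e →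
    ∀ g : G, (∃ y0 : G, Subgroup.closure {g, y0} = ⊤) →
    Nat.card F * Nat.card {y : G // ¬ Dns R (Subgroup.closure {g, y})} ≤ C * Nat.card G

/-- A4 -/
def StTypPow : Prop := ∀ (m e k : ℕ), ∃ C : ℕ, ∀ (K : Type u) [Field K] (F : Subfield K) [Finite F] (G : Type w) [Group G]
    [Finite G] (ι : Type w) (x : ι → F → G) (V : Type u) [AddCommGroup V] [Module K V] [FiniteDimensional K V]
    (R : G →* Module.End K V), Module.finrank K V ≤ m → OneP F x → PolyDeg R F x e →
    (∃ g : G, R (g ^ k) ≠ 1) →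
    Nat.card F * Nat.card {y : G // R (y ^ k) = 1} ≤ C * Nat.card G

/-- A5 -/
def StTypTr : Prop := ∀ (m e : ℕ), ∃ C : ℕ, ∀ (K : Type u) [Field K] (F : Subfield K) [Finite F] (G : Type w) [Group G]
    [Finite G] (ι : Type w) (x : ι → F → G) (V : Type u) [AddCommGroup V] [Module K V] [FiniteDimensional K V]
    (R : G →* Module.End K V), Module.finrank K V ≤ m → OneP F x → PolyDeg R F x e →
    (∃ g h : G, (LinearMap.trace K V (R g)) ^ Module.finrank K V ≠ (LinearMap.trace K V (R h)) ^ Module.finrank K V) →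
    Nat.sqrt (Nat.card F) * Nat.card {y : G // ¬ TrGen F R y} ≤ C * Nat.card G

/-! ### counting tools -/

theorem card_or {X : Type*} [Finite X] (P Q : X → Prop) :
    Nat.card {x // P x ∨ Q x} ≤ Nat.card {x // P x} + Nat.card {x // Q x} := by
  have h := Set.ncard_union_le {x | P x} {x | Q x}
  exact h

theorem card_mono {X : Type*} [Finite X] {P Q : X → Prop} (h : ∀ x, P x → Q x) :
    Nat.card {x // P x} ≤ Nat.card {x // Q x} :=
  Nat.card_le_card_of_injective (fun x : {x // P x} => (⟨x.1, h _ x.2⟩ : {x // Q x}))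
    (fun _ _ hab => Subtype.ext (congrArg (fun z : {x // Q x} => z.1) hab))

/-- from `s · bad ≤ D · N` to a proportion -/
theorem prop_le {ε : ℝ} {D s bad N : ℕ} (hD : (D : ℝ) ≤ ε * s) (hs : 0 < s) (h : s * bad ≤ D * N) :
    (bad : ℝ) ≤ ε * N := by
  have h1 : (s : ℝ) * bad ≤ D * N := by exact_mod_cast h
  have h2 : (D : ℝ) * N ≤ ε * s * N := mul_le_mul_of_nonneg_right hD (Nat.cast_nonneg N)
  have h3 : (s : ℝ) * bad ≤ s * (ε * N) := by
    calc (s : ℝ) * bad ≤ ε * s * N := h1.trans h2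
      _ = s * (ε * N) := by ring
  exact le_of_mul_le_mul_left h3 (by exact_mod_cast hs)

theorem exists_large (D : ℕ) {ε : ℝ} (hε : 0 < ε) : ∃ Q : ℕ, ∀ q, Q ≤ q → 0 < Nat.sqrt q ∧ (D : ℝ) ≤ ε * Nat.sqrt q := by
  obtain ⟨s, hs⟩ := exists_nat_ge ((D : ℝ) / ε)
  refine ⟨(s + 1) ^ 2, fun q hq => ?_⟩
  have h1 : s + 1 ≤ Nat.sqrt q := by
    rw [Nat.le_sqrt']
    exact hq
  refine ⟨by omega, ?_⟩
  have h2 : (s : ℝ) ≤ Nat.sqrt q := by exact_mod_cast (by omega : s ≤ Nat.sqrt q)
  rw [div_le_iff₀ hε] at hs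
  calc (D : ℝ) ≤ s * ε := hs
    _ = ε * s := mul_comm _ _
    _ ≤ ε * Nat.sqrt q := mul_le_mul_of_nonneg_left h2 hε.le

theorem card_good {X : Type*} [Finite X] (P : X → Prop) {ε : ℝ} {N : ℝ} (hN : (Nat.card X : ℝ) = N)
    (h : (Nat.card {x : X // ¬ P x} : ℝ) ≤ ε * N) : (1 - ε) * N ≤ Nat.card {x : X // P x} := by
  classical
  have h1 : Nat.card {x : X // P x} + Nat.card {x : X // ¬ P x} = Nat.card X := by
    rw [← Nat.card_sum]
    exact Nat.card_congr (Equiv.sumCompl P)
  have h2 : (Nat.card {x : X // P x} : ℝ) + Nat.card {x : X // ¬ P x} = N := by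
    rw [← hN, ← h1]
    push_cast
    ring
  linarith only [h, h2]

/-- the bound for the number of atypical elements -/
theorem card_atyp (hP : StTypPow.{u, w}) (hT : StTypTr.{u, w}) (C : ℕ) : ∃ D : ℕ, ∀ (K : Type u) [Field K] (F : Subfield K)
    [Finite F] (G : Type w) [Group G] [Finite G] (ι : Type w) (x : ι → F → G) (V W W' : Type u) [AddCommGroup V]
    [Module K V] [AddCommGroup W] [Module K W] [AddCommGroup W'] [Module K W'] [FiniteDimensional K V]
    [FiniteDimensional K W] [FiniteDimensional K W'] (R : G →* Module.End K V) (σ : G →* Module.End K W)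
    (σ' : G →* Module.End K W'), OneP F x → Module.finrank K V ≤ C → Module.finrank K W ≤ C →
    Module.finrank K W' ≤ C → PolyDeg R F x C → PolyDeg σ F x C → PolyDeg σ' F x C →
    (∃ g h : G, (LinearMap.trace K W (σ g)) ^ Module.finrank K W ≠ (LinearMap.trace K W (σ h)) ^ Module.finrank K W) →
    (∃ g h : G, (LinearMap.trace K W' (σ' g)) ^ Module.finrank K W' ≠
      (LinearMap.trace K W' (σ' h)) ^ Module.finrank K W') →
    (∀ k, 0 < k → k ≤ C → ∃ g : G, R (g ^ k) ≠ 1) →
    Nat.sqrt (Nat.card F) * Nat.card {y : G // ¬ ((∀ k, 0 < k → k ≤ C → R (y ^ k) ≠ 1) ∧ TrGen F σ y ∧ TrGen F σ' y)} ≤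
      D * Nat.card G := by
  choose A hA using fun k => hP C C k
  obtain ⟨B, hB⟩ := hT C C
  refine ⟨(∑ k ∈ Finset.range (C + 1), A k) + (B + B), ?_⟩
  intro K _ F _ G _ _ ι x V W W' _ _ _ _ _ _ _ _ _ R σ σ' hx d1 d2 d3 p1 p2 p3 t1 t2 hk
  set s := Nat.sqrt (Nat.card F) with hs
  have hsq : s ≤ Nat.card F := Nat.sqrt_le_self _
  have h1 : Nat.card {y : G // ¬ ((∀ k, 0 < k → k ≤ C → R (y ^ k) ≠ 1) ∧ TrGen F σ y ∧ TrGen F σ' y)} ≤
      Nat.card {y : G // (∃ k ∈ Finset.range (C + 1), (0 < k ∧ R (y ^ k) = 1)) ∨ (¬ TrGen F σ y ∨ ¬ TrGen F σ' y)} := by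
    refine card_mono ?_
    intro y hy
    by_contra hcon
    push Not at hcon
    obtain ⟨c1, c2, c3⟩ := hcon
    apply hy
    refine ⟨fun k hk0 hkC hk1 => ?_, c2, c3⟩
    exact c1 k (Finset.mem_range.2 (by omega)) hk0 hk1
  have h2 : ∀ k ∈ Finset.range (C + 1), s * Nat.card {y : G // 0 < k ∧ R (y ^ k) = 1} ≤ A k * Nat.card G := by
    intro k hkC
    rcases Nat.eq_zero_or_pos k with rfl | hk0
    · have : Nat.card {y : G // 0 < 0 ∧ R (y ^ 0) = 1} = 0 := by
        have : IsEmpty {y : G // 0 < 0 ∧ R (y ^ 0) = 1} := ⟨fun y => absurd y.2.1 (lt_irrefl _)⟩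
        exact Nat.card_of_isEmpty
      rw [this, mul_zero]
      exact Nat.zero_le _
    · have h3 := hA k K F G ι x V R d1 hx p1 (hk k hk0 (by have := Finset.mem_range.1 hkC; omega))
      refine le_trans (Nat.mul_le_mul hsq (card_mono fun y hy => hy.2)) h3
  have h3 := hB K F G ι x W σ d2 hx p2 t1
  have h4 := hB K F G ι x W' σ' d3 hx p3 t2
  rw [← hs] at h3 h4
  have h5 : ∀ r : ℕ, r ≤ C + 1 → s * Nat.card {y : G // ∃ k ∈ Finset.range r, (0 < k ∧ R (y ^ k) = 1)} ≤
      (∑ k ∈ Finset.range r, A k) * Nat.card G := by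
    intro r
    induction r with
    | zero =>
      intro _
      have : IsEmpty {y : G // ∃ k ∈ Finset.range 0, (0 < k ∧ R (y ^ k) = 1)} := by
        refine ⟨fun y => ?_⟩
        obtain ⟨k, hk, -⟩ := y.2
        simp at hk
      rw [Nat.card_of_isEmpty, mul_zero]
      exact Nat.zero_le _
    | succ r ih =>
      intro hr
      have h6 : Nat.card {y : G // ∃ k ∈ Finset.range (r + 1), (0 < k ∧ R (y ^ k) = 1)} ≤
          Nat.card {y : G // (∃ k ∈ Finset.range r, (0 < k ∧ R (y ^ k) = 1)) ∨ (0 < r ∧ R (y ^ r) = 1)} := by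
        refine card_mono ?_
        rintro y ⟨k, hk, hy⟩
        rw [Finset.mem_range] at hk
        rcases Nat.lt_succ_iff_lt_or_eq.1 hk with h | rfl
        · exact Or.inl ⟨k, Finset.mem_range.2 h, hy⟩
        · exact Or.inr hy
      rw [Finset.sum_range_succ, add_mul]
      calc s * Nat.card {y : G // ∃ k ∈ Finset.range (r + 1), (0 < k ∧ R (y ^ k) = 1)}
          ≤ s * (Nat.card {y : G // ∃ k ∈ Finset.range r, (0 < k ∧ R (y ^ k) = 1)} +
            Nat.card {y : G // 0 < r ∧ R (y ^ r) = 1}) := Nat.mul_le_mul_left _ (h6.trans (card_or _ _))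
        _ = s * Nat.card {y : G // ∃ k ∈ Finset.range r, (0 < k ∧ R (y ^ k) = 1)} +
            s * Nat.card {y : G // 0 < r ∧ R (y ^ r) = 1} := mul_add _ _ _
        _ ≤ _ := Nat.add_le_add (ih (by omega)) (h2 r (Finset.mem_range.2 (by omega)))
  have h6 := h5 (C + 1) le_rfl
  calc s * _ ≤ s * (Nat.card {y : G // ∃ k ∈ Finset.range (C + 1), (0 < k ∧ R (y ^ k) = 1)} +
        (Nat.card {y : G // ¬ TrGen F σ y} + Nat.card {y : G // ¬ TrGen F σ' y})) :=
        Nat.mul_le_mul_left _ (h1.trans ((card_or _ _).trans (Nat.add_le_add_left (card_or _ _) _)))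
    _ = s * Nat.card {y : G // ∃ k ∈ Finset.range (C + 1), (0 < k ∧ R (y ^ k) = 1)} +
        (s * Nat.card {y : G // ¬ TrGen F σ y} + s * Nat.card {y : G // ¬ TrGen F σ' y}) := by ring
    _ ≤ (∑ k ∈ Finset.range (C + 1), A k) * Nat.card G + (B * Nat.card G + B * Nat.card G) :=
        Nat.add_le_add h6 (Nat.add_le_add h3 h4)
    _ = _ := by ring

end Cfsg.Agent.H815.BR
end

-- part: H815/BR/Miss
section
/-!
# HUB BR, A8: from `Row` to the simple group (helper815)
-/

set_option autoImplicit false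

namespace Cfsg.Agent.H815.BR

open Cfsg.Agent.H883.BR Subgroup
open Cfsg.Agent.H262.Rx (missX missC)
open scoped commutatorElement

universe u v w

section tools

variable {G T : Type*} [Group G] [Group T]

/-- generation modulo the centre -/
theorem closure_top_iff (f : G →* T) (hf : Function.Surjective f) (hker : f.ker = center G) (hG : commutator G = ⊤)
    (s : Set G) : closure s = ⊤ ↔ _root_.Subgroup.closure (f '' s) = ⊤ := by
  have hm : _root_.Subgroup.closure (f '' s) = (closure s).map f := (MonoidHom.map_closure f s).symm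
  constructor
  · intro h
    rw [hm, h]
    exact Subgroup.map_top_of_surjective f hf
  · intro h
    rw [hm] at h
    have key : ∀ g : G, ∃ x ∈ closure s, ∃ z ∈ center G, g = x * z := by
      intro g
      have h1 : f g ∈ (closure s).map f := by
        rw [h]
        exact mem_top _
      obtain ⟨x, hx, hxg⟩ := h1
      refine ⟨x, hx, x⁻¹ * g, ?_, by group⟩
      rw [← hker, MonoidHom.mem_ker, map_mul, map_inv, hxg, inv_mul_cancel]
    rw [eq_top_iff, ← hG, commutator_def, commutator_le]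
    intro g1 _ g2 _
    obtain ⟨x1, hx1, z1, hz1, rfl⟩ := key g1
    obtain ⟨x2, hx2, z2, hz2, rfl⟩ := key g2
    have e : ⁅x1 * z1, x2 * z2⁆ = ⁅x1, x2⁆ := by
      have c1 := fun y => mem_center_iff.1 hz1 y
      have c2 := fun y => mem_center_iff.1 hz2 y
      rw [commutatorElement_def, commutatorElement_def, mul_inv_rev, mul_inv_rev]
      calc x1 * z1 * (x2 * z2) * (z1⁻¹ * x1⁻¹) * (z2⁻¹ * x2⁻¹)
          = x1 * (z1 * (x2 * z2)) * z1⁻¹ * x1⁻¹ * (z2⁻¹ * x2⁻¹) := by group
        _ = x1 * ((x2 * z2) * z1) * z1⁻¹ * x1⁻¹ * (z2⁻¹ * x2⁻¹) := by rw [c1]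
        _ = x1 * x2 * (z2 * x1⁻¹) * z2⁻¹ * x2⁻¹ := by group
        _ = x1 * x2 * (x1⁻¹ * z2) * z2⁻¹ * x2⁻¹ := by rw [c2]
        _ = _ := by group
    rw [e]
    exact mul_mem (mul_mem (mul_mem hx1 hx2) (inv_mem hx1)) (inv_mem hx2)

theorem card_preimage [Finite G] (f : G →* T) (hf : Function.Surjective f) (P : T → Prop) :
    Nat.card {g : G // P (f g)} = Nat.card f.ker * Nat.card {t : T // P t} := by
  have hs : ∀ t, f (Function.surjInv hf t) = t := Function.surjInv_eq hf
  have e : {g : G // P (f g)} ≃ f.ker × {t : T // P t} := {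
    toFun := fun g => (⟨(Function.surjInv hf (f g.1))⁻¹ * g.1, by
      rw [MonoidHom.mem_ker, map_mul, map_inv, hs, inv_mul_cancel]⟩, ⟨f g.1, g.2⟩)
    invFun := fun x => ⟨Function.surjInv hf x.2.1 * x.1.1, by
      rw [map_mul, hs, MonoidHom.mem_ker.1 x.1.2, mul_one]
      exact x.2.2⟩
    left_inv := by
      rintro ⟨g, hg⟩
      apply Subtype.ext
      change Function.surjInv hf (f g) * ((Function.surjInv hf (f g))⁻¹ * g) = g
      group
    right_inv := by
      rintro ⟨⟨k, hk⟩, ⟨t, ht⟩⟩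
      have h1 : f (Function.surjInv hf t * k) = t := by rw [map_mul, hs, MonoidHom.mem_ker.1 hk, mul_one]
      apply Prod.ext
      · apply Subtype.ext
        change (Function.surjInv hf (f (Function.surjInv hf t * k)))⁻¹ * (Function.surjInv hf t * k) = k
        rw [h1]
        group
      · exact Subtype.ext h1 }
  rw [Nat.card_congr e, Nat.card_prod]

end tools

end Cfsg.Agent.H815.BR
end

-- part: H815/BR/Row2
section
/-!
# HUB BR: `Row` with an exceptional set (helper815)

`Row2 C q G` is `Row C q G` with an exceptional set `E` of size at most `C |G| / sqrt q`; the last clause is required for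
`y ∉ E` only. The conclusions of `row_conj`, `row_fix` and `miss_of_row` hold for it.
-/

set_option autoImplicit false

namespace Cfsg.Agent.H815.BR

open Cfsg.Agent.H883.BR

universe u v w

/-- everything the counting needs, with an exceptional set -/
def Row2 (C q : ℕ) (G : Type w) [Group G] : Prop :=
  ∃ (K : Type u) (_ : Field K) (F : Subfield K) (ι : Type w) (x : ι → F → G)
    (V W W' : Type u) (_ : AddCommGroup V) (_ : Module K V) (_ : AddCommGroup W) (_ : Module K W)
    (_ : AddCommGroup W') (_ : Module K W')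
    (R : G →* Module.End K V) (σ : G →* Module.End K W) (σ' : G →* Module.End K W') (E : Set G),
    Finite F ∧ Nat.card F = q ∧ OneP F x ∧
    FiniteDimensional K V ∧ FiniteDimensional K W ∧ FiniteDimensional K W' ∧
    Module.finrank K V ≤ C ∧ Module.finrank K W ≤ C ∧ Module.finrank K W' ≤ C ∧
    PolyDeg R F x C ∧ PolyDeg σ F x C ∧ PolyDeg σ' F x C ∧
    (∃ g h : G, (LinearMap.trace K W (σ g)) ^ Module.finrank K W ≠ (LinearMap.trace K W (σ h)) ^ Module.finrank K W) ∧
    (∃ g h : G, (LinearMap.trace K W' (σ' g)) ^ Module.finrank K W' ≠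
      (LinearMap.trace K W' (σ' h)) ^ Module.finrank K W') ∧
    (∀ k, 0 < k → k ≤ C → ∃ g : G, R (g ^ k) ≠ 1) ∧
    Nat.sqrt q * Nat.card {y : G // y ∈ E} ≤ C * Nat.card G ∧
    ∀ H : Subgroup G, Dns R H → ∀ y ∈ H, y ∉ E → (∀ k, 0 < k → k ≤ C → R (y ^ k) ≠ 1) → TrGen F σ y → TrGen F σ' y →
      H = ⊤

theorem Row2.of_row {C q : ℕ} {G : Type w} [Group G] (h : Row.{u, w} C q G) : Row2.{u, w} C q G := by
  obtain ⟨K, iK, F, ι, x, h88⟩ := h
  obtain ⟨V, W, W', i1, i2, h88⟩ := h88
  obtain ⟨i3, i4, i5, i6, R, h88⟩ := h88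
  obtain ⟨σ, σ', hF, hFq, hx, h88⟩ := h88
  obtain ⟨f1, f2, f3, d1, d2, h88⟩ := h88
  obtain ⟨d3, p1, p2, p3, t1, h88⟩ := h88
  obtain ⟨t2, hk, hend⟩ := h88
  refine ⟨K, iK, F, ι, x, V, W, W', i1, i2, i3, i4, i5, i6, R, σ, σ', ∅, hF, hFq, hx, f1, f2, f3, d1, d2, d3, p1, p2, p3,
    t1, t2, hk, ?_, fun H hH y hy _ => hend H hH y hy⟩
  have : IsEmpty {y : G // y ∈ (∅ : Set G)} := ⟨fun y => y.2⟩
  rw [Nat.card_of_isEmpty, mul_zero]
  exact Nat.zero_le _

/-- A6 with an exceptional set -/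
theorem row2_conj (hD : StDensConj.{u, w}) (hP : StTypPow.{u, w}) (hT : StTypTr.{u, w}) (C : ℕ) (ε : ℝ) (hε : 0 < ε) :
    ∃ Q : ℕ, ∀ q, Q ≤ q → ∀ (G : Type w) [Group G] [Finite G],
    Row2.{u, w} C q G → (∃ x0 y0 : G, Subgroup.closure {x0, y0 * x0 * y0⁻¹} = ⊤) →
    (1 - ε) * (Nat.card G : ℝ) ^ 2 ≤ Nat.card {z : G × G // Subgroup.closure {z.1, z.2 * z.1 * z.2⁻¹} = ⊤} := by
  obtain ⟨A, hA⟩ := hD C C
  obtain ⟨B, hB⟩ := card_atyp hP hT C
  obtain ⟨Q, hQ⟩ := exists_large (A + (B + C)) hε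
  refine ⟨Q, fun q hq G _ _ hrow h0 => ?_⟩
  obtain ⟨K, _, F, ι, x, h88⟩ := hrow
  obtain ⟨V, W, W', _, _, h88⟩ := h88
  obtain ⟨_, _, _, _, R, h88⟩ := h88
  obtain ⟨σ, σ', E, hF, hFq, h88⟩ := h88
  obtain ⟨hx, f1, f2, f3, d1, h88⟩ := h88
  obtain ⟨d2, d3, p1, p2, p3, h88⟩ := h88
  obtain ⟨t1, t2, hk, hE, hend⟩ := h88
  obtain ⟨hs0, hsε⟩ := hQ q hq
  have h1 := hA K F G ι x V R d1 hx p1 h0
  have h2' := hB K F G ι x V W W' R σ σ' hx d1 d2 d3 p1 p2 p3 t1 t2 hk
  rw [hFq] at h1 h2'
  have h2 : Nat.sqrt q * Nat.card {y : G // ¬ ((∀ k, 0 < k → k ≤ C → R (y ^ k) ≠ 1) ∧ TrGen F σ y ∧ TrGen F σ' y ∧ y ∉ E)} ≤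
      (B + C) * Nat.card G := by
    have h3 : Nat.card {y : G // ¬ ((∀ k, 0 < k → k ≤ C → R (y ^ k) ≠ 1) ∧ TrGen F σ y ∧ TrGen F σ' y ∧ y ∉ E)} ≤
        Nat.card {y : G // ¬ ((∀ k, 0 < k → k ≤ C → R (y ^ k) ≠ 1) ∧ TrGen F σ y ∧ TrGen F σ' y)} +
        Nat.card {y : G // y ∈ E} := by
      refine le_trans (card_mono ?_) (card_or _ _)
      intro y hy
      by_contra hcon
      push Not at hcon
      obtain ⟨⟨c1, c2, c3⟩, c4⟩ := hcon
      exact hy ⟨c1, c2, c3, c4⟩
    calc _ ≤ Nat.sqrt q * (Nat.card {y : G // ¬ ((∀ k, 0 < k → k ≤ C → R (y ^ k) ≠ 1) ∧ TrGen F σ y ∧ TrGen F σ' y)} +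
        Nat.card {y : G // y ∈ E}) := Nat.mul_le_mul_left _ h3
      _ = Nat.sqrt q * Nat.card {y : G // ¬ ((∀ k, 0 < k → k ≤ C → R (y ^ k) ≠ 1) ∧ TrGen F σ y ∧ TrGen F σ' y)} +
        Nat.sqrt q * Nat.card {y : G // y ∈ E} := by ring
      _ ≤ B * Nat.card G + C * Nat.card G := Nat.add_le_add h2' hE
      _ = _ := by ring
  have hN : (Nat.card (G × G) : ℝ) = (Nat.card G : ℝ) ^ 2 := by
    rw [Nat.card_prod]
    push_cast
    ring
  refine card_good _ hN ?_
  have h3 : Nat.card {z : G × G // ¬ Subgroup.closure {z.1, z.2 * z.1 * z.2⁻¹} = ⊤} ≤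
      Nat.card {z : G × G // ¬ Dns R (Subgroup.closure {z.1, z.2 * z.1 * z.2⁻¹})} +
      Nat.card {y : G // ¬ ((∀ k, 0 < k → k ≤ C → R (y ^ k) ≠ 1) ∧ TrGen F σ y ∧ TrGen F σ' y ∧ y ∉ E)} * Nat.card G := by
    have h4 : Nat.card {z : G × G // ¬ Subgroup.closure {z.1, z.2 * z.1 * z.2⁻¹} = ⊤} ≤
        Nat.card {z : G × G // ¬ Dns R (Subgroup.closure {z.1, z.2 * z.1 * z.2⁻¹}) ∨
          ¬ ((∀ k, 0 < k → k ≤ C → R (z.1 ^ k) ≠ 1) ∧ TrGen F σ z.1 ∧ TrGen F σ' z.1 ∧ z.1 ∉ E)} := by
      refine card_mono ?_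
      intro z hz
      by_contra hcon
      push Not at hcon
      obtain ⟨c1, c2, c3, c4, c5⟩ := hcon
      exact hz (hend _ c1 z.1 (Subgroup.subset_closure (Set.mem_insert _ _)) c5 c2 c3 c4)
    refine h4.trans ((card_or _ _).trans (Nat.add_le_add_left ?_ _))
    have e : {z : G × G // ¬ ((∀ k, 0 < k → k ≤ C → R (z.1 ^ k) ≠ 1) ∧ TrGen F σ z.1 ∧ TrGen F σ' z.1 ∧ z.1 ∉ E)} ≃
        {y : G // ¬ ((∀ k, 0 < k → k ≤ C → R (y ^ k) ≠ 1) ∧ TrGen F σ y ∧ TrGen F σ' y ∧ y ∉ E)} × G :=
      { toFun := fun z => (⟨z.1.1, z.2⟩, z.1.2)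
        invFun := fun z => ⟨(z.1.1, z.2), z.1.2⟩
        left_inv := fun z => rfl
        right_inv := fun z => rfl }
    rw [Nat.card_congr e, Nat.card_prod]
  have hsq : Nat.sqrt q ≤ q := Nat.sqrt_le_self _
  have h5 : Nat.sqrt q * Nat.card {z : G × G // ¬ Subgroup.closure {z.1, z.2 * z.1 * z.2⁻¹} = ⊤} ≤
      (A + (B + C)) * Nat.card G ^ 2 := by
    calc _ ≤ Nat.sqrt q * (Nat.card {z : G × G // ¬ Dns R (Subgroup.closure {z.1, z.2 * z.1 * z.2⁻¹})} +
        Nat.card {y : G // ¬ ((∀ k, 0 < k → k ≤ C → R (y ^ k) ≠ 1) ∧ TrGen F σ y ∧ TrGen F σ' y ∧ y ∉ E)} * Nat.card G) :=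
          Nat.mul_le_mul_left _ h3
      _ = Nat.sqrt q * Nat.card {z : G × G // ¬ Dns R (Subgroup.closure {z.1, z.2 * z.1 * z.2⁻¹})} +
        (Nat.sqrt q * Nat.card {y : G // ¬ ((∀ k, 0 < k → k ≤ C → R (y ^ k) ≠ 1) ∧ TrGen F σ y ∧ TrGen F σ' y ∧ y ∉ E)}) *
          Nat.card G := by ring
      _ ≤ A * Nat.card G ^ 2 + ((B + C) * Nat.card G) * Nat.card G :=
          Nat.add_le_add ((Nat.mul_le_mul_right _ hsq).trans h1) (Nat.mul_le_mul_right _ h2)
      _ = _ := by ring
  have h6 := prop_le (N := Nat.card G ^ 2) (by exact_mod_cast hsε) hs0 h5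
  exact_mod_cast h6

/-- A7 with an exceptional set -/
theorem row2_fix (hD : StDensFix.{u, w}) (hP : StTypPow.{u, w}) (hT : StTypTr.{u, w}) (C : ℕ) (ε : ℝ) (hε : 0 < ε) :
    ∃ Q : ℕ, ∀ q, Q ≤ q → ∀ (G : Type w) [Group G] [Finite G],
    Row2.{u, w} C q G → ∀ g : G, (∃ y0 : G, Subgroup.closure {g, y0} = ⊤) →
    (1 - ε) * (Nat.card G : ℝ) ≤ Nat.card {y : G // Subgroup.closure {g, y} = ⊤} := by
  obtain ⟨A, hA⟩ := hD C C
  obtain ⟨B, hB⟩ := card_atyp hP hT C
  obtain ⟨Q, hQ⟩ := exists_large (A + (B + C)) hε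
  refine ⟨Q, fun q hq G _ _ hrow g h0 => ?_⟩
  obtain ⟨K, _, F, ι, x, h88⟩ := hrow
  obtain ⟨V, W, W', _, _, h88⟩ := h88
  obtain ⟨_, _, _, _, R, h88⟩ := h88
  obtain ⟨σ, σ', E, hF, hFq, h88⟩ := h88
  obtain ⟨hx, f1, f2, f3, d1, h88⟩ := h88
  obtain ⟨d2, d3, p1, p2, p3, h88⟩ := h88
  obtain ⟨t1, t2, hk, hE, hend⟩ := h88
  obtain ⟨hs0, hsε⟩ := hQ q hq
  have h1 := hA K F G ι x V R d1 hx p1 g h0
  have h2' := hB K F G ι x V W W' R σ σ' hx d1 d2 d3 p1 p2 p3 t1 t2 hk
  rw [hFq] at h1 h2'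
  have h2 : Nat.sqrt q * Nat.card {y : G // ¬ ((∀ k, 0 < k → k ≤ C → R (y ^ k) ≠ 1) ∧ TrGen F σ y ∧ TrGen F σ' y ∧ y ∉ E)} ≤
      (B + C) * Nat.card G := by
    have h3 : Nat.card {y : G // ¬ ((∀ k, 0 < k → k ≤ C → R (y ^ k) ≠ 1) ∧ TrGen F σ y ∧ TrGen F σ' y ∧ y ∉ E)} ≤
        Nat.card {y : G // ¬ ((∀ k, 0 < k → k ≤ C → R (y ^ k) ≠ 1) ∧ TrGen F σ y ∧ TrGen F σ' y)} +
        Nat.card {y : G // y ∈ E} := by
      refine le_trans (card_mono ?_) (card_or _ _)
      intro y hy
      by_contra hcon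
      push Not at hcon
      obtain ⟨⟨c1, c2, c3⟩, c4⟩ := hcon
      exact hy ⟨c1, c2, c3, c4⟩
    calc _ ≤ Nat.sqrt q * (Nat.card {y : G // ¬ ((∀ k, 0 < k → k ≤ C → R (y ^ k) ≠ 1) ∧ TrGen F σ y ∧ TrGen F σ' y)} +
        Nat.card {y : G // y ∈ E}) := Nat.mul_le_mul_left _ h3
      _ = Nat.sqrt q * Nat.card {y : G // ¬ ((∀ k, 0 < k → k ≤ C → R (y ^ k) ≠ 1) ∧ TrGen F σ y ∧ TrGen F σ' y)} +
        Nat.sqrt q * Nat.card {y : G // y ∈ E} := by ring
      _ ≤ B * Nat.card G + C * Nat.card G := Nat.add_le_add h2' hE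
      _ = _ := by ring
  refine card_good _ rfl ?_
  have h3 : Nat.card {y : G // ¬ Subgroup.closure {g, y} = ⊤} ≤
      Nat.card {y : G // ¬ Dns R (Subgroup.closure {g, y})} +
      Nat.card {y : G // ¬ ((∀ k, 0 < k → k ≤ C → R (y ^ k) ≠ 1) ∧ TrGen F σ y ∧ TrGen F σ' y ∧ y ∉ E)} := by
    refine le_trans (card_mono ?_) (card_or _ _)
    intro z hz
    by_contra hcon
    push Not at hcon
    obtain ⟨c1, c2, c3, c4, c5⟩ := hcon
    exact hz (hend _ c1 z (Subgroup.subset_closure (Set.mem_insert_of_mem _ rfl)) c5 c2 c3 c4)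
  have hsq : Nat.sqrt q ≤ q := Nat.sqrt_le_self _
  have h5 : Nat.sqrt q * Nat.card {y : G // ¬ Subgroup.closure {g, y} = ⊤} ≤ (A + (B + C)) * Nat.card G := by
    calc _ ≤ Nat.sqrt q * (Nat.card {y : G // ¬ Dns R (Subgroup.closure {g, y})} +
        Nat.card {y : G // ¬ ((∀ k, 0 < k → k ≤ C → R (y ^ k) ≠ 1) ∧ TrGen F σ y ∧ TrGen F σ' y ∧ y ∉ E)}) :=
          Nat.mul_le_mul_left _ h3
      _ = Nat.sqrt q * Nat.card {y : G // ¬ Dns R (Subgroup.closure {g, y})} +
        Nat.sqrt q * Nat.card {y : G // ¬ ((∀ k, 0 < k → k ≤ C → R (y ^ k) ≠ 1) ∧ TrGen F σ y ∧ TrGen F σ' y ∧ y ∉ E)} := by ring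
      _ ≤ A * Nat.card G + (B + C) * Nat.card G := Nat.add_le_add ((Nat.mul_le_mul_right _ hsq).trans h1) h2
      _ = _ := by ring
  exact prop_le (by exact_mod_cast hsε) hs0 h5

section miss

open Subgroup
open Cfsg.Agent.H262.Rx (missX missC)
open scoped commutatorElement

/-- A8 for one group -/
theorem miss_core {ε : ℝ} {G T : Type} [Group G] [Group T] [Finite G] [Finite T] [IsSimpleGroup T] (f : G →* T)
    (hf : Function.Surjective f) (hker : f.ker = center G) (hG : QS G)
    (h1 : (∃ x0 y0 : G, Subgroup.closure {x0, y0 * x0 * y0⁻¹} = ⊤) →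
      (1 - ε) * (Nat.card G : ℝ) ^ 2 ≤ Nat.card {z : G × G // Subgroup.closure {z.1, z.2 * z.1 * z.2⁻¹} = ⊤})
    (h2 : ∀ g : G, (∃ y0 : G, Subgroup.closure {g, y0} = ⊤) →
      (1 - ε) * (Nat.card G : ℝ) ≤ Nat.card {y : G // Subgroup.closure {g, y} = ⊤})
    (hS : H424.Spr.Spr T) :
    (∀ x : T, x ≠ 1 → (missX T x : ℝ) ≤ ε * Nat.card T) ∧ (missC T : ℝ) ≤ ε * (Nat.card T : ℝ) ^ 2 := by
  have hZ : 0 < Nat.card f.ker := Nat.card_pos
  have hZ' : (0 : ℝ) < Nat.card f.ker := by exact_mod_cast hZ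
  have hcard : Nat.card G = Nat.card f.ker * Nat.card T := by
    have h := card_preimage f hf (fun _ => True)
    have e1 : Nat.card {g : G // True} = Nat.card G := Nat.card_congr (Equiv.subtypeUnivEquiv fun _ => trivial)
    have e2 : Nat.card {g : T // True} = Nat.card T := Nat.card_congr (Equiv.subtypeUnivEquiv fun _ => trivial)
    rwa [e1, e2] at h
  -- `T` is not commutative
  have hnc : ¬ ∀ a b : T, a * b = b * a := by
    intro hab
    obtain ⟨t, ht⟩ := exists_ne (1 : T)
    have hcomm : ∀ g : G, f g = 1 := by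
      intro g
      have hg : g ∈ commutator G := by
        rw [hG.perf]
        exact mem_top g
      have hle : commutator G ≤ f.ker := by
        rw [commutator_def, commutator_le]
        intro a _ b _
        rw [MonoidHom.mem_ker, commutatorElement_def, map_mul, map_mul, map_mul, map_inv, map_inv, hab (f a) (f b)]
        group
      exact hle hg
    obtain ⟨g, hg⟩ := hf t
    exact ht (hg.symm.trans (hcomm g))
  have hcen : ∀ x : T, x ≠ 1 → (MulAut.conj x : MulAut T) ≠ 1 := by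
    intro x hx h
    have hxc : x ∈ center T := by
      rw [mem_center_iff]
      intro y
      have h3 := congrArg (fun a : MulAut T => a y) h
      simp only [MulAut.conj_apply, MulAut.one_apply] at h3
      rw [mul_inv_eq_iff_eq_mul] at h3
      exact h3.symm
    rcases (inferInstance : (center T).Normal).eq_bot_or_eq_top with h4 | h4
    · rw [h4, mem_bot] at hxc
      exact hx hxc
    · apply hnc
      intro a b
      have : b ∈ center T := by
        rw [h4]
        exact mem_top b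
      exact (mem_center_iff.1 this a)
  -- the fixed element
  constructor
  · intro x hx
    obtain ⟨y, hy⟩ := hS (MulAut.conj x) (hcen x hx)
    obtain ⟨g, rfl⟩ := hf x
    obtain ⟨y', rfl⟩ := hf y
    have hgen : _root_.Subgroup.closure {g, y'} = ⊤ := by
      rw [closure_top_iff f hf hker hG.perf, Set.image_pair]
      apply hy
      · exact _root_.Subgroup.subset_closure (Set.mem_insert_of_mem _ rfl)
      · intro k hk
        have hgx : f g ∈ _root_.Subgroup.closure {f g, f y'} := _root_.Subgroup.subset_closure (Set.mem_insert _ _)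
        exact mul_mem (mul_mem hgx hk) (inv_mem hgx)
    have h3 := h2 g ⟨y', hgen⟩
    rw [H262.Rx.card_not] at h3
    have h4 : Nat.card {y : G // ¬ closure {g, y} = ⊤} = Nat.card f.ker * missX T (f g) := by
      rw [missX, ← card_preimage f hf (fun y => _root_.Subgroup.closure {f g, y} ≠ ⊤)]
      refine Nat.card_congr (Equiv.subtypeEquivRight fun y => ?_)
      rw [closure_top_iff f hf hker hG.perf, Set.image_pair]
    rw [h4, hcard] at h3
    push_cast at h3
    have h5 : (Nat.card f.ker : ℝ) * missX T (f g) ≤ Nat.card f.ker * (ε * Nat.card T) := by linarith only [h3]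
    exact le_of_mul_le_mul_left h5 hZ'
  · -- the conjugate pair
    have h2T : 2 ∣ Nat.card T := by
      by_contra hodd
      have hs := Cfsg.Agent.S0205.result (G := T) (Nat.not_even_iff_odd.1 fun h => hodd h.two_dvd)
      exact hnc (IsSimpleGroup.comm_iff_isSolvable.2 hs)
    obtain ⟨t, ht⟩ := exists_prime_orderOf_dvd_card' 2 h2T
    have ht1 : t ≠ 1 := by
      rintro rfl
      rw [orderOf_one] at ht
      omega
    have htt : t * t = 1 := by
      rw [← pow_two, ← ht, pow_orderOf_eq_one]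
    obtain ⟨y, hy⟩ := hS (MulAut.conj t) (hcen t ht1)
    have hK : _root_.Subgroup.closure {y, t * y * t⁻¹} = ⊤ := by
      apply hy
      · exact _root_.Subgroup.subset_closure (Set.mem_insert _ _)
      · intro k hk
        have h3 : closure {y, t * y * t⁻¹} ≤ (closure {y, t * y * t⁻¹}).comap (MulAut.conj t).toMonoidHom := by
          rw [closure_le]
          rintro z (rfl | rfl)
          · exact _root_.Subgroup.subset_closure (Set.mem_insert_of_mem _ rfl)
          · change t * (t * y * t⁻¹) * t⁻¹ ∈ closure {y, t * y * t⁻¹}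
            have e : t * (t * y * t⁻¹) * t⁻¹ = y := by
              have ti : t⁻¹ = t := inv_eq_of_mul_eq_one_left htt
              rw [ti]
              calc t * (t * y * t) * t = (t * t) * y * (t * t) := by group
                _ = y := by rw [htt]; group
            rw [e]
            exact _root_.Subgroup.subset_closure (Set.mem_insert _ _)
        exact h3 hk
    obtain ⟨x0, rfl⟩ := hf y
    obtain ⟨y0, rfl⟩ := hf t
    have hgen : _root_.Subgroup.closure {x0, y0 * x0 * y0⁻¹} = ⊤ := by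
      rw [closure_top_iff f hf hker hG.perf, Set.image_pair, map_mul, map_mul, map_inv]
      exact hK
    have h3 := h1 ⟨x0, y0, hgen⟩
    rw [H262.Rx.card_not, Nat.card_prod] at h3
    let F : G × G →* T × T := f.prodMap f
    have hF : Function.Surjective F := hf.prodMap hf
    have hFk : Nat.card F.ker = Nat.card f.ker ^ 2 := by
      have e : F.ker ≃ f.ker × f.ker := {
        toFun := fun x => (⟨x.1.1, congrArg Prod.fst (MonoidHom.mem_ker.1 x.2)⟩, ⟨x.1.2, congrArg Prod.snd (MonoidHom.mem_ker.1 x.2)⟩)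
        invFun := fun x => ⟨(x.1.1, x.2.1), MonoidHom.mem_ker.2 (Prod.ext (MonoidHom.mem_ker.1 x.1.2) (MonoidHom.mem_ker.1 x.2.2))⟩
        left_inv := fun _ => rfl
        right_inv := fun _ => rfl }
      rw [Nat.card_congr e, Nat.card_prod, pow_two]
    have h4 : Nat.card {z : G × G // ¬ _root_.Subgroup.closure {z.1, z.2 * z.1 * z.2⁻¹} = ⊤} = Nat.card f.ker ^ 2 * missC T := by
      rw [missC, ← hFk, ← card_preimage F hF (fun p => _root_.Subgroup.closure {p.1, p.2 * p.1 * p.2⁻¹} ≠ ⊤)]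
      refine Nat.card_congr (Equiv.subtypeEquivRight fun z => ?_)
      rw [closure_top_iff f hf hker hG.perf, Set.image_pair, map_mul, map_mul, map_inv]
      rfl
    rw [h4, hcard] at h3
    push_cast at h3
    have h5 : (Nat.card f.ker : ℝ) ^ 2 * missC T ≤ (Nat.card f.ker : ℝ) ^ 2 * (ε * (Nat.card T : ℝ) ^ 2) := by linarith only [h3]
    exact le_of_mul_le_mul_left h5 (by positivity)

/-- A8 with an exceptional set -/
theorem miss_of_row2 (hDc : StDensConj.{0, 0}) (hDf : StDensFix.{0, 0}) (hP : StTypPow.{0, 0}) (hT : StTypTr.{0, 0})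
    (C : ℕ) (ε : ℝ) (hε : 0 < ε) :
    ∃ Q : ℕ, ∀ q, Q ≤ q → ∀ (G T : Type) [Group G] [Group T] [Finite G] [Finite T] [IsSimpleGroup T] (f : G →* T),
      Function.Surjective f → f.ker = center G → QS G → Row2.{0, 0} C q G → H424.Spr.Spr T →
      (∀ x : T, x ≠ 1 → (missX T x : ℝ) ≤ ε * Nat.card T) ∧ (missC T : ℝ) ≤ ε * (Nat.card T : ℝ) ^ 2 := by
  obtain ⟨Q1, h1⟩ := row2_conj hDc hP hT C ε hε
  obtain ⟨Q2, h2⟩ := row2_fix hDf hP hT C ε hε
  refine ⟨max Q1 Q2, fun q hq G T _ _ _ _ _ f hf hker hG hrow hS => ?_⟩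
  exact miss_core f hf hker hG (h1 q ((le_max_left _ _).trans hq) G hrow)
    (fun g => h2 q ((le_max_right _ _).trans hq) G hrow g) hS

end miss

end Cfsg.Agent.H815.BR
end

private theorem dce_2db88e0103e8 : _root_.True := by
  try have : _root_.True := by simp only [_root_.Cfsg.Agent.H262.Rx.missX.eq_1]
  try have : _root_.True := by simp only [_root_.Cfsg.Agent.H262.Rx.missC.eq_1]
  exact _root_.True.intro
end
end
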